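import Cfsg.Agent.SU3Pres.Count
import Cfsg.Agent.Unitary.Simple
import Cfsg.Prelude.Def_LieRecognition

/-!
`PSU₃(q)`, `q = 2^n`, as a rank one set-up on the cosets of its Borel subgroup.
-/

set_option autoImplicit false
set_option linter.unusedSectionVars false
set_option linter.style.haveILetI false

namespace CfsgLib.Recog.RankOneSuzuki.Model

open Matrix CfsgLib.Forms CfsgLib.Unitary CfsgLib.SU3Pres

variable {F : Type*} [Field F] [Finite F] {q : ℕ} (hF : Nat.card F = q ^ 2)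

include hF

/-- The unipotent subgroup. -/
def unip : Subgroup (HU F q) where
  carrier := Set.range (uP (q := q) hF)
  one_mem' := ⟨⟨(0, 0), vld_zero hF⟩, uel_zero hF⟩
  mul_mem' := by
    rintro x y ⟨z, rfl⟩ ⟨w, rfl⟩
    exact ⟨⟨(z.1.1 + w.1.1, z.1.2 + w.1.2 - z.1.1 * w.1.1 ^ q), vld_mul hF z.2 w.2⟩,
      (uel_mul hF z.2 w.2).symm⟩
  inv_mem' := by
    rintro x ⟨z, rfl⟩
    obtain ⟨⟨a, b⟩, h⟩ := z
    have h0 : b + b ^ q + a * a ^ q = 0 := h
    have h' : Vld q (-a) (-b - a * a ^ q) := by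
      unfold Vld
      rw [qsub hF, qneg hF, qneg hF, mul_pow, pow_q_q hF]
      linear_combination -h0
    refine ⟨⟨(-a, -b - a * a ^ q), h'⟩, eq_inv_of_mul_eq_one_right ?_⟩
    show uel hF a b h * uel hF _ _ h' = 1
    rw [uel_mul, ← uel_zero hF]
    refine uel_congr hF _ _ (by ring) ?_
    rw [qneg hF]; ring

theorem uP_mem (z : UP F q) : uP hF z ∈ unip hF := ⟨z, rfl⟩

theorem card_unip : Nat.card (unip (F := F) (q := q) hF) = q ^ 3 := by
  have hinj : Function.Injective (uP (q := q) hF) := fun z w e => by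
    obtain ⟨h1, h2⟩ := uel_injective hF e
    exact Subtype.ext (Prod.ext h1 h2)
  have h : Nat.card (Set.range (uP (q := q) hF)) = Nat.card (UP F q) :=
    Nat.card_range_of_injective hinj
  rw [← card_UP hF, ← h]
  rfl

theorem tel_normalises (k : Fˣ) {u : HU F q} (hu : u ∈ unip hF) :
    tel hF k * u * (tel hF k)⁻¹ ∈ unip hF := by
  obtain ⟨z, rfl⟩ := hu
  exact ⟨⟨(lam q (k : F) * z.1.1, (k : F) * (k : F) ^ q * z.1.2), vld_conj hF k.ne_zero z.2⟩,
    (tel_conj hF k z.2).symm⟩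

/-- The Borel subgroup. -/
def borel : Subgroup (HU F q) where
  carrier := {g | ∃ u ∈ unip hF, ∃ k, g = u * tel hF k}
  one_mem' := ⟨1, one_mem _, 1, by rw [map_one, mul_one]⟩
  mul_mem' := by
    rintro x y ⟨u, hu, k, rfl⟩ ⟨v, hv, l, rfl⟩
    exact ⟨u * (tel hF k * v * (tel hF k)⁻¹), mul_mem hu (tel_normalises hF k hv), k * l,
      by rw [map_mul]; group⟩
  inv_mem' := by
    rintro x ⟨u, hu, k, rfl⟩
    exact ⟨tel hF k⁻¹ * u⁻¹ * (tel hF k⁻¹)⁻¹, tel_normalises hF k⁻¹ (inv_mem hu), k⁻¹,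
      by rw [map_inv]; group⟩

theorem borel_conj {g u : HU F q} (hg : g ∈ borel hF) (hu : u ∈ unip hF) :
    g * u * g⁻¹ ∈ unip hF := by
  obtain ⟨v, hv, k, rfl⟩ := hg
  have h := mul_mem (mul_mem hv (tel_normalises hF k hu)) (inv_mem hv)
  convert h using 1
  group

theorem borel_row {g : HU F q} (hg : g ∈ borel hF) : hMat g 2 0 = 0 ∧ hMat g 2 1 = 0 := by
  obtain ⟨u, ⟨z, rfl⟩, k, rfl⟩ := hg
  exact ⟨by rw [hMat_cell_none, if_neg (by decide)], by rw [hMat_cell_none, if_neg (by decide)]⟩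

theorem wel_not_mem : wel (q := q) hF ∉ borel hF := fun h => by
  have := (borel_row hF h).1
  rw [hMat_wel] at this
  simp [wMat] at this

theorem wel_inv : (wel (q := q) hF)⁻¹ = wel hF := inv_eq_of_mul_eq_one_right (wel_sq hF)

theorem unip_wel {u : HU F q} (hu : u ∈ unip hF) (h : wel hF * u * wel hF ∈ borel hF) : u = 1 := by
  obtain ⟨⟨⟨a, b⟩, hab⟩, rfl⟩ := hu
  obtain ⟨h0, h1⟩ := borel_row hF h
  rw [hMat_mul, hMat_mul, hMat_wel, uP, hMat_uel] at h0 h1
  have hb : b = 0 := by simpa [wMat, uMat, Matrix.mul_apply, Fin.sum_univ_three] using h0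
  have ha : a = 0 := by simpa [wMat, uMat, Matrix.mul_apply, Fin.sum_univ_three] using h1
  subst ha hb
  exact uel_zero hF

theorem borel_inter {g : HU F q} (hg : g ∈ borel hF) (h : wel hF * g * wel hF ∈ borel hF) :
    ∃ k, g = tel hF k := by
  obtain ⟨u, hu, k, rfl⟩ := hg
  have hk : (tel hF ((k : Fˣ) ^ q)⁻¹)⁻¹ ∈ borel hF :=
    inv_mem ⟨1, one_mem _, _, (one_mul _).symm⟩
  have h' := mul_mem h hk
  rw [← wel_conj hF k] at h'
  have hu1 : u = 1 := unip_wel hF hu (by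
    convert h' using 1
    simp only [_root_.mul_inv_rev, inv_inv, wel_inv, mul_assoc]
    rw [← mul_assoc (wel hF) (wel hF), wel_sq, one_mul, ← mul_assoc (tel hF k) (tel hF k)⁻¹,
      mul_inv_cancel, one_mul])
  exact ⟨k, by rw [hu1, one_mul]⟩

theorem center_mem {g : HU F q} (hg : g ∈ Subgroup.center (HU F q)) :
    ∃ k, g = tel hF k := by
  rw [Subgroup.mem_center_iff] at hg
  have hgB : g ∈ borel hF := by
    obtain ⟨⟨z, k, o⟩, rfl⟩ := (cellFun_bijective hF).2 g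
    rcases o with - | w
    · exact ⟨_, uP_mem hF z, k, rfl⟩
    · exfalso
      simp only [cellFun] at hg
      set b : HU F q := uP hF z * tel hF k with hbdef
      set v : HU F q := uP hF w with hvdef
      have hb : b ∈ borel hF := ⟨_, uP_mem hF z, k, rfl⟩
      have hv : v ∈ borel hF := ⟨_, uP_mem hF w, 1, by rw [map_one, mul_one]⟩
      have key : ∀ x ∈ unip hF, wel hF * x * wel hF ∈ borel hF := by
        intro x hx
        have hx' : v⁻¹ * x * v ∈ borel hF :=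
          mul_mem (mul_mem (inv_mem hv) ⟨x, hx, 1, by rw [map_one, mul_one]⟩) hv
        have e : wel hF * x * wel hF = b⁻¹ * (v⁻¹ * x * v) * b := by
          have h := hg (v⁻¹ * x * v)
          calc wel hF * x * wel hF = wel hF * x * (wel hF)⁻¹ := by rw [wel_inv]
            _ = b⁻¹ * (b * wel hF * v * (v⁻¹ * x * v)) * (wel hF * v)⁻¹ := by group
            _ = b⁻¹ * ((v⁻¹ * x * v) * (b * wel hF * v)) * (wel hF * v)⁻¹ := by rw [h]
            _ = b⁻¹ * (v⁻¹ * x * v) * b := by group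
        rw [e]
        exact mul_mem (mul_mem (inv_mem hb) hx') hb
      have hall : ∀ x ∈ unip hF, x = 1 := fun x hx => unip_wel hF hx (key x hx)
      have hbot : unip hF = (⊥ : Subgroup (HU F q)) := (Subgroup.eq_bot_iff_forall _).2 hall
      have h1 := card_unip hF
      rw [hbot, Subgroup.card_bot] at h1
      have := Nat.one_lt_pow (n := 3) (by norm_num) (two_le_q hF)
      omega
  exact borel_inter hF hgB (by rw [hg, mul_assoc, wel_sq, mul_one]; exact hgB)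

theorem center_le : Subgroup.center (HU F q) ≤ borel hF := fun g hg => by
  obtain ⟨k, rfl⟩ := center_mem hF hg
  exact ⟨1, one_mem _, k, (one_mul _).symm⟩

theorem bruhat (g : HU F q) :
    g ∈ borel hF ∨ ∃ b ∈ borel hF, ∃ u ∈ unip hF, g = b * wel hF * u := by
  obtain ⟨⟨z, k, o⟩, rfl⟩ := (cellFun_bijective hF).2 g
  rcases o with - | w
  · exact Or.inl ⟨_, uP_mem hF z, k, rfl⟩
  · exact Or.inr ⟨_, ⟨_, uP_mem hF z, k, rfl⟩, _, uP_mem hF w, rfl⟩

end CfsgLib.Recog.RankOneSuzuki.Model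

namespace CfsgLib.Recog.RankOneSuzuki

open Matrix CfsgLib.Forms CfsgLib.Unitary CfsgLib.SU3Pres

/-- `PSU₃(2^n)` is a rank one set-up with non-abelian `Q` of order `q ^ 3`. -/
theorem exists_psu_setup {F : Type} [Field F] [Fintype F] {n : ℕ} (hn : 2 ≤ n)
    (hF : Fintype.card F = (2 ^ n) ^ 2) :
    ∃ (Om : Type) (_ : MulAction (Cfsg.PSU 3 F (2 ^ n)) Om) (_ : FaithfulSMul (Cfsg.PSU 3 F (2 ^ n)) Om)
      (a : Om) (t : Cfsg.PSU 3 F (2 ^ n)) (Q : Subgroup (Cfsg.PSU 3 F (2 ^ n))),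
      Cfsg.IsRankOneSetup (Cfsg.PSU 3 F (2 ^ n)) Om a t Q ∧
      (∃ x y : Cfsg.PSU 3 F (2 ^ n), x ≠ 1 ∧ y ≠ 1 ∧ x ≠ y ∧ x * x = 1 ∧ y * y = 1 ∧ x * y = y * x) ∧
      Nat.card Q = (2 ^ n) ^ 3 ∧ (∃ x ∈ Q, ∃ y ∈ Q, x * y ≠ y * x) ∧
      IsSimpleGroup (Cfsg.PSU 3 F (2 ^ n)) ∧
      (∀ Z : Subgroup (Cfsg.PSU 3 F (2 ^ n)), (∀ x ∈ Z, x ∈ Q ∧ x * x = 1) → Nat.card Z ≤ 2 ^ n) := by
  classical
  have hF' : Nat.card F = (2 ^ n) ^ 2 := by rw [Nat.card_eq_fintype_card, hF]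
  have hq4 : 4 ≤ 2 ^ n := by simpa using Nat.pow_le_pow_right (show 1 ≤ 2 by norm_num) hn
  have hsimp : IsSimpleGroup (Cfsg.PSU 3 F (2 ^ n)) :=
    isSimpleGroup_PSU hF' le_rfl (by omega)
  haveI := hsimp
  obtain ⟨e⟩ := nonempty_equiv hF'
  let π : HU F (2 ^ n) →* Cfsg.PSU 3 F (2 ^ n) :=
    (QuotientGroup.mk' (Subgroup.center (Cfsg.SU 3 F (2 ^ n)))).comp e.toMonoidHom
  have hπs : Function.Surjective π := (QuotientGroup.mk'_surjective _).comp e.surjective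
  have hker : ∀ g, π g = 1 ↔ g ∈ Subgroup.center (HU F (2 ^ n)) := by
    intro g
    show QuotientGroup.mk' (Subgroup.center (Cfsg.SU 3 F (2 ^ n))) (e g) = 1 ↔ _
    rw [← MonoidHom.mem_ker, QuotientGroup.ker_mk', Subgroup.mem_center_iff, Subgroup.mem_center_iff]
    refine ⟨fun h y => e.injective (by rw [map_mul, map_mul, h]), fun h y => ?_⟩
    obtain ⟨y, rfl⟩ := e.surjective y
    rw [← map_mul, ← map_mul, h]
  let B : Subgroup (Cfsg.PSU 3 F (2 ^ n)) := (Model.borel hF').map π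
  let Q : Subgroup (Cfsg.PSU 3 F (2 ^ n)) := (Model.unip hF').map π
  let t : Cfsg.PSU 3 F (2 ^ n) := π (wel hF')
  have hBmem : ∀ {g}, π g ∈ B → g ∈ Model.borel hF' := by
    rintro g ⟨b, hb, hbg⟩
    have : b⁻¹ * g ∈ Subgroup.center (HU F (2 ^ n)) :=
      (hker _).1 (by rw [map_mul, map_inv, hbg, inv_mul_cancel])
    simpa using mul_mem hb (Model.center_le hF' this)
  have hQB : Q ≤ B := Subgroup.map_mono fun u hu => ⟨u, hu, 1, by rw [map_one, mul_one]⟩
  have htt : t * t = 1 := by rw [← map_mul, wel_sq, map_one]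
  have htinv : t⁻¹ = t := inv_eq_of_mul_eq_one_right htt
  have htB : t ∉ B := fun h => Model.wel_not_mem hF' (hBmem h)
  let Om := Cfsg.PSU 3 F (2 ^ n) ⧸ B
  let a : Om := ((1 : Cfsg.PSU 3 F (2 ^ n)) : Om)
  have hstab : MulAction.stabilizer (Cfsg.PSU 3 F (2 ^ n)) a = B := by
    ext g
    rw [MulAction.mem_stabilizer_iff]
    show ((g * 1 : Cfsg.PSU 3 F (2 ^ n)) : Om) = ((1 : Cfsg.PSU 3 F (2 ^ n)) : Om) ↔ _
    rw [mul_one, QuotientGroup.eq, mul_one, inv_mem_iff]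
  have hstabt : ∀ g, g ∈ MulAction.stabilizer (Cfsg.PSU 3 F (2 ^ n)) (t • a) ↔ t * g * t ∈ B := by
    intro g
    rw [MulAction.mem_stabilizer_iff]
    show ((g * (t * 1) : Cfsg.PSU 3 F (2 ^ n)) : Om) = ((t * 1 : Cfsg.PSU 3 F (2 ^ n)) : Om) ↔ _
    rw [mul_one, QuotientGroup.eq, ← inv_mem_iff (x := t * g * t), _root_.mul_inv_rev, _root_.mul_inv_rev,
      _root_.mul_inv_rev, htinv, mul_assoc]
  -- Bruhat decomposition downstairs
  have hcell : ∀ g, g ∉ B → ∃ b ∈ B, ∃ c ∈ B, g = b * t * c := by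
    intro g hg
    obtain ⟨g, rfl⟩ := hπs g
    rcases Model.bruhat hF' g with h | ⟨b, hb, u, hu, rfl⟩
    · exact absurd ⟨g, h, rfl⟩ hg
    · exact ⟨_, ⟨b, hb, rfl⟩, _, hQB ⟨u, hu, rfl⟩, by rw [map_mul, map_mul]⟩
  have h2 : MulAction.IsMultiplyPretransitive (Cfsg.PSU 3 F (2 ^ n)) Om 2 := by
    rw [MulAction.is_two_pretransitive_iff]
    have key : ∀ x y : Om, x ≠ y → ∃ g : Cfsg.PSU 3 F (2 ^ n), g • a = x ∧ g • (t • a) = y := by
      intro x y hxy
      induction x using QuotientGroup.induction_on with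
      | H g =>
        induction y using QuotientGroup.induction_on with
        | H h =>
          have hne : g⁻¹ * h ∉ B := fun hm => hxy (QuotientGroup.eq.2 hm)
          obtain ⟨b, hb, c, hc, hbc⟩ := hcell _ hne
          refine ⟨g * b, ?_, ?_⟩
          · show ((g * b * 1 : Cfsg.PSU 3 F (2 ^ n)) : Om) = _
            rw [mul_one, QuotientGroup.eq]
            simpa [mul_assoc] using hb
          · show ((g * b * (t * 1) : Cfsg.PSU 3 F (2 ^ n)) : Om) = _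
            rw [mul_one, QuotientGroup.eq]
            have : (g * b * t)⁻¹ * h = c := by
              rw [inv_mul_eq_iff_eq_mul, mul_assoc g, mul_assoc g, ← hbc, mul_inv_cancel_left]
            rw [this]
            exact hc
    intro p r u v hpr huv
    obtain ⟨g, hg1, hg2⟩ := key p r hpr
    obtain ⟨g', hg1', hg2'⟩ := key u v huv
    exact ⟨g' * g⁻¹, by rw [mul_smul, ← hg1, inv_smul_smul, hg1'],
      by rw [mul_smul, ← hg2, inv_smul_smul, hg2']⟩
  have hne : t • a ≠ a := fun h => htB (by rw [← hstab]; exact MulAction.mem_stabilizer_iff.2 h)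
  have hfaith : FaithfulSMul (Cfsg.PSU 3 F (2 ^ n)) Om := by
    let f := MulAction.toPermHom (Cfsg.PSU 3 F (2 ^ n)) Om
    rcases IsSimpleGroup.eq_bot_or_eq_top_of_normal f.ker inferInstance with h | h
    · refine ⟨fun {g g'} hgg => ?_⟩
      exact (MonoidHom.ker_eq_bot_iff f).1 h (Equiv.ext hgg)
    · exfalso
      have ht : t ∈ f.ker := by rw [h]; trivial
      exact hne (DFunLike.congr_fun (MonoidHom.mem_ker.1 ht) a)
  have hQinj : ∀ {u}, u ∈ Model.unip hF' → π u = 1 → u = 1 := by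
    intro u hu h
    obtain ⟨k, hk⟩ := Model.center_mem hF' ((hker u).1 h)
    obtain ⟨z, rfl⟩ := hu
    have hb := Model.borel_inter hF' (g := uP hF' z) ⟨_, Model.uP_mem hF' z, 1, by rw [map_one, mul_one]⟩
      (by rw [hk, ← Model.wel_inv hF']; exact ⟨1, one_mem _, ((k : Fˣ) ^ (2 ^ n))⁻¹, by
        rw [one_mul, ← wel_conj hF', Model.wel_inv hF']⟩)
    have h2 : uP hF' z * tel hF' 1 = uP hF' ⟨(0, 0), vld_zero hF'⟩ * tel hF' k := by
      rw [map_one, mul_one, hk]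
      show _ = uel hF' 0 0 _ * _
      rw [uel_zero, one_mul]
    rw [(borel_inj hF' h2).1]
    exact uel_zero hF'
  have hQcard : Nat.card Q = (2 ^ n) ^ 3 := by
    rw [← Model.card_unip hF']
    refine (Nat.card_congr (Equiv.ofBijective (fun u : Model.unip hF' => (⟨π u, _, u.2, rfl⟩ : Q))
      ⟨fun u v huv => ?_, ?_⟩)).symm
    · have h' : π u = π v := congrArg Subtype.val huv
      refine Subtype.ext (eq_of_inv_mul_eq_one (hQinj (mul_mem (inv_mem u.2) v.2) ?_))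
      rw [map_mul, map_inv, h', inv_mul_cancel]
    · rintro ⟨_, u, hu, rfl⟩
      exact ⟨⟨u, hu⟩, rfl⟩
  have hD : ∀ g ∈ MulAction.stabilizer (Cfsg.PSU 3 F (2 ^ n)) a ⊓
      MulAction.stabilizer (Cfsg.PSU 3 F (2 ^ n)) (t • a), ∃ k, g = π (tel hF' k) := by
    intro g hg
    rw [Subgroup.mem_inf, hstab, hstabt] at hg
    obtain ⟨⟨b, hb, rfl⟩, hg2⟩ := hg
    rw [← map_mul, ← map_mul] at hg2
    obtain ⟨k, rfl⟩ := Model.borel_inter hF' hb (hBmem hg2)
    exact ⟨k, rfl⟩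
  have hT : ∀ k, π (tel hF' k) ∈ MulAction.stabilizer (Cfsg.PSU 3 F (2 ^ n)) a ⊓
      MulAction.stabilizer (Cfsg.PSU 3 F (2 ^ n)) (t • a) := by
    intro k
    rw [Subgroup.mem_inf, hstab, hstabt]
    refine ⟨⟨_, ⟨1, one_mem _, k, (one_mul _).symm⟩, rfl⟩, ?_⟩
    rw [← map_mul, ← map_mul]
    exact ⟨_, ⟨1, one_mem _, ((k : Fˣ) ^ (2 ^ n))⁻¹, by
      rw [one_mul, ← wel_conj hF', Model.wel_inv hF']⟩, rfl⟩
  haveI : CharP F 2 := by
    obtain ⟨p, hp⟩ := CharP.exists F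
    haveI := hp
    haveI : Fact p.Prime := ⟨CharP.char_is_prime F p⟩
    obtain ⟨m, -, hm⟩ := FiniteField.card F p
    have h2dvd : 2 ∣ p ^ (m : ℕ) := by
      rw [← hm, hF, ← pow_mul]; exact dvd_pow_self 2 (by omega)
    have := (Nat.prime_dvd_prime_iff_eq Nat.prime_two (Fact.out : p.Prime)).1
      (Nat.prime_two.dvd_of_dvd_pow h2dvd)
    subst this; exact hp
  refine ⟨Om, inferInstance, hfaith, a, t, Q, ⟨h2, htt, fun h => htB (by rw [h]; exact one_mem _),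
    by rwa [hstab], by rwa [hstab], ?_, ?_, ?_, ?_, ?_⟩, ?_, hQcard, ?_, hsimp, ?_⟩
  · rw [hstab]
    rintro _ ⟨b, hb, rfl⟩ _ ⟨u, hu, rfl⟩
    exact ⟨_, Model.borel_conj hF' hb hu, by rw [map_mul, map_mul, map_inv]⟩
  · rw [Subgroup.eq_bot_iff_forall]
    rintro _ ⟨⟨u, hu, rfl⟩, h⟩
    have h' := (hstabt _).1 h
    rw [← map_mul, ← map_mul] at h'
    rw [Model.unip_wel hF' hu (hBmem h'), map_one]
  · rw [hstab]
    refine le_antisymm (sup_le hQB inf_le_left) ?_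
    rintro _ ⟨_, ⟨u, hu, k, rfl⟩, rfl⟩
    rw [map_mul]
    have h := hT k
    rw [hstab] at h
    exact Subgroup.mul_mem_sup ⟨u, hu, rfl⟩ h
  · rw [hQcard, ← pow_mul, Nat.even_pow]
    exact ⟨even_two, by omega⟩
  · have hle : MulAction.stabilizer (Cfsg.PSU 3 F (2 ^ n)) a ⊓
        MulAction.stabilizer (Cfsg.PSU 3 F (2 ^ n)) (t • a) = (π.comp (tel hF')).range := by
      ext g
      exact ⟨fun hg => (hD g hg).imp fun k hk => hk.symm, fun ⟨k, hk⟩ => hk ▸ hT k⟩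
    rw [hle]
    refine Odd.of_dvd_nat ?_ (Subgroup.card_range_dvd _)
    rw [Nat.card_units, hF', ← pow_mul]
    exact Nat.Even.sub_odd (Nat.one_le_two_pow) (Nat.even_pow.2 ⟨even_two, by omega⟩) odd_one
  · -- a four group
    have hs : (2 : ℕ) < Nat.card (FixQ F (2 ^ n)) := by rw [card_FixQ hF']; omega
    haveI := Fintype.ofFinite (FixQ F (2 ^ n))
    have h0 : ((0 : F) ^ (2 ^ n) = 0) := qzero hF'
    haveI : Nontrivial (FixQ F (2 ^ n)) := Finite.one_lt_card_iff_nontrivial.1 (by omega)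
    obtain ⟨b, hb⟩ := exists_ne (⟨0, h0⟩ : FixQ F (2 ^ n))
    obtain ⟨c, hc0, hcb⟩ : ∃ c : FixQ F (2 ^ n), c ≠ ⟨0, h0⟩ ∧ c ≠ b := by
      by_contra hcon
      push Not at hcon
      have : (Finset.univ : Finset (FixQ F (2 ^ n))) ⊆ {⟨0, h0⟩, b} := fun c _ => by
        simp only [Finset.mem_insert, Finset.mem_singleton]
        exact or_iff_not_imp_left.2 (hcon c)
      have h3 := Finset.card_le_card this
      rw [Finset.card_univ, ← Nat.card_eq_fintype_card] at h3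
      have h4 := Finset.card_le_two (a := (⟨0, h0⟩ : FixQ F (2 ^ n))) (b := b)
      omega
    have hv : ∀ x : FixQ F (2 ^ n), Vld (2 ^ n) (0 : F) x.1 := fun x => by
      unfold Vld
      rw [x.2, CharTwo.add_self_eq_zero, zero_mul, add_zero]
    let z : FixQ F (2 ^ n) → Cfsg.PSU 3 F (2 ^ n) := fun x => π (uP hF' ⟨(0, x.1), hv x⟩)
    have hz : ∀ x y, z x = z y → x = y := fun x y h => by
      have hm := hQinj (mul_mem (inv_mem (Model.uP_mem hF' ⟨(0, x.1), hv x⟩))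
        (Model.uP_mem hF' ⟨(0, y.1), hv y⟩))
        (show π _ = 1 by rw [map_mul, map_inv]; exact inv_mul_eq_one.2 h)
      exact Subtype.ext (uel_injective hF' (eq_of_inv_mul_eq_one hm)).2
    have hz0 : z ⟨0, h0⟩ = 1 := by
      show π (uel hF' 0 0 _) = 1
      rw [uel_zero, map_one]
    have hzz : ∀ x y : FixQ F (2 ^ n), z x * z y = π (uP hF' ⟨(0, x.1 + y.1),
        by simpa using hv ⟨x.1 + y.1, by rw [add_pow_q hF', x.2, y.2]⟩⟩) := fun x y => by
      show π _ * π _ = _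
      rw [← map_mul]
      exact congrArg π ((uel_mul hF' (hv x) (hv y)).trans (uel_congr hF' _ _ (add_zero 0) (by simp)))
    refine ⟨z b, z c, fun h => hb (hz _ _ (h.trans hz0.symm)), fun h => hc0 (hz _ _ (h.trans hz0.symm)),
      fun h => hcb (hz _ _ h).symm, ?_, ?_, ?_⟩
    · rw [hzz, ← hz0]
      exact congrArg π (uel_congr hF' _ _ rfl (CharTwo.add_self_eq_zero _))
    · rw [hzz, ← hz0]
      exact congrArg π (uel_congr hF' _ _ rfl (CharTwo.add_self_eq_zero _))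
    · rw [hzz, hzz]
      exact congrArg π (uel_congr hF' _ _ rfl (add_comm _ _))
  · -- non-commuting
    obtain ⟨c, hc⟩ : ∃ c : F, c ^ (2 ^ n) ≠ c := by
      by_contra hcon
      push Not at hcon
      have h1 : Nat.card (FixQ F (2 ^ n)) = Nat.card F :=
        Nat.card_congr (Equiv.subtypeUnivEquiv hcon)
      rw [card_FixQ hF', hF'] at h1
      nlinarith
    obtain ⟨r, hr⟩ := exists_trace_eq hF' (μ := (-1 : F)) (by rw [qneg hF', one_pow])
    have hn1 : ∀ x : F, (x * x ^ (2 ^ n)) ^ (2 ^ n) = x * x ^ (2 ^ n) := fun x => by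
      rw [mul_pow, pow_q_q hF', mul_comm]
    have hv : ∀ x : F, Vld (2 ^ n) x (r * (x * x ^ (2 ^ n))) := fun x => by
      unfold Vld
      rw [mul_pow, hn1]
      linear_combination (x * x ^ (2 ^ n)) * hr
    refine ⟨_, ⟨_, Model.uP_mem hF' ⟨(1, _), hv 1⟩, rfl⟩, _,
      ⟨_, Model.uP_mem hF' ⟨(c, _), hv c⟩, rfl⟩, fun h => ?_⟩
    rw [← map_mul, ← map_mul] at h
    have hm : uP hF' ⟨(1, _), hv 1⟩ * uP hF' ⟨(c, _), hv c⟩ =
        uP hF' ⟨(c, _), hv c⟩ * uP hF' ⟨(1, _), hv 1⟩ :=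
      eq_of_inv_mul_eq_one (hQinj (mul_mem (inv_mem (mul_mem (Model.uP_mem hF' _) (Model.uP_mem hF' _)))
        (mul_mem (Model.uP_mem hF' _) (Model.uP_mem hF' _))) (by rw [map_mul, map_inv, h, inv_mul_cancel]))
    have h2 := (uel_injective hF' (((uel_mul hF' (hv 1) (hv c)).symm.trans hm).trans
      (uel_mul hF' (hv c) (hv 1)))).2
    rw [one_pow] at h2
    apply hc
    linear_combination -h2
  · -- the involutions of the kernel
    intro Z hZ
    have hex : ∀ x : Z, ∃ b : FixQ F (2 ^ n), ∃ h : Vld (2 ^ n) (0 : F) b.1,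
        π (uP hF' ⟨(0, b.1), h⟩) = x.1 := by
      rintro ⟨x, hx⟩
      obtain ⟨hxQ, hx2⟩ := hZ x hx
      obtain ⟨_, ⟨⟨⟨c, b⟩, hcb⟩, rfl⟩, rfl⟩ := hxQ
      rw [← map_mul] at hx2
      have hu := hQinj (mul_mem (Model.uP_mem hF' ⟨(c, b), hcb⟩) (Model.uP_mem hF' ⟨(c, b), hcb⟩)) hx2
      have h2 : uel hF' (c + c) (b + b - c * c ^ (2 ^ n)) _ = uel hF' 0 0 (vld_zero hF') :=
        ((uel_mul hF' hcb hcb).symm.trans hu).trans (uel_zero hF').symm
      obtain ⟨-, h3⟩ := uel_injective hF' h2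
      rw [CharTwo.add_self_eq_zero, zero_sub, neg_eq_zero] at h3
      have hc0 : c = 0 := (mul_eq_zero.1 h3).elim id fun h => eq_zero_of_pow_eq_zero h
      subst hc0
      have hb : b + b ^ (2 ^ n) + 0 * 0 ^ (2 ^ n) = 0 := hcb
      rw [zero_mul, add_zero] at hb
      exact ⟨⟨b, (CharTwo.add_eq_zero.1 hb).symm⟩, hcb, rfl⟩
    choose f hv hf using hex
    refine le_trans (Nat.card_le_card_of_injective f fun x y h => Subtype.ext ?_) (card_FixQ hF').le
    rw [← hf x, ← hf y]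
    simp only [h]

end CfsgLib.Recog.RankOneSuzuki
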