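import Cfsg.Prelude.Def_LieRecognition
import Cfsg.Prelude.Def_Involutions
import Cfsg.Prelude.Def_Sz
import Cfsg.Prelude.Def_Exceptional
import Cfsg.Agent.Bender.RankOne
import Cfsg.Agent.CITGraph.Models
import Cfsg.Agent.LocalB.OddSignalizer
import Mathlib

/-!
# Consequences of Suzuki's rank one theorem for simple groups with a strongly embedded subgroup
-/

set_option autoImplicit false
set_option linter.unusedSectionVars false
set_option linter.style.haveILetI false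

namespace CfsgLib.Recog.RankOneSuzuki.Coroll

open MulAction

universe u

/-- The statement of Suzuki's rank one theorem for actions in one universe. -/
def RankOneTheorem : Prop :=
  ∀ {G Ω : Type u} [Group G] [Finite G] [MulAction G Ω] [FaithfulSMul G Ω] {a : Ω} {t : G} {Q : Subgroup G},
    Cfsg.IsRankOneSetup G Ω a t Q →
    (∃ x y : G, x ≠ 1 ∧ y ≠ 1 ∧ x ≠ y ∧ x * x = 1 ∧ y * y = 1 ∧ x * y = y * x) →
    ∃ L : Subgroup G, L.Normal ∧ Odd L.index ∧
      ((∃ (F : Type) (_ : Field F) (_ : Fintype F), (∃ n : ℕ, 2 ≤ n ∧ Fintype.card F = 2 ^ n) ∧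
          Nonempty (L ≃* Matrix.ProjectiveSpecialLinearGroup (Fin 2) F)) ∨
        Cfsg.Lie.IsoSuzuki L ∨
        (∃ (F : Type) (_ : Field F) (_ : Fintype F) (n : ℕ), 2 ≤ n ∧ Fintype.card F = (2 ^ n) ^ 2 ∧
          Nonempty (L ≃* Cfsg.PSU 3 F (2 ^ n))))

variable {G : Type u} [Group G] [Finite G]

/-- The set-up on the cosets of a subgroup whose normal subgroup is regular on the other cosets. -/
theorem setup_cosets (H Q : Subgroup G) (t : G) (tt : t * t = 1) (tH : t ∉ H) (hQH : Q ≤ H)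
    (hQn : ∀ h ∈ H, ∀ x ∈ Q, h * x * h⁻¹ ∈ Q) (htr : ∀ g : G, g ∉ H → ∃ u ∈ Q, g⁻¹ * (u * t) ∈ H)
    (hreg : ∀ u ∈ Q, t⁻¹ * (u * t) ∈ H → u = 1)
    (hD : Odd (Nat.card ↥(H ⊓ H.map (MulAut.conj t).toMonoidHom))) (hev : Even (Nat.card H)) :
    Cfsg.IsRankOneSetup G (G ⧸ H) ((1 : G) : G ⧸ H) t Q := by
  classical
  have sa : stabilizer G ((1 : G) : G ⧸ H) = H := stabilizer_quotient H
  have sb : ∀ g : G, g ∈ stabilizer G (t • ((1 : G) : G ⧸ H)) ↔ t⁻¹ * (g * t) ∈ H := fun g => by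
    rw [mem_stabilizer_iff, MulAction.Quotient.smul_coe, MulAction.Quotient.smul_coe, eq_comm, QuotientGroup.eq]
    simp [smul_eq_mul]
  have sbmap : stabilizer G (t • ((1 : G) : G ⧸ H)) = H.map (MulAut.conj t).toMonoidHom := by
    rw [stabilizer_smul_eq_stabilizer_map_conj, sa]
  have hdec : ∀ h ∈ H, ∃ u ∈ Q, u⁻¹ * h ∈ H ⊓ stabilizer G (t • ((1 : G) : G ⧸ H)) := fun h hh => by
    have hht : h * t ∉ H := fun hc => tH (by simpa using mul_mem (inv_mem hh) hc)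
    obtain ⟨u, hu, hu'⟩ := htr (h * t) hht
    refine ⟨u, hu, Subgroup.mem_inf.2 ⟨H.mul_mem (H.inv_mem (hQH hu)) hh, (sb _).2 ?_⟩⟩
    have := inv_mem hu'
    simpa [mul_assoc] using this
  refine ⟨?_, tt, fun h => tH (h ▸ one_mem H), by rwa [sa], by rwa [sa], by rw [sa]; exact hQn, ?_, ?_, ?_, ?_⟩
  · rw [is_two_pretransitive_iff]
    have key : ∀ {c d : G ⧸ H}, c ≠ d → ∃ g : G, g • ((1 : G) : G ⧸ H) = c ∧ g • t • ((1 : G) : G ⧸ H) = d := by
      intro c d hcd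
      obtain ⟨x, rfl⟩ := QuotientGroup.mk_surjective c
      obtain ⟨y, rfl⟩ := QuotientGroup.mk_surjective d
      have hn : x⁻¹ * y ∉ H := fun h => hcd (QuotientGroup.eq.2 h)
      obtain ⟨u, hu, hu'⟩ := htr _ hn
      refine ⟨x * u, ?_, ?_⟩
      · rw [MulAction.Quotient.smul_coe, QuotientGroup.eq]
        simpa [mul_assoc] using inv_mem (hQH hu)
      · rw [MulAction.Quotient.smul_coe, MulAction.Quotient.smul_coe, QuotientGroup.eq]
        simpa [mul_assoc] using inv_mem hu'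
    intro a b c d hab hcd
    obtain ⟨g, hg, hg'⟩ := key hab
    obtain ⟨k, hk, hk'⟩ := key hcd
    exact ⟨k * g⁻¹, by rw [← hg, mul_smul, inv_smul_smul, hk], by rw [← hg', mul_smul, inv_smul_smul, hk']⟩
  · rw [Subgroup.eq_bot_iff_forall]
    exact fun u hu => hreg u hu.1 ((sb u).1 hu.2)
  · rw [sa]
    refine le_antisymm (sup_le hQH inf_le_left) fun h hh => ?_
    obtain ⟨u, hu, hu'⟩ := hdec h hh
    rw [show h = u * (u⁻¹ * h) by group]
    exact Subgroup.mul_mem_sup hu hu'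
  · let f : Q × ↥(H ⊓ stabilizer G (t • ((1 : G) : G ⧸ H))) → H :=
      fun p => ⟨p.1 * p.2, mul_mem (hQH p.1.2) p.2.2.1⟩
    have hf : Function.Bijective f := by
      refine ⟨?_, fun h => ?_⟩
      · rintro ⟨u, d⟩ ⟨u', d'⟩ he
        have he' : (u : G) * d = u' * d' := congrArg Subtype.val he
        have h1 : (u' : G)⁻¹ * u = d' * (d : G)⁻¹ := by
          rw [eq_mul_inv_iff_mul_eq, mul_assoc, he', inv_mul_cancel_left]
        have h2 : (u' : G)⁻¹ * u = 1 :=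
          hreg _ (mul_mem (inv_mem u'.2) u.2) ((sb _).1 (h1 ▸ mul_mem d'.2.2 (inv_mem d.2.2)))
        have hu : u = u' := (Subtype.ext (inv_mul_eq_one.1 h2)).symm
        subst hu
        exact Prod.ext rfl (Subtype.ext (mul_left_cancel he'))
      · obtain ⟨u, hu, hu'⟩ := hdec h h.2
        exact ⟨(⟨u, hu⟩, ⟨_, hu'⟩), Subtype.ext (mul_inv_cancel_left u (h : G))⟩
    have hc := Nat.card_eq_of_bijective f hf
    rw [Nat.card_prod] at hc
    rw [← hc, Nat.even_mul] at hev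
    refine hev.resolve_right fun he => ?_
    rw [sbmap] at he
    exact Nat.not_even_iff_odd.2 hD he
  · rw [sa, sbmap]
    exact hD

/-- The action of a simple group on the cosets of a proper subgroup is faithful. -/
theorem faithful_of_simple [IsSimpleGroup G] {H : Subgroup G} (hH : H ≠ ⊤) : FaithfulSMul G (G ⧸ H) := by
  have hn : H.normalCore = ⊥ := (Subgroup.normalCore_normal H).eq_bot_or_eq_top.resolve_right
    fun h => hH (top_le_iff.1 (h ▸ Subgroup.normalCore_le H))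
  rw [Subgroup.normalCore_eq_ker, MonoidHom.ker_eq_bot_iff] at hn
  exact ⟨fun {g g'} h => hn (Equiv.ext h)⟩

/-- A simple group with a strongly embedded subgroup has two commuting involutions. -/
theorem exists_two [IsSimpleGroup G] {H : Subgroup G} (hH : Cfsg.IsStronglyEmbedded H) :
    ∃ x y : G, x ≠ 1 ∧ y ≠ 1 ∧ x ≠ y ∧ x * x = 1 ∧ y * y = 1 ∧ x * y = y * x := by
  by_cases hp : CfsgLib.Bender.PairRank G
  · obtain ⟨x, y, hx, hy, hne, hc⟩ := hp
    have sq : ∀ {w : G}, orderOf w = 2 → w * w = 1 := fun {w} hw => by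
      rw [← pow_two, ← hw]; exact pow_orderOf_eq_one w
    exact ⟨x, y, fun h => by simp [h] at hx, fun h => by simp [h] at hy, hne, sq hx, sq hy, hc.eq⟩
  · exfalso
    have h := (CfsgLib.Bender.rankOne_branch hH hp).2
    have hn : (Cfsg.oddCore G).Normal := inferInstance
    rcases hn.eq_bot_or_eq_top with e | e
    · exact hH.1 (by simpa [e] using h)
    · have h2 : Odd (Nat.card G) := by
        have := CfsgLib.LocalB.odd_card_oddCore (H := G)
        rwa [e, Nat.card_congr Subgroup.topEquiv.toEquiv] at this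
      exact Nat.not_even_iff_odd.2 (h2.of_dvd_nat H.card_subgroup_dvd_card) hH.2.1

/-- The conclusion of the rank one theorem for a simple group of even order. -/
theorem conclude [IsSimpleGroup G] (heven : Even (Nat.card G)) (L : Subgroup G) (hn : L.Normal)
    (hodd : Odd L.index)
    (h : ((∃ (F : Type) (_ : Field F) (_ : Fintype F), (∃ n : ℕ, 2 ≤ n ∧ Fintype.card F = 2 ^ n) ∧
          Nonempty (L ≃* Matrix.ProjectiveSpecialLinearGroup (Fin 2) F)) ∨
        Cfsg.Lie.IsoSuzuki L ∨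
        (∃ (F : Type) (_ : Field F) (_ : Fintype F) (n : ℕ), 2 ≤ n ∧ Fintype.card F = (2 ^ n) ^ 2 ∧
          Nonempty (L ≃* Cfsg.PSU 3 F (2 ^ n))))) :
    (∃ (F : Type) (_ : Field F) (_ : Fintype F), (∃ n : ℕ, 2 ≤ n ∧ Fintype.card F = 2 ^ n) ∧
        Nonempty (G ≃* Matrix.ProjectiveSpecialLinearGroup (Fin 2) F)) ∨
      Cfsg.IsSuzuki G ∨
      (∃ (F : Type) (_ : Field F) (_ : Fintype F) (n : ℕ), 2 ≤ n ∧ Fintype.card F = (2 ^ n) ^ 2 ∧
        Nonempty (G ≃* Cfsg.PSU 3 F (2 ^ n))) := by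
  have hL : L = ⊤ := hn.eq_bot_or_eq_top.resolve_left fun e => by
    rw [e, Subgroup.index_bot] at hodd
    exact Nat.not_even_iff_odd.2 hodd heven
  let e : G ≃* L := (MulEquiv.subgroupCongr hL |>.trans Subgroup.topEquiv).symm
  rcases h with ⟨F, i1, i2, hc, ⟨f⟩⟩ | ⟨F, i1, i2, m, hm, hc, ⟨f⟩⟩ | ⟨F, i1, i2, n, hn2, hc, ⟨f⟩⟩
  · exact Or.inl ⟨F, i1, i2, hc, ⟨e.trans f⟩⟩
  · refine Or.inr (Or.inl ⟨inferInstance, m, hm, ?_⟩)
    rw [Nat.card_congr (e.trans f).toEquiv]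
    exact CfsgLib.CITGraph.card_lieSz hm hc
  · exact Or.inr (Or.inr ⟨F, i1, i2, n, hn2, hc, ⟨e.trans f⟩⟩)

/-- Simple groups with a strongly embedded subgroup having a normal subgroup regular on the other cosets. -/
theorem stronglyEmbedded_regular (hT : RankOneTheorem.{u}) [IsSimpleGroup G] (H : Subgroup G)
    (hH : Cfsg.IsStronglyEmbedded H) (Q : Subgroup G) (hQH : Q ≤ H) (hQn : (Q.subgroupOf H).Normal)
    (htrans : ∀ g₁ g₂ : G, g₁ ∉ H → g₂ ∉ H → ∃ u ∈ Q, g₂⁻¹ * (u * g₁) ∈ H)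
    (hreg : ∀ g : G, g ∉ H → ∀ u ∈ Q, g⁻¹ * (u * g) ∈ H → u = 1) :
    (∃ (F : Type) (_ : Field F) (_ : Fintype F), CharP F 2 ∧ 4 ≤ Fintype.card F ∧
        Nonempty (G ≃* Matrix.ProjectiveSpecialLinearGroup (Fin 2) F)) ∨ Cfsg.IsSuzuki G ∨
      (∃ (F : Type) (_ : Field F) (_ : Fintype F) (q : ℕ), Fintype.card F = q ^ 2 ∧ Even q ∧ 4 ≤ q ∧
        Nonempty (G ≃* Cfsg.PSU 3 F q)) := by
  haveI : Fact (Nat.Prime 2) := ⟨Nat.prime_two⟩
  obtain ⟨s, hs⟩ := exists_prime_orderOf_dvd_card' (G := H) 2 (even_iff_two_dvd.1 hH.2.1)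
  obtain ⟨g, hg⟩ : ∃ g : G, g * s * g⁻¹ ∉ H := by
    by_contra hc
    push Not at hc
    have hN : (Subgroup.normalClosure {(s : G)}) ≤ H := by
      refine (Subgroup.closure_le H).2 fun x hx => ?_
      obtain ⟨y, rfl, hy⟩ := Group.mem_conjugatesOfSet_iff.1 hx
      obtain ⟨c, rfl⟩ := isConj_iff.1 hy
      exact hc c
    rcases (Subgroup.normalClosure_normal (s := {(s : G)})).eq_bot_or_eq_top with e | e
    · have h1 : (s : G) ∈ Subgroup.normalClosure {(s : G)} := Subgroup.subset_normalClosure rfl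
      rw [e, Subgroup.mem_bot] at h1
      rw [← Subgroup.orderOf_coe, h1, orderOf_one] at hs
      exact absurd hs (by norm_num)
    · exact hH.1 (top_le_iff.1 (e ▸ hN))
  have hs2 : (s : G) * s = 1 := by
    have := pow_orderOf_eq_one (s : G)
    rwa [Subgroup.orderOf_coe, hs, pow_two] at this
  have tt : g * s * g⁻¹ * (g * s * g⁻¹) = 1 := by
    rw [show g * s * g⁻¹ * (g * s * g⁻¹) = g * ((s : G) * s) * g⁻¹ by group, hs2]; group
  haveI := faithful_of_simple hH.1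
  obtain ⟨L, hn, hodd, h⟩ := hT (setup_cosets H Q (g * s * g⁻¹) tt hg hQH
    (fun h hh x hx => by simpa [Subgroup.mem_subgroupOf] using hQn.conj_mem ⟨x, hQH hx⟩ hx ⟨h, hh⟩)
    (fun x hx => htrans _ x hg hx) (hreg _ hg) (hH.2.2 _ hg) hH.2.1) (exists_two hH)
  have heven : Even (Nat.card G) :=
    even_iff_two_dvd.2 ((even_iff_two_dvd.1 hH.2.1).trans H.card_subgroup_dvd_card)
  rcases conclude heven L hn hodd h with ⟨F, i1, i2, ⟨n, hn2, hc⟩, e⟩ | h | ⟨F, i1, i2, n, hn2, hc, e⟩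
  · refine Or.inl ⟨F, i1, i2, charP_of_card_eq_prime_pow hc, hc ▸ ?_, e⟩
    calc 4 = 2 ^ 2 := by norm_num
      _ ≤ 2 ^ n := Nat.pow_le_pow_right (by norm_num) hn2
  · exact Or.inr (Or.inl h)
  · refine Or.inr (Or.inr ⟨F, i1, i2, 2 ^ n, hc, (even_two.pow_of_ne_zero (by omega)), ?_, e⟩)
    calc 4 = 2 ^ 2 := by norm_num
      _ ≤ 2 ^ n := Nat.pow_le_pow_right (by norm_num) hn2

end CfsgLib.Recog.RankOneSuzuki.Coroll
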