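import Cfsg.Agent.Recog.RankOneSuzuki.AbelianPrime
import Cfsg.Agent.HallHigman.Exponent.Pair

/-!
# Suzuki's rank one theorem: an abelian `Q` is elementary
-/

set_option autoImplicit false
set_option linter.unusedSectionVars false
set_option linter.style.haveILetI false

namespace CfsgLib.Recog.RankOneSuzuki

open MulAction CfsgLib.Recog.RankOne

universe u v

/-- The abelian case, by induction on the group order. -/
theorem le_Z_of_abelian_aux (n : ℕ) :
    ∀ {G : Type u} {Ω : Type v} [Group G] [MulAction G Ω] [Finite G] [FaithfulSMul G Ω]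
      {a : Ω} {t : G} {Q : Subgroup G} (S : Data a t Q), Nat.card G = n →
      (∀ x ∈ Q, ∀ y ∈ Q, x * y = y * x) → Q ≤ S.Z := by
  induction n using Nat.strong_induction_on with
  | _ n ih =>
    intro G Ω _ _ _ _ a t Q S hn hcomm
    classical
    by_contra hQ
    obtain ⟨y₀, hy₀, hy₀s⟩ := S.exists_sq hcomm hQ
    have hker : ∀ u ∈ S.V, (∀ z ∈ S.Z, u * z = z * u) → u = 1 :=
      fun u hu hu' => S.eq_one_of_centralizes hcomm hu hu'
    have hodd : ∀ (ℓ : ℕ) (u : G), u ∈ S.V → orderOf u = ℓ → ℓ ≠ 2 := by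
      intro ℓ u hu ho h2
      have := S.orderOf_odd_V hu
      rw [ho, h2] at this
      exact (Nat.not_odd_iff_even.2 even_two) this
    -- fixed square roots of the special involution
    have hsqrt : ∀ (ℓ : ℕ) (u : G), ℓ.Prime → u ∈ S.V → orderOf u = ℓ →
        ∃ y ∈ Q ⊓ Subgroup.centralizer {u}, y * y = S.s := by
      intro ℓ u hℓ hu ho
      haveI := Fact.mk hℓ
      obtain ⟨y, hy, huy, hy2⟩ := S.exists_fixed_sqrt hcomm (hodd ℓ u hu ho)
        (v := u) (ho ▸ pow_orderOf_eq_one u) Q le_rfl S.Z_le (fun _ hx => S.V_conj_Q hu hx) hy₀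
        (by rw [hy₀s]; exact S.V_comm_s hu)
      exact ⟨y, ⟨hy, Subgroup.mem_centralizer_singleton_iff.2 huy.symm⟩, hy2.trans hy₀s⟩
    have hsmallp : ∀ (ℓ : ℕ) (u : G), ℓ.Prime → u ∈ S.V → orderOf u = ℓ →
        ∀ z ∈ S.Z, u * z = z * u → z = 1 ∨ z = S.s := by
      intro ℓ u hℓ hu ho z hz huz
      by_contra hne
      push Not at hne
      have hu1 : u ≠ 1 := fun h => hℓ.ne_one (by rw [← ho, h, orderOf_one])
      have h4 : 4 ≤ Nat.card ↥(S.Z ⊓ Subgroup.centralizer {u}) := by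
        have hzC : z ∈ S.Z ⊓ Subgroup.centralizer {u} :=
          ⟨hz, Subgroup.mem_centralizer_singleton_iff.2 huz.symm⟩
        have hsC : S.s ∈ S.Z ⊓ Subgroup.centralizer {u} :=
          ⟨S.s_mem, Subgroup.mem_centralizer_singleton_iff.2 (S.V_comm_s hu).symm⟩
        have h1 : ({1, S.s, z, z * S.s} : Set G) ⊆
            ((S.Z ⊓ Subgroup.centralizer {u} : Subgroup G) : Set G) := by
          rintro x (rfl | rfl | rfl | rfl)
          · exact one_mem _
          · exact hsC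
          · exact hzC
          · exact mul_mem hzC hsC
        have h2 := Set.ncard_le_ncard h1 (Set.toFinite _)
        have h3 : ({1, S.s, z, z * S.s} : Set G).ncard = 4 := by
          have e1 : z * S.s ≠ 1 := fun h => hne.2 (by
            rw [eq_inv_of_mul_eq_one_left h, S.s_inv])
          rw [Set.ncard_insert_of_notMem _ (Set.toFinite _),
            Set.ncard_insert_of_notMem _ (Set.toFinite _), Set.ncard_pair]
          · exact fun h => S.s_ne (left_eq_mul.1 h)
          · simp only [Set.mem_insert_iff, Set.mem_singleton_iff, not_or]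
            exact ⟨Ne.symm hne.2, fun h => hne.1 (right_eq_mul.1 h)⟩
          · simp only [Set.mem_insert_iff, Set.mem_singleton_iff, not_or]
            exact ⟨Ne.symm S.s_ne, Ne.symm hne.1, Ne.symm e1⟩
        rw [h3, ← Nat.card_coe_set_eq] at h2
        exact h2
      obtain ⟨G₁, _, Ω₁, _, a₁, t₁, Q₁, hfin, hfaith, ⟨S₁⟩, hlt, ⟨e⟩⟩ :=
        S.exists_smaller_data hu hu1 h4
      haveI := hfin
      haveI := hfaith
      have hle := ih _ (hn ▸ hlt) S₁ rfl fun x hx y hy => by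
        have : (⟨x, hx⟩ : Q₁) * ⟨y, hy⟩ = ⟨y, hy⟩ * ⟨x, hx⟩ := by
          refine e.symm.injective ?_
          rw [map_mul, map_mul]
          exact Subtype.ext (hcomm _ (e.symm ⟨x, hx⟩).2.1 _ (e.symm ⟨y, hy⟩).2.1)
        exact congrArg Subtype.val this
      obtain ⟨y, hy, hys⟩ := hsqrt ℓ u hℓ hu ho
      refine S.s_ne ?_
      have h1 := S₁.Z_sq (hle (e ⟨y, hy⟩).2)
      have h2 : e (⟨y, hy⟩ * ⟨y, hy⟩) = e 1 := by
        rw [map_mul, map_one]; exact Subtype.ext h1
      rw [← hys]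
      exact congrArg Subtype.val (e.injective h2)
    have hsmall : ∀ u ∈ S.V, u ≠ 1 → ∀ z ∈ S.Z, u * z = z * u → z = 1 ∨ z = S.s := by
      intro u hu hu1 z hz huz
      obtain ⟨ℓ, hℓ, hℓd⟩ := Nat.exists_prime_and_dvd (fun h => hu1 (orderOf_eq_one_iff.1 h))
      have hd : orderOf u / ℓ ∣ orderOf u := Nat.div_dvd_of_dvd hℓd
      refine hsmallp ℓ (u ^ (orderOf u / ℓ)) hℓ (S.V.pow_mem hu _) ?_ z hz
        (Commute.pow_left huz _)
      rw [orderOf_pow_of_dvd (Nat.div_pos (Nat.le_of_dvd (orderOf_pos u) hℓd) hℓ.pos).ne' hd,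
        Nat.div_div_self hℓd (orderOf_pos u).ne']
    by_cases hV : S.V = ⊥
    · refine hQ (S.le_Z_of_comm (fun y hy hy1 => ?_) hcomm)
      obtain ⟨g, hg, h, hh, f, hf, he⟩ := S.exists_decomp hy hy1
      refine ⟨g, hg, h, ?_, f, hf, he⟩
      obtain ⟨w, hw, hwt, k, hk, rfl⟩ := S.exists_K_mul_V hh
      have hw1 : w ∈ S.V := ⟨hw, Subgroup.mem_centralizer_singleton_iff.2 hwt⟩
      rw [hV, Subgroup.mem_bot] at hw1
      rw [hw1, one_mul]
      exact hk
    obtain ⟨F, _, _, _, -, hF, ⟨M⟩⟩ := S.exists_fieldModel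
    have hall := S.card_Z_eq hker M hF hsmall
    have hV1 : Nat.card S.V ≠ 1 := fun h => hV (Subgroup.eq_bot_of_card_eq _ h)
    obtain ⟨ℓ, hℓ, hℓd⟩ := Nat.exists_prime_and_dvd hV1
    haveI := Fact.mk hℓ
    obtain ⟨⟨u, hu⟩, huo⟩ := exists_prime_orderOf_dvd_card' (G := S.V) ℓ hℓd
    rw [Subgroup.orderOf_mk] at huo
    have hu1 : u ≠ 1 := fun h => hℓ.ne_one (by rw [← huo, h, orderOf_one])
    obtain ⟨hcard, hZ⟩ := hall u hu hu1
    rw [← hcard, huo] at hZ
    have hg : S.Gen u ℓ :=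
      { mem := hu
        order := huo
        odd := hodd ℓ u hu huo
        eq := (Subgroup.eq_of_le_of_card_ge (Subgroup.zpowers_le.2 hu)
          (by rw [Nat.card_zpowers, hcard])).symm
        small := hsmallp ℓ u hℓ hu huo
        card_Z := hZ
        sqrt := hsqrt ℓ u hℓ hu huo }
    have hdvd := hg.dvd_fix hcomm
    obtain ⟨d, hd0, hd, E, hE, hEp, hEcard⟩ :=
      S.exists_regular hg.mem hg.eq hg.kv huo hg.odd S.isPGroup_Q hdvd
    obtain ⟨i, -, hi⟩ := hg.four_le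
    obtain ⟨j, rfl⟩ : ∃ j, d = j + 1 := ⟨d - 1, by omega⟩
    rcases CfsgLib.HHExponent.small_fermat (p := ℓ) hg.odd
      (by rw [← hd, hi] : ℓ ^ (j + 1) = 2 ^ i + 1) with rfl | ⟨hℓ3, rfl⟩
    · rw [zero_add, pow_one] at hd
      exact hg.not_prime hcomm hd hE hEp hEcard
    · exact hg.not_nine hcomm hℓ3 hd hE hEp hEcard

/-- Suzuki's rank one theorem: an abelian `Q` consists of involutions. -/
theorem Data.le_Z_of_abelian {G Ω : Type*} [Group G] [MulAction G Ω] [Finite G] [FaithfulSMul G Ω]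
    {a : Ω} {t : G} {Q : Subgroup G} (S : Data a t Q)
    (hcomm : ∀ x ∈ Q, ∀ y ∈ Q, x * y = y * x) : Q ≤ S.Z :=
  le_Z_of_abelian_aux (Nat.card G) S rfl hcomm

end CfsgLib.Recog.RankOneSuzuki
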