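import Cfsg.Agent.Recog.RankOneSuzuki.Split
import Cfsg.Agent.Zass.LargeFpf
import Cfsg.Agent.Zass.AbelianKernel
import Cfsg.Agent.AbelianInvCent.Final
import Cfsg.Agent.SzUnique.Main
import Cfsg.Agent.S2202

/-!
# Suzuki's rank one theorem: the cases `|Q| = q` and `|Q| = q²`
-/

set_option autoImplicit false
set_option linter.unusedSectionVars false
set_option linter.style.haveILetI false

namespace CfsgLib.Recog.RankOneSuzuki

open MulAction CfsgLib.Recog.RankOne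

variable {G Ω : Type*} [Group G] [MulAction G Ω]

namespace Data

variable {a : Ω} {t : G} {Q : Subgroup G} (S : Data a t Q)

/-- The action of `K` on the involutions is regular. -/
theorem conj_s_injective {k k' : G} (hk : k ∈ S.K) (hk' : k' ∈ S.K)
    (h : k⁻¹ * S.s * k = k'⁻¹ * S.s * k') : k = k' := by
  by_contra hne
  have hc : k * k'⁻¹ ≠ 1 := fun h' => hne (mul_inv_eq_one.1 h')
  refine S.s_ne (S.fpf _ (S.K.mul_mem hk (S.K.inv_mem hk')) hc _ (S.Z_le S.s_mem) ?_)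
  calc k * k'⁻¹ * S.s = k * (k'⁻¹ * S.s * k') * k'⁻¹ := by group
    _ = k * (k⁻¹ * S.s * k) * k'⁻¹ := by rw [h]
    _ = S.s * (k * k'⁻¹) := by group

theorem card_K [Finite G] : Nat.card S.K + 1 = Nat.card S.Z := by
  classical
  let e : Option S.K → S.Z := fun o => match o with
    | none => 1
    | some k => ⟨(k : G)⁻¹ * S.s * k, S.conj_Z' k.2 S.s_mem⟩
  have hne : ∀ k : S.K, (k : G)⁻¹ * S.s * k ≠ 1 := fun k h => S.s_ne (by
    calc S.s = (k : G) * ((k : G)⁻¹ * S.s * k) * (k : G)⁻¹ := by group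
      _ = 1 := by rw [h]; group)
  have he : Function.Bijective e := by
    constructor
    · rintro (_ | k) (_ | k') h
      · rfl
      · exact absurd (congrArg Subtype.val h).symm (hne k')
      · exact absurd (congrArg Subtype.val h) (hne k)
      · exact congrArg some (Subtype.ext (S.conj_s_injective k.2 k'.2 (congrArg Subtype.val h)))
    · rintro ⟨v, hv⟩
      by_cases hv1 : v = 1
      · exact ⟨none, Subtype.ext hv1.symm⟩
      obtain ⟨k, hk, hkv⟩ := S.trans S.s S.s_mem S.s_ne v hv hv1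
      exact ⟨some ⟨k, hk⟩, Subtype.ext hkv⟩
  rw [← Nat.card_congr (Equiv.ofBijective e he), Finite.card_option]

theorem isSplit_of_le (h : Q ≤ S.Z) : S.IsSplit := fun _ hy hy1 => S.inK_Z (h hy) hy1

/-- An element of `Q` moved by `c ∈ K` only inside `Z` lies in `Z`. -/
theorem mem_Z_of_comm [Finite G] {c x : G} (hc : c ∈ S.K) (hc1 : c ≠ 1) (hx : x ∈ Q)
    (h : x⁻¹ * (c * x * c⁻¹) ∈ S.Z) : x ∈ S.Z := by
  classical
  let F : S.Z → S.Z := fun v => ⟨(v : G)⁻¹ * (c * v * c⁻¹),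
    S.Z.mul_mem (S.Z.inv_mem v.2) (S.conj_Z hc v.2)⟩
  have key : ∀ u ∈ Q, ∀ w ∈ Q, u⁻¹ * (c * u * c⁻¹) = w⁻¹ * (c * w * c⁻¹) → u = w := by
    intro u hu w hw he
    have h3 : c * (w * u⁻¹) * c⁻¹ = w * u⁻¹ := by
      calc c * (w * u⁻¹) * c⁻¹ = w * (w⁻¹ * (c * w * c⁻¹)) * (c * u * c⁻¹)⁻¹ := by group
        _ = w * (u⁻¹ * (c * u * c⁻¹)) * (c * u * c⁻¹)⁻¹ := by rw [he]
        _ = _ := by group
    exact (mul_inv_eq_one.1 (S.fpf c hc hc1 _ (Q.mul_mem hw (Q.inv_mem hu))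
      (mul_inv_eq_iff_eq_mul.1 h3))).symm
  have hF : Function.Injective F := fun u w he =>
    Subtype.ext (key _ (S.Z_le u.2) _ (S.Z_le w.2) (congrArg Subtype.val he))
  obtain ⟨v, hv⟩ := Finite.injective_iff_surjective.1 hF ⟨_, h⟩
  rw [key x hx v (S.Z_le v.2) (congrArg Subtype.val hv).symm]
  exact v.2

theorem conj_r_mul_not_mem (hrZ : S.r ∉ S.Z) {k v : G} (hk : k ∈ S.K) (hv : v ∈ S.Z) :
    k * (S.r * v) * k⁻¹ ∉ S.Z := fun h => hrZ (by
  have h1 := S.Z.mul_mem (S.conj_Z' hk h) (S.Z.inv_mem hv)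
  rwa [show k⁻¹ * (k * (S.r * v) * k⁻¹) * k * v⁻¹ = S.r by group] at h1)

theorem conj_r_mul_injective [Finite G] (hrZ : S.r ∉ S.Z) {k k' v v' : G} (hk : k ∈ S.K)
    (hk' : k' ∈ S.K) (hv : v ∈ S.Z) (hv' : v' ∈ S.Z)
    (h : k * (S.r * v) * k⁻¹ = k' * (S.r * v') * k'⁻¹) : k = k' ∧ v = v' := by
  set c := k'⁻¹ * k with hc
  have hcK : c ∈ S.K := S.K.mul_mem (S.K.inv_mem hk') hk
  have he : c * (S.r * v) * c⁻¹ = S.r * v' := by
    rw [hc, show k'⁻¹ * k * (S.r * v) * (k'⁻¹ * k)⁻¹ = k'⁻¹ * (k * (S.r * v) * k⁻¹) * k' by group,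
      h]
    group
  have hc1 : c = 1 := by
    by_contra hc1
    refine hrZ (S.mem_Z_of_comm hcK hc1 S.r_mem ?_)
    have h1 : S.r⁻¹ * (c * S.r * c⁻¹) = v' * (c * v * c⁻¹)⁻¹ := by
      calc S.r⁻¹ * (c * S.r * c⁻¹) = S.r⁻¹ * (c * (S.r * v) * c⁻¹) * (c * v * c⁻¹)⁻¹ := by group
        _ = _ := by rw [he]; group
    rw [h1]
    exact S.Z.mul_mem hv' (S.Z.inv_mem (S.conj_Z hcK hv))
  refine ⟨(inv_mul_eq_one.1 hc1).symm, mul_left_cancel (a := S.r) ?_⟩
  rw [← he, hc1]; group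

/-- If `r ∉ Z` and `|Q| = q²`, all components lie in `K`. -/
theorem isSplit_of_card [Finite G] (hrZ : S.r ∉ S.Z) (hcard : Nat.card Q = Nat.card S.Z ^ 2) :
    S.IsSplit := by
  classical
  haveI := Fintype.ofFinite G
  set A : Finset G := (S.Z : Set G).toFinset with hA
  set B : Finset G := (Finset.univ : Finset (S.K × S.Z)).image
    fun p => (p.1 : G) * (S.r * p.2) * (p.1 : G)⁻¹ with hB
  have hsub : A ∪ B ⊆ (Q : Set G).toFinset := by
    intro x hx
    rw [Set.mem_toFinset]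
    rcases Finset.mem_union.1 hx with h | h
    · exact S.Z_le (Set.mem_toFinset.1 h)
    · obtain ⟨p, -, rfl⟩ := Finset.mem_image.1 h
      exact S.conj_Q p.1.2 (Q.mul_mem S.r_mem (S.Z_le p.2.2))
  have hdisj : Disjoint A B := Finset.disjoint_left.2 fun x hx hxB => by
    obtain ⟨p, -, rfl⟩ := Finset.mem_image.1 hxB
    exact S.conj_r_mul_not_mem hrZ p.1.2 p.2.2 (Set.mem_toFinset.1 hx)
  have hBcard : B.card = Nat.card S.K * Nat.card S.Z := by
    rw [hB, Finset.card_image_of_injective, Finset.card_univ, Fintype.card_prod,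
      Nat.card_eq_fintype_card, Nat.card_eq_fintype_card]
    intro p p' h
    obtain ⟨h1, h2⟩ := S.conj_r_mul_injective hrZ p.1.2 p'.1.2 p.2.2 p'.2.2 h
    exact Prod.ext (Subtype.ext h1) (Subtype.ext h2)
  have hAcard : A.card = Nat.card S.Z := by
    rw [hA, Set.toFinset_card, ← Nat.card_eq_fintype_card]; rfl
  have heq : A ∪ B = (Q : Set G).toFinset := Finset.eq_of_subset_of_card_le hsub (by
    rw [Finset.card_union_of_disjoint hdisj, hBcard, hAcard, Set.toFinset_card,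
      ← Nat.card_eq_fintype_card, show Nat.card ↥(Q : Set G) = Nat.card Q from rfl, hcard]
    have := S.card_K
    nlinarith)
  intro y hy hy1
  have : y ∈ A ∪ B := by rw [heq, Set.mem_toFinset]; exact hy
  rcases Finset.mem_union.1 this with h | h
  · exact S.inK_Z (Set.mem_toFinset.1 h) hy1
  · obtain ⟨p, -, rfl⟩ := Finset.mem_image.1 h
    refine S.inK_conj p.1.2 (S.inK_r_mul p.2.2 fun h' => hy1 ?_)
    rw [h']; group

variable [Finite G] [FaithfulSMul G Ω]

include S in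
theorem finite_points' : Finite Ω :=
  haveI := S.setup
  CfsgLib.Recog.RankOne.finite_points S.setup

theorem regular_L (p q : Ω) (hp : p ≠ a) (hq : q ≠ a) :
    ∃! u : (Q.subgroupOf S.L), ((u : S.L) : G) • p = q := by
  obtain ⟨u, hu, huniq⟩ := regular S.setup hp hq
  exact ⟨⟨⟨u, S.Q_le_L u.2⟩, u.2⟩, hu, fun w hw => Subtype.ext (Subtype.ext
    (congrArg Subtype.val (huniq ⟨((w : S.L) : G), w.2⟩ hw) :))⟩

theorem normal_L : ((Q.subgroupOf S.L).subgroupOf (stabilizer S.L a)).Normal :=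
  ⟨fun x hx g => S.setup.conj_mem _ g.2 _ hx⟩

/-- An abelian kernel is elementary. -/
theorem le_Z_of_comm (hsplit : S.IsSplit) (hcomm : ∀ x ∈ Q, ∀ y ∈ Q, x * y = y * x) :
    Q ≤ S.Z := by
  classical
  haveI := S.finite_points'
  haveI := Fintype.ofFinite Ω
  have hZ := S.zassenhaus_L hsplit
  haveI hc : IsMulCommutative ↥(Q.subgroupOf S.L) :=
    ⟨⟨fun x y => Subtype.ext (Subtype.ext (hcomm _ x.2 _ y.2))⟩⟩
  have hle : Q.subgroupOf S.L ≤ stabilizer S.L a := fun x hx => S.setup.le hx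
  have hab : a ≠ t • a := (b_ne S.setup).symm
  obtain ⟨hcard, hfix⟩ := CfsgLib.Zass.kernel_of_regular hle S.regular_L hab.symm
  have hd := CfsgLib.Zass.large_of_abelian hZ hab _ hle hcard hfix hc
  obtain ⟨-, p, f, hp, hpow, -⟩ := CfsgLib.Zass.kernel_elementary hZ hab hd _ hle S.normal_L
    S.regular_L
  have hs : S.s ^ p = 1 :=
    congrArg Subtype.val (hpow ⟨S.s, S.Q_le_L (S.Z_le S.s_mem)⟩ (S.Z_le S.s_mem))
  have hp2 : p = 2 := by
    have h1 : orderOf S.s = 2 :=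
      orderOf_eq_prime (by rw [pow_two]; exact S.Z_sq S.s_mem) S.s_ne
    exact ((Nat.prime_dvd_prime_iff_eq Nat.prime_two hp).1
      (h1 ▸ orderOf_dvd_of_pow_eq_one hs)).symm
  intro x hx
  refine (S.mem_Z x).2 ⟨hx, ?_⟩
  have := congrArg Subtype.val (hpow ⟨x, S.Q_le_L hx⟩ hx)
  rwa [hp2, SubmonoidClass.coe_pow, pow_two] at this

/-- The case `Q = Z`. -/
theorem psl_of_le (hQ : Q ≤ S.Z) : ∃ (F : Type) (_ : Field F) (_ : Fintype F),
    (∃ n : ℕ, 2 ≤ n ∧ Fintype.card F = 2 ^ n) ∧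
      Nonempty (S.L ≃* Matrix.ProjectiveSpecialLinearGroup (Fin 2) F) := by
  classical
  haveI := S.isSimpleGroup_L
  have hsplit := S.isSplit_of_le hQ
  have hSL := S.setup_L
  set s' : S.L := ⟨S.s, S.Q_le_L (S.Z_le S.s_mem)⟩ with hs'
  have hs'1 : s' ≠ 1 := fun h => S.s_ne (congrArg Subtype.val h)
  have hs'2 : s' * s' = 1 := Subtype.ext (S.Z_sq S.s_mem)
  have hcs : ∀ x : S.L, x * s' = s' * x → (x : G) ∈ Q := by
    intro x hx
    have hxa : (x : G) • a = a :=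
      same_fix hSL hs'1 hs'2 hx (S.setup.le (S.Z_le S.s_mem) : S.s • a = a)
    obtain ⟨g, hg, k, hk, hxe⟩ := S.mem_L_stab hsplit x.2 hxa
    have hk1 : k = 1 := by
      by_contra hk1
      refine S.s_ne (S.fpf k hk hk1 _ (S.Z_le S.s_mem) ?_)
      have h1 : g * k * S.s = S.s * (g * k) := by rw [← hxe]; exact congrArg Subtype.val hx
      refine mul_left_cancel (a := g) ?_
      rw [← mul_assoc, h1, ← mul_assoc S.s, S.central _ S.s_mem g hg, mul_assoc]
    rw [hxe, hk1, mul_one]; exact hg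
  have hab : ∀ u : S.L, orderOf u = 2 →
      IsMulCommutative ↥(Subgroup.centralizer ({u} : Set S.L)) := by
    intro u hu
    have hu1 : u ≠ 1 := fun h => by rw [h, orderOf_one] at hu; omega
    have hu2 : u * u = 1 := by rw [← pow_two, ← hu, pow_orderOf_eq_one]
    obtain ⟨g, hg⟩ := exists_conj hSL hu1 hu2 hs'1 hs'2
    refine ⟨⟨fun x y => Subtype.ext ?_⟩⟩
    have key : ∀ z : Subgroup.centralizer ({u} : Set S.L),
        ((g * (z : S.L) * g⁻¹ : S.L) : G) ∈ Q := by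
      intro z
      refine hcs _ ?_
      have := Subgroup.mem_centralizer_singleton_iff.1 z.2
      rw [← hg, show g * (z : S.L) * g⁻¹ * (g * u * g⁻¹) = g * ((z : S.L) * u) * g⁻¹ by group, this]
      group
    have h1 : g * (x : S.L) * g⁻¹ * (g * (y : S.L) * g⁻¹) =
        g * (y : S.L) * g⁻¹ * (g * (x : S.L) * g⁻¹) :=
      Subtype.ext (S.central _ (hQ (key x)) _ (key y))
    have h2 := congrArg (fun z => g⁻¹ * z * g) h1
    simp only [Subgroup.coe_mul]
    simpa [mul_assoc] using h2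
  have heven : Even (Nat.card S.L) :=
    even_iff_two_dvd.2 ((orderOf_eq_prime (by rw [pow_two]; exact hs'2) hs'1) ▸ orderOf_dvd_natCard s')
  obtain ⟨x, y, hx1, hy1, hne, hx2, hy2, hxy⟩ := S.two_L
  have hnc : ¬ ∀ P : Sylow 2 S.L, IsCyclic ↥P := by
    intro hc
    haveI : Fact (Nat.Prime 2) := ⟨Nat.prime_two⟩
    have hP : IsPGroup 2 ↥(Q.subgroupOf S.L) := fun z => ⟨1, by
      rw [pow_one, pow_two]; exact Subtype.ext (Subtype.ext (S.Z_sq (hQ z.2)))⟩
    obtain ⟨P, hP'⟩ := hP.exists_le_sylow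
    haveI := hc P
    have hmem : ∀ z : S.L, z * z = 1 → (z : G) • a = a → z ∈ (P : Subgroup S.L) := fun z hz hza =>
      hP' (mem_Q S.setup hza (congrArg Subtype.val hz) : (z : G) ∈ Q)
    obtain ⟨z, hz, hz1, hzs⟩ := S.exists_two
    haveI := Fintype.ofFinite ↥(P : Subgroup S.L)
    have hle2 := IsCyclic.card_pow_eq_one_le (α := ↥(P : Subgroup S.L)) (n := 2) two_pos
    let e₁ : ↥(P : Subgroup S.L) := ⟨s', hmem s' hs'2 (S.setup.le (S.Z_le S.s_mem))⟩
    let e₂ : ↥(P : Subgroup S.L) := ⟨⟨z, S.Q_le_L (S.Z_le hz)⟩,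
      hmem _ (Subtype.ext (S.Z_sq hz)) (S.setup.le (S.Z_le hz))⟩
    have h3 : ({1, e₁, e₂} : Finset ↥(P : Subgroup S.L)) ⊆
        Finset.univ.filter fun w => w ^ 2 = 1 := by
      intro w hw
      simp only [Finset.mem_insert, Finset.mem_singleton] at hw
      simp only [Finset.mem_filter, Finset.mem_univ, true_and]
      rcases hw with rfl | rfl | rfl
      · exact one_pow 2
      · exact Subtype.ext (by rw [SubmonoidClass.coe_pow, pow_two]; exact hs'2)
      · exact Subtype.ext (Subtype.ext (by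
          simp only [SubmonoidClass.coe_pow, pow_two]; exact S.Z_sq hz))
    have h4 := (Finset.card_le_card h3).trans hle2
    rw [Finset.card_insert_of_notMem, Finset.card_pair] at h4
    · omega
    · exact fun h => hzs (congrArg (fun w : ↥(P : Subgroup S.L) => ((w : S.L) : G)) h).symm
    · simp only [Finset.mem_insert, Finset.mem_singleton, not_or]
      exact ⟨fun h => S.s_ne (congrArg (fun w : ↥(P : Subgroup S.L) => ((w : S.L) : G)) h).symm,
        fun h => hz1 (congrArg (fun w : ↥(P : Subgroup S.L) => ((w : S.L) : G)) h).symm⟩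
  have hnn : ¬ ∀ P : Sylow 2 S.L, (P : Subgroup S.L).Normal := by
    intro hn
    obtain ⟨P⟩ : Nonempty (Sylow 2 S.L) := inferInstance
    haveI : Fact (Nat.Prime 2) := ⟨Nat.prime_two⟩
    rcases IsSimpleGroup.eq_bot_or_eq_top_of_normal (P : Subgroup S.L) (hn P) with h | h
    · exact (P.not_dvd_index) (by rw [h, Subgroup.index_bot]; exact even_iff_two_dvd.1 heven)
    · obtain ⟨k, hk, hk1⟩ := S.exists_K_ne
      obtain ⟨i, hi⟩ := (h ▸ P.2 : IsPGroup 2 ↥(⊤ : Subgroup S.L)) ⟨⟨k, S.K_le_L hk⟩, Subgroup.mem_top _⟩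
      have hk' : k ^ 2 ^ i = 1 := congrArg (fun z : (⊤ : Subgroup S.L) => ((z : S.L) : G)) hi
      have hd : orderOf k ∣ 2 ^ i := orderOf_dvd_of_pow_eq_one hk'
      have ho : Odd (orderOf k) :=
        S.setup.odd_card.of_dvd_nat (Subgroup.orderOf_dvd_natCard _ (S.K_le hk))
      exact hk1 (orderOf_eq_one_iff.1 (Nat.Coprime.eq_one_of_dvd
        ((Nat.coprime_two_right.2 ho).pow_right i) hd))
  rcases Cfsg.Agent.S2202.result heven hab with h | h | ⟨F, iF, iFt, A, iA, iAf, hchar, hodd, ⟨eG⟩⟩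
  · exact absurd h hnc
  · exact absurd h hnn
  haveI := hchar
  have hc : Subgroup.center (Matrix.SpecialLinearGroup (Fin 2) F) = ⊥ := by
    rw [eq_bot_iff]
    intro x hx
    rw [Matrix.SpecialLinearGroup.mem_center_iff] at hx
    obtain ⟨c, hc, hcx⟩ := hx
    rw [Fintype.card_fin] at hc
    have h1 : c = 1 := by
      have : (c + 1) ^ 2 = 0 := by rw [CharTwo.add_sq, one_pow, hc, CharTwo.add_self_eq_zero]
      exact CharTwo.add_eq_zero.1 (pow_eq_zero_iff (n := 2) (by norm_num) |>.1 this)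
    rw [Subgroup.mem_bot]
    apply Subtype.ext
    rw [← hcx, h1]; simp
  -- the odd abelian factor is trivial
  let π : S.L →* A := (MonoidHom.snd _ A).comp eG.toMonoidHom
  have hsurj : Function.Surjective π := fun w => ⟨eG.symm (1, w), by simp [π]⟩
  have hker : π.ker = ⊤ := by
    refine (IsSimpleGroup.eq_bot_or_eq_top_of_normal π.ker inferInstance).resolve_left fun h => ?_
    have hinj := (MonoidHom.ker_eq_bot_iff π).1 h
    have hcard := Nat.card_congr (Equiv.ofBijective π ⟨hinj, hsurj⟩)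
    exact (Nat.not_even_iff_odd.2 hodd) (hcard ▸ heven)
  haveI : Subsingleton A := by
    refine ⟨fun u w => ?_⟩
    obtain ⟨u', rfl⟩ := hsurj u
    obtain ⟨w', rfl⟩ := hsurj w
    rw [(MonoidHom.mem_ker).1 (hker ▸ Subgroup.mem_top u' : u' ∈ π.ker),
      (MonoidHom.mem_ker).1 (hker ▸ Subgroup.mem_top w' : w' ∈ π.ker)]
  haveI : Unique A := uniqueOfSubsingleton 1
  let e1 : S.L ≃* Matrix.SpecialLinearGroup (Fin 2) F := eG.trans MulEquiv.prodUnique
  let e2 : S.L ≃* Matrix.ProjectiveSpecialLinearGroup (Fin 2) F :=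
    e1.trans ((QuotientGroup.quotientMulEquivOfEq hc).trans QuotientGroup.quotientBot).symm
  obtain ⟨n, -, hn⟩ := FiniteField.card F 2
  refine ⟨F, iF, iFt, ⟨n, ?_, hn⟩, ⟨e2⟩⟩
  by_contra hlt
  have hn1 : (n : ℕ) = 1 := by have := n.pos; omega
  rw [hn1, pow_one] at hn
  -- over the field with two elements the group has order six
  have h6 : Nat.card S.L = 6 := by
    rw [Nat.card_congr e1.toEquiv, CfsgLib.SL2C.card_SL2_mul, hn]; norm_num
  have hQZ : Nat.card Q = Nat.card S.Z :=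
    Nat.card_congr (MulEquiv.subgroupCongr (le_antisymm hQ S.Z_le)).toEquiv
  have h1 : Nat.card S.K * Nat.card Q ∣ Nat.card S.L := by
    have hKQ : (Nat.card S.K).Coprime (Nat.card Q) := by
      rw [hQZ]
      have := S.card_K
      rw [← this]
      simp
    exact hKQ.mul_dvd_of_dvd_of_dvd (Subgroup.card_dvd_of_le S.K_le_L)
      (Subgroup.card_dvd_of_le S.Q_le_L)
  have h4 : 4 ∣ Nat.card S.L := by
    have hQ4 : 4 ∣ Nat.card Q := by
      rw [hQZ]
      obtain ⟨i, hi⟩ : ∃ i, Nat.card S.Z = 2 ^ i := by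
        haveI : Fact (Nat.Prime 2) := ⟨Nat.prime_two⟩
        exact (IsPGroup.iff_card.1 fun z : S.Z => ⟨1, by
          rw [pow_one, pow_two]; exact Subtype.ext (S.Z_sq z.2)⟩)
      have := S.four_le
      rw [hi] at this ⊢
      exact (pow_dvd_pow 2 (show 2 ≤ i by
        by_contra h
        have : 2 ^ i ≤ 2 ^ 1 := Nat.pow_le_pow_right two_pos (by omega)
        omega))
    exact dvd_trans hQ4 (dvd_trans (dvd_mul_left _ _) h1)
  omega

/-- The case of a split non-abelian kernel. -/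
theorem isoSuzuki_L (hsplit : S.IsSplit) (hQ : IsPGroup 2 Q)
    (hna : ∃ x ∈ Q, ∃ y ∈ Q, x * y ≠ y * x) : Cfsg.Lie.IsoSuzuki S.L := by
  classical
  haveI := S.finite_points'
  haveI := Fintype.ofFinite Ω
  haveI := S.isSimpleGroup_L
  refine CfsgLib.SzUnique.isoSuzuki_of_zass (S.zassenhaus_L hsplit) a (Q.subgroupOf S.L)
    (fun x hx => S.setup.le hx) S.normal_L
    (hQ.of_equiv (Subgroup.subgroupOfEquivOfLe S.Q_le_L).symm) ?_ S.regular_L
  obtain ⟨x, hx, y, hy, hne⟩ := hna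
  exact ⟨⟨⟨x, S.Q_le_L hx⟩, hx⟩, ⟨⟨y, S.Q_le_L hy⟩, hy⟩, fun h =>
    hne (congrArg (fun z : ↥(Q.subgroupOf S.L) => ((z : S.L) : G)) h)⟩

end Data

end CfsgLib.Recog.RankOneSuzuki
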