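import Cfsg.Agent.Recog.RankOneSuzuki.FieldDefs
import Cfsg.Agent.Recog.RankOneSuzuki.Cases

/-!
# Suzuki's rank one theorem: the field of the involutions at a point

The group `K` acts regularly on the non-trivial elements of `Z`, so `Z` becomes a field in which `K` acts by
the squares of scalars and the elements of `V` by automorphisms.
-/

set_option autoImplicit false
set_option linter.unusedSectionVars false
set_option linter.style.haveILetI false

namespace CfsgLib.Recog.RankOneSuzuki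

open MulAction CfsgLib.Recog.RankOne

variable {G Ω : Type*} [Group G] [MulAction G Ω]

namespace Data

variable {a : Ω} {t : G} {Q : Subgroup G} (S : Data a t Q)

theorem K_comm {k k' : G} (hk : k ∈ S.K) (hk' : k' ∈ S.K) : k * k' = k' * k := by
  haveI := S.K_cyclic
  letI : CommGroup S.K := IsCyclic.commGroup
  exact congrArg Subtype.val (mul_comm (⟨k, hk⟩ : S.K) ⟨k', hk'⟩)

theorem Z_comm {x y : G} (hx : x ∈ S.Z) (hy : y ∈ S.Z) : x * y = y * x := S.central x hx y (S.Z_le hy)

theorem Z_inv {x : G} (hx : x ∈ S.Z) : x⁻¹ = x := inv_eq_of_mul_eq_one_right (S.Z_sq hx)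

theorem V_mem_D {v : G} (hv : v ∈ S.V) : v ∈ stabilizer G a ⊓ stabilizer G (t • a) := hv.1

theorem V_comm_t {v : G} (hv : v ∈ S.V) : v * t = t * v :=
  Subgroup.mem_centralizer_singleton_iff.1 hv.2

variable [Finite G]

theorem s_invol : S.s ∈ Cfsg.involutionsIn (stabilizer G a : Set G) :=
  (mem_involutionsIn S.setup).2 ⟨S.setup.le (S.Z_le S.s_mem), S.s_ne, S.Z_sq S.s_mem⟩

theorem V_comm_s {v : G} (hv : v ∈ S.V) : v * S.s = S.s * v := by
  have h := centralizer_D_eq S.setup S.s_invol S.r_mem S.special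
  have hv' : v ∈ stabilizer G a ⊓ stabilizer G (t • a) ⊓ Subgroup.centralizer {t} := hv
  rw [h] at hv'
  exact Subgroup.mem_centralizer_singleton_iff.1 hv'.2

theorem V_conj_Z {v x : G} (hv : v ∈ S.V) (hx : x ∈ S.Z) : v * x * v⁻¹ ∈ S.Z :=
  (S.mem_Z _).2 ⟨S.setup.conj_mem v (S.V_mem_D hv).1 x (S.Z_le hx), by
    rw [show v * x * v⁻¹ * (v * x * v⁻¹) = v * (x * x) * v⁻¹ by group, S.Z_sq hx]; group⟩

theorem V_conj_K {v k : G} (hv : v ∈ S.V) (hk : k ∈ S.K) : v * k * v⁻¹ ∈ S.K :=
  S.K_normal v (S.V_mem_D hv) k hk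

/-- The element of `K` attached to a non-trivial element of `Z`. -/
theorem exists_coord {y : G} (hy : y ∈ S.Z) (hy1 : y ≠ 1) : ∃ k ∈ S.K, k * S.s * k⁻¹ = y := by
  obtain ⟨k, hk, he⟩ := S.trans y hy hy1 S.s S.s_mem S.s_ne
  exact ⟨k, hk, by rw [← he]; group⟩

theorem coord_inj {k k' : G} (hk : k ∈ S.K) (hk' : k' ∈ S.K)
    (h : k * S.s * k⁻¹ = k' * S.s * k'⁻¹) : k = k' :=
  inv_injective (S.conj_s_injective (S.K.inv_mem hk) (S.K.inv_mem hk')
    (by rw [inv_inv, inv_inv]; exact h))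

theorem exists_fieldModel :
    ∃ (F : Type) (_ : Field F) (_ : Fintype F) (_ : CharP F 2),
      (∃ n, 2 ≤ n ∧ Fintype.card F = 2 ^ n) ∧ Fintype.card F = Nat.card S.Z ∧
      Nonempty (FieldModel S F) := by
  classical
  have hκ : ∀ y : S.Z, ∃ k : G, k ∈ S.K ∧ ((y : G) ≠ 1 → k * S.s * k⁻¹ = y) := by
    intro y
    by_cases hy : (y : G) = 1
    · exact ⟨1, S.K.one_mem, fun h => absurd hy h⟩
    · obtain ⟨k, hk, he⟩ := S.exists_coord y.2 hy
      exact ⟨k, hk, fun _ => he⟩
  choose κ hκK hκe using hκ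
  let act : G → G → G := fun k x => k * x * k⁻¹
  let mulZ : S.Z → S.Z → S.Z := fun x y =>
    if (y : G) = 1 then 1 else ⟨κ y * x * (κ y)⁻¹, S.conj_Z (hκK y) x.2⟩
  have mul_one' : ∀ x, mulZ x ⟨S.s, S.s_mem⟩ = x := by
    intro x
    have h1 : κ ⟨S.s, S.s_mem⟩ = 1 := S.coord_inj (hκK _) S.K.one_mem
      (by rw [hκe _ S.s_ne]; group)
    apply Subtype.ext
    simp [mulZ, S.s_ne, h1]
  have mul_val : ∀ (x y : S.Z), (y : G) ≠ 1 → (mulZ x y : G) = κ y * x * (κ y)⁻¹ := by
    intro x y hy; simp only [mulZ, if_neg hy]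
  have one_mulZ : ∀ y : S.Z, mulZ 1 y = 1 := by
    intro y
    by_cases hy : (y : G) = 1
    · simp only [mulZ, if_pos hy]
    · exact Subtype.ext (by rw [mul_val _ _ hy]; simp)
  have mulZ_one : ∀ x : S.Z, mulZ x 1 = 1 := by intro x; simp [mulZ]
  have comm : ∀ x y, mulZ x y = mulZ y x := by
    intro x y
    by_cases hy : (y : G) = 1
    · have : y = 1 := Subtype.ext hy
      subst this; rw [one_mulZ, mulZ_one]
    by_cases hx : (x : G) = 1
    · have : x = 1 := Subtype.ext hx
      subst this; rw [one_mulZ, mulZ_one]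
    apply Subtype.ext
    rw [mul_val _ _ hy, mul_val _ _ hx]
    calc κ y * x * (κ y)⁻¹ = κ y * (κ x * S.s * (κ x)⁻¹) * (κ y)⁻¹ := by rw [hκe x hx]
      _ = (κ y * κ x) * S.s * (κ y * κ x)⁻¹ := by group
      _ = (κ x * κ y) * S.s * (κ x * κ y)⁻¹ := by rw [S.K_comm (hκK y) (hκK x)]
      _ = κ x * (κ y * S.s * (κ y)⁻¹) * (κ x)⁻¹ := by group
      _ = _ := by rw [hκe y hy]
  have distrib : ∀ x x' y, mulZ (x * x') y = mulZ x y * mulZ x' y := by
    intro x x' y
    by_cases hy : (y : G) = 1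
    · simp only [mulZ, if_pos hy, one_mul]
    apply Subtype.ext
    rw [Subgroup.coe_mul, mul_val _ _ hy, mul_val _ _ hy, mul_val _ _ hy, Subgroup.coe_mul]
    group
  have assoc : ∀ x y z, mulZ (mulZ x y) z = mulZ x (mulZ y z) := by
    intro x y z
    by_cases hz : (z : G) = 1
    · have : z = 1 := Subtype.ext hz
      subst this; simp only [mulZ_one]
    by_cases hy : (y : G) = 1
    · have : y = 1 := Subtype.ext hy
      subst this; simp only [one_mulZ, mulZ_one]
    have hyz : (mulZ y z : G) ≠ 1 := by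
      rw [mul_val _ _ hz]
      exact fun h => hy (conj_eq_one_iff.1 h)
    have hk : κ (mulZ y z) = κ z * κ y := by
      refine S.coord_inj (hκK _) (S.K.mul_mem (hκK z) (hκK y)) ?_
      rw [hκe _ hyz, mul_val _ _ hz]
      conv_lhs => rw [← hκe y hy]
      group
    apply Subtype.ext
    rw [mul_val _ _ hz, mul_val _ _ hy, mul_val _ _ hyz, hk]
    group
  let R := Additive S.Z
  letI cgZ : CommGroup S.Z :=
    { (inferInstance : Group S.Z) with
      mul_comm := fun x y => Subtype.ext (S.Z_comm x.2 y.2) }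
  letI : Mul R := ⟨fun x y => Additive.ofMul (mulZ x.toMul y.toMul)⟩
  letI : One R := ⟨Additive.ofMul ⟨S.s, S.s_mem⟩⟩
  letI : CommRing R := CommRing.ofMinimalAxioms (fun x y z => add_assoc x y z) zero_add
    neg_add_cancel (fun x y z => assoc _ _ _) (fun x y => comm _ _)
    (fun x => (comm _ _).trans (mul_one' _)) fun x y z => by
      show Additive.ofMul (mulZ x.toMul (y.toMul * z.toMul)) = _
      rw [comm, distrib, comm y.toMul, comm z.toMul]
      rfl
  have hfield : IsField R := by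
    refine ⟨⟨0, 1, fun h => S.s_ne (congrArg Subtype.val (congrArg Additive.toMul h)).symm⟩,
      fun x y => mul_comm x y, fun {x} hx => ?_⟩
    have hx1 : (x.toMul : G) ≠ 1 := fun h => hx (congrArg Additive.ofMul (Subtype.ext h : x.toMul = 1))
    have hk := S.K.inv_mem (hκK x.toMul)
    refine ⟨Additive.ofMul ⟨(κ x.toMul)⁻¹ * S.s * κ x.toMul, by simpa using S.conj_Z hk S.s_mem⟩, ?_⟩
    show Additive.ofMul (mulZ x.toMul _) = Additive.ofMul _
    refine congrArg Additive.ofMul ?_
    rw [comm]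
    apply Subtype.ext
    rw [mul_val _ _ hx1]
    show κ x.toMul * ((κ x.toMul)⁻¹ * S.s * κ x.toMul) * (κ x.toMul)⁻¹ = S.s
    group
  letI : Field R := hfield.toField
  haveI : CharP R 2 := CharTwo.of_one_ne_zero_of_two_eq_zero one_ne_zero (by
    rw [← one_add_one_eq_two]
    exact congrArg Additive.ofMul (Subtype.ext (S.Z_sq S.s_mem)))
  haveI : Finite R := inferInstanceAs (Finite S.Z)
  letI : Fintype R := Fintype.ofFinite R
  obtain ⟨n, -, hn⟩ := FiniteField.card R 2
  have hcard : Fintype.card R = Nat.card S.Z := Nat.card_eq_fintype_card.symm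
  have hn2 : 2 ≤ (n : ℕ) := by
    by_contra h
    have h4 := S.four_le
    rw [← hcard, hn] at h4
    have := n.pos
    rw [show (n : ℕ) = 1 by omega] at h4
    omega
  haveI : Fact (Nat.Prime 2) := ⟨Nat.prime_two⟩
  let F := GaloisField 2 n
  letI : Fintype F := Fintype.ofFinite F
  have hF : Fintype.card F = 2 ^ (n : ℕ) := by
    rw [← Nat.card_eq_fintype_card]; exact GaloisField.card 2 n (by omega)
  let φ : R ≃+* F := FiniteField.ringEquivOfCardEq (hn.trans hF.symm)
  let ι : S.Z ≃ F := Additive.ofMul.trans φ.toEquiv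
  have ι_mul : ∀ x y : S.Z, ι (x * y) = ι x + ι y := fun x y =>
    map_add φ (Additive.ofMul x) (Additive.ofMul y)
  have ι_act : ∀ (x y : S.Z), ι (mulZ x y) = ι x * ι y := fun x y =>
    map_mul φ (Additive.ofMul x) (Additive.ofMul y)
  have ι_s : ι ⟨S.s, S.s_mem⟩ = 1 := map_one φ
  let orb : S.K → S.Z := fun k => ⟨(k : G) * S.s * (k : G)⁻¹, S.conj_Z k.2 S.s_mem⟩
  have orb_ne : ∀ k : S.K, (orb k : G) ≠ 1 := fun k h => S.s_ne (conj_eq_one_iff.1 h)
  have hact : ∀ (k : S.K) (x : S.Z) (h : (k : G) * x * (k : G)⁻¹ ∈ S.Z),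
      ι ⟨_, h⟩ = ι x * ι (orb k) := by
    intro k x h
    rw [← ι_act]
    refine congrArg ι (Subtype.ext ?_)
    rw [mul_val _ _ (orb_ne k)]
    rw [show κ (orb k) = k from S.coord_inj (hκK _) k.2 (by rw [hκe _ (orb_ne k)])]
  let sq : F ≃+* F := frobeniusEquiv F 2
  let r : F ≃+* F := sq.symm
  have r_sq : ∀ x, r x * r x = x := fun x => by
    have := sq.apply_symm_apply x
    rw [show sq (sq.symm x) = sq.symm x ^ 2 from rfl, pow_two] at this
    exact this
  have horb0 : ∀ k, ι (orb k) ≠ 0 := fun k h => orb_ne k (congrArg Subtype.val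
    (ι.injective (h.trans (show (0 : F) = ι 1 from (map_zero φ).symm)) :))
  let μ : S.K →* Fˣ :=
    { toFun := fun k => Units.mk0 (r (ι (orb k))) (fun h => horb0 k (by
        simpa using congrArg sq h))
      map_one' := Units.ext (by
        show r (ι (orb 1)) = 1
        rw [show orb 1 = ⟨S.s, S.s_mem⟩ from Subtype.ext (by simp [orb]), ι_s, map_one])
      map_mul' := fun k k' => Units.ext (by
        show r (ι (orb (k * k'))) = r (ι (orb k)) * r (ι (orb k'))
        rw [← map_mul, mul_comm, ← hact k (orb k') (S.conj_Z k.2 (orb k').2)]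
        refine congrArg r (congrArg ι (Subtype.ext ?_))
        show ((k : G) * k') * S.s * ((k : G) * k')⁻¹ = k * ((k' : G) * S.s * (k' : G)⁻¹) * (k : G)⁻¹
        group) }
  have hμ : ∀ k : S.K, (μ k : F) = r (ι (orb k)) := fun _ => rfl
  have μ_bij : Function.Bijective μ := by
    constructor
    · intro k k' h
      have h2 : orb k = orb k' := ι.injective (r.injective (congrArg Units.val h))
      exact Subtype.ext (S.coord_inj k.2 k'.2 (congrArg Subtype.val h2))
    · intro u
      set y : S.Z := ι.symm ((u : F) * u) with hy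
      have hy1 : (y : G) ≠ 1 := fun h => by
        have h2 : ι y = 0 := by
          rw [show y = 1 from Subtype.ext h]; exact map_zero φ
        rw [hy, Equiv.apply_symm_apply] at h2
        exact mul_ne_zero u.ne_zero u.ne_zero h2
      refine ⟨⟨κ y, hκK y⟩, Units.ext ?_⟩
      rw [hμ, show orb ⟨κ y, hκK y⟩ = y from Subtype.ext (hκe y hy1), hy, Equiv.apply_symm_apply,
        ← pow_two]
      exact sq.symm_apply_apply (u : F)
  let cv : S.V → S.Z ≃ S.Z := fun v =>
    { toFun := fun x => ⟨(v : G) * x * (v : G)⁻¹, S.V_conj_Z v.2 x.2⟩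
      invFun := fun x => ⟨(v : G)⁻¹ * x * v, by simpa using S.V_conj_Z (S.V.inv_mem v.2) x.2⟩
      left_inv := fun x => Subtype.ext (by simp [mul_assoc])
      right_inv := fun x => Subtype.ext (by simp [mul_assoc]) }
  have cv_mul : ∀ (v : S.V) (x y : S.Z), cv v (mulZ x y) = mulZ (cv v x) (cv v y) := by
    intro v x y
    by_cases hy : (y : G) = 1
    · have : y = 1 := Subtype.ext hy
      subst this
      rw [mulZ_one, show cv v 1 = 1 from Subtype.ext (by simp [cv]), mulZ_one]
    have hy' : (cv v y : G) ≠ 1 := fun h => hy (conj_eq_one_iff.1 h)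
    have hk : κ (cv v y) = (v : G) * κ y * (v : G)⁻¹ := by
      refine S.coord_inj (hκK _) (S.V_conj_K v.2 (hκK y)) ?_
      rw [hκe _ hy']
      have hvs : (v : G)⁻¹ * S.s = S.s * (v : G)⁻¹ := by
        rw [eq_mul_inv_iff_mul_eq, mul_assoc, ← S.V_comm_s v.2, inv_mul_cancel_left]
      calc (v : G) * (y : G) * (v : G)⁻¹ = v * (κ y * S.s * (κ y)⁻¹) * (v : G)⁻¹ := by
            rw [hκe y hy]
        _ = v * κ y * ((v : G)⁻¹ * S.s) * (v * (κ y)⁻¹ * (v : G)⁻¹) := by
            rw [hvs]; group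
        _ = _ := by group
    apply Subtype.ext
    show (v : G) * (mulZ x y : G) * (v : G)⁻¹ = _
    rw [mul_val _ _ hy, mul_val _ _ hy', hk]
    show _ = _ * ((v : G) * x * (v : G)⁻¹) * _
    group
  let σ : S.V →* (F ≃+* F) :=
    { toFun := fun v =>
        { toEquiv := ι.symm.trans ((cv v).trans ι)
          map_mul' := fun x y => by
            show ι (cv v (ι.symm (x * y))) = ι (cv v (ι.symm x)) * ι (cv v (ι.symm y))
            rw [← ι_act, ← cv_mul]
            refine congrArg ι (congrArg _ (ι.injective ?_))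
            simp [ι_act]
          map_add' := fun x y => by
            show ι (cv v (ι.symm (x + y))) = ι (cv v (ι.symm x)) + ι (cv v (ι.symm y))
            rw [← ι_mul]
            refine congrArg ι ?_
            rw [show ι.symm (x + y) = ι.symm x * ι.symm y from ι.injective (by simp [ι_mul])]
            exact Subtype.ext (by simp [cv, mul_assoc]) }
      map_one' := RingEquiv.ext fun x => by
        show ι (cv 1 (ι.symm x)) = x
        rw [show cv 1 (ι.symm x) = ι.symm x from Subtype.ext (by simp [cv]), Equiv.apply_symm_apply]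
      map_mul' := fun v w => RingEquiv.ext fun x => by
        show ι (cv (v * w) (ι.symm x)) = ι (cv v (ι.symm (ι (cv w (ι.symm x)))))
        rw [Equiv.symm_apply_apply]
        exact congrArg ι (Subtype.ext (by simp [cv, mul_assoc])) }
  have hσ : ∀ (v : S.V) (x : S.Z), σ v (ι x) = ι (cv v x) := fun v x => by
    show ι (cv v (ι.symm (ι x))) = _
    rw [Equiv.symm_apply_apply]
  refine ⟨F, inferInstance, inferInstance, inferInstance, ⟨n, hn2, hF⟩,
    by rw [hF, ← hn, hcard], ⟨⟨ι, μ, σ, ι_mul, ι_s, μ_bij, fun k x h => ?_,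
      fun v x h => (hσ v x).symm, fun v => ⟨fun h => ?_, fun h => ?_⟩, fun v k h => ?_⟩⟩⟩
  · rw [hact, hμ, r_sq, mul_comm]
  · refine ⟨v.2, Subgroup.mem_centralizer_iff.2 fun x hx => ?_⟩
    have h1 := hσ v ⟨x, hx⟩
    rw [h] at h1
    have h2 : (⟨x, hx⟩ : S.Z) = cv v ⟨x, hx⟩ := ι.injective h1
    have h3 : x = (v : G) * x * (v : G)⁻¹ := congrArg Subtype.val h2
    exact eq_mul_inv_iff_mul_eq.1 h3
  · refine RingEquiv.ext fun x => ?_
    obtain ⟨y, rfl⟩ := ι.surjective x
    rw [hσ]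
    refine congrArg ι (Subtype.ext ?_)
    show (v : G) * y * (v : G)⁻¹ = y
    have := Subgroup.mem_centralizer_iff.1 h.2 y y.2
    rw [← this]; group
  · refine ((sq.injective ?_) : (μ ⟨_, h⟩ : F) = σ v (μ k))
    show (μ ⟨_, h⟩ : F) ^ 2 = (σ v (μ k : F)) ^ 2
    rw [← map_pow, pow_two, pow_two, hμ, hμ, r_sq, r_sq, hσ]
    refine congrArg ι (Subtype.ext ?_)
    have hvs : (v : G)⁻¹ * S.s = S.s * (v : G)⁻¹ := by
      rw [eq_mul_inv_iff_mul_eq, mul_assoc, ← S.V_comm_s v.2, inv_mul_cancel_left]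
    show (v : G) * k * (v : G)⁻¹ * S.s * ((v : G) * k * (v : G)⁻¹)⁻¹ =
      v * ((k : G) * S.s * (k : G)⁻¹) * (v : G)⁻¹
    calc (v : G) * k * (v : G)⁻¹ * S.s * ((v : G) * k * (v : G)⁻¹)⁻¹
        = v * k * ((v : G)⁻¹ * S.s) * (v * (k : G)⁻¹ * (v : G)⁻¹) := by group
      _ = _ := by rw [hvs]; group

end Data

end CfsgLib.Recog.RankOneSuzuki
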