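import Cfsg.Agent.Recog.RankOneSuzuki.BlockDefs
import Cfsg.Agent.Recog.RankOneSuzuki.Field
import Cfsg.Agent.SL2C.Basic

/-!
# Suzuki's rank one theorem: the group `SL₂(q)` of the block

If `r ∈ Z` then `Z`, `K` and `t` generate a copy of `SL₂(F)` which acts on `{a} ∪ Z • (t • a)` as on the
projective line and semiregularly on the other points.
-/

set_option autoImplicit false
set_option linter.unusedSectionVars false
set_option linter.style.haveILetI false

namespace CfsgLib.Recog.RankOneSuzuki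

open MulAction CfsgLib.Recog.RankOne

variable {G Ω : Type*} [Group G] [MulAction G Ω] [Finite G] [FaithfulSMul G Ω]
variable {a : Ω} {t : G} {Q : Subgroup G} {S : Data a t Q}
variable {F : Type} [Field F]

theorem Data.r_eq_s (S : Data a t Q) (hr : S.r ∈ S.Z) : S.r = S.s := by
  have h1 : t * S.r * t = S.s * t * S.r := by
    have h := S.special_r_inv
    rwa [S.Z_inv hr] at h
  have h3 : S.r * t * S.s = S.s * t * S.r := S.special_r.symm.trans h1
  have h4 : S.s * S.r * t = t * (S.s * S.r) := by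
    calc S.s * S.r * t = S.s * (S.r * t * S.s) * S.s := by
          rw [show S.s * (S.r * t * S.s) * S.s = S.s * S.r * t * (S.s * S.s) by group,
            S.Z_sq S.s_mem, mul_one]
      _ = S.s * (S.s * t * S.r) * S.s := by rw [h3]
      _ = (S.s * S.s) * (t * (S.r * S.s)) := by group
      _ = t * (S.s * S.r) := by rw [S.Z_sq S.s_mem, one_mul, S.Z_comm hr S.s_mem]
  have h5 : S.s * S.r = 1 := by
    refine eq_one_of_mem_D S.setup (Q.mul_mem (S.Z_le S.s_mem) S.r_mem) ?_
    rw [← mul_smul, h4, mul_smul, fix_a S.setup (Q.mul_mem (S.Z_le S.s_mem) S.r_mem)]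
  rw [← S.Z_inv S.s_mem]
  exact eq_inv_of_mul_eq_one_right h5

namespace FieldModel

variable [Fintype F] (fm : FieldModel S F)

/-- The element of `Z` with a coordinate. -/
noncomputable def u (x : F) : G := (fm.ι.symm x : G)

/-- The bijection between `K` and the scalars. -/
noncomputable def hK : Fˣ →* G :=
  S.K.subtype.comp (MulEquiv.ofBijective fm.μ fm.μ_bij).symm.toMonoidHom

open Classical in
/-- The element of `K` with a given scalar. -/
noncomputable def hv (x : F) : G := if h : x = 0 then 1 else fm.hK (Units.mk0 x h)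

theorem u_mem (x : F) : fm.u x ∈ S.Z := (fm.ι.symm x).2

theorem u_add (x y : F) : fm.u (x + y) = fm.u x * fm.u y := by
  have : fm.ι.symm (x + y) = fm.ι.symm x * fm.ι.symm y := fm.ι.injective (by simp [fm.ι_mul])
  simp [u, this]

theorem u_inj {x y : F} (h : fm.u x = fm.u y) : x = y := fm.ι.symm.injective (Subtype.ext h)

theorem u_zero : fm.u 0 = 1 := by
  have h := fm.u_add 0 0
  rw [add_zero] at h
  exact left_eq_mul.1 h

theorem u_eq_one {x : F} (h : fm.u x = 1) : x = 0 := fm.u_inj (h.trans fm.u_zero.symm)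

theorem exists_u {z : G} (hz : z ∈ S.Z) : ∃ x, fm.u x = z :=
  ⟨fm.ι ⟨z, hz⟩, by simp [u]⟩

theorem u_sq (x : F) : fm.u x * fm.u x = 1 := S.Z_sq (fm.u_mem x)

theorem u_one : fm.u 1 = S.s := by
  rw [← fm.ι_s]; simp [u]

theorem hK_mem (m : Fˣ) : fm.hK m ∈ S.K := ((MulEquiv.ofBijective fm.μ fm.μ_bij).symm m).2

theorem hK_μ (k : S.K) : fm.hK (fm.μ k) = k := by
  show (((MulEquiv.ofBijective fm.μ fm.μ_bij).symm (MulEquiv.ofBijective fm.μ fm.μ_bij k) : S.K) : G) = _
  rw [MulEquiv.symm_apply_apply]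

theorem hv_mem (x : F) : fm.hv x ∈ S.K := by
  unfold hv
  split
  · exact S.K.one_mem
  · exact fm.hK_mem _

theorem hv_μ (k : S.K) : fm.hv (fm.μ k : F) = k := by
  rw [hv, dif_neg (fm.μ k).ne_zero, show Units.mk0 (fm.μ k : F) _ = fm.μ k from Units.ext rfl, hK_μ]

theorem exists_hv {k : G} (hk : k ∈ S.K) : ∃ x : F, x ≠ 0 ∧ fm.hv x = k :=
  ⟨_, (fm.μ ⟨k, hk⟩).ne_zero, fm.hv_μ ⟨k, hk⟩⟩

theorem exists_μ {x : F} (hx : x ≠ 0) : ∃ k : S.K, (fm.μ k : F) = x := by
  obtain ⟨k, hk⟩ := fm.μ_bij.2 (Units.mk0 x hx)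
  exact ⟨k, by rw [hk]; rfl⟩

theorem hv_mul {x y : F} (hx : x ≠ 0) (hy : y ≠ 0) : fm.hv (x * y) = fm.hv x * fm.hv y := by
  rw [hv, hv, hv, dif_neg hx, dif_neg hy, dif_neg (mul_ne_zero hx hy), ← map_mul]
  exact congrArg fm.hK (Units.ext rfl)

theorem hv_one : fm.hv 1 = 1 := by
  rw [hv, dif_neg one_ne_zero, show Units.mk0 (1 : F) _ = 1 from Units.ext rfl, map_one]

theorem hv_inv {x : F} (hx : x ≠ 0) : fm.hv x⁻¹ = (fm.hv x)⁻¹ :=
  eq_inv_of_mul_eq_one_left (by rw [← fm.hv_mul (inv_ne_zero hx) hx, inv_mul_cancel₀ hx, fm.hv_one])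

theorem hv_inj {x y : F} (hx : x ≠ 0) (hy : y ≠ 0) (h : fm.hv x = fm.hv y) : x = y := by
  obtain ⟨k, rfl⟩ := fm.exists_μ hx
  obtain ⟨k', rfl⟩ := fm.exists_μ hy
  rw [fm.hv_μ, fm.hv_μ] at h
  rw [Subtype.ext h]

theorem u_hv {x m : F} (hm : m ≠ 0) : fm.hv m * fm.u x = fm.u (m * m * x) * fm.hv m := by
  obtain ⟨k, rfl⟩ := fm.exists_μ hm
  have h := fm.ι_K k (fm.ι.symm x) (S.conj_Z k.2 (fm.ι.symm x).2)
  rw [Equiv.apply_symm_apply] at h
  rw [fm.hv_μ, ← h]
  simp only [u, Equiv.symm_apply_apply]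
  group

theorem hv_smul_a (x : F) : fm.hv x • a = a := (S.K_le (fm.hv_mem x)).1

theorem hv_smul_b (x : F) : fm.hv x • t • a = t • a := (S.K_le (fm.hv_mem x)).2

theorem u_smul_a (x : F) : fm.u x • a = a := fix_a S.setup (S.Z_le (fm.u_mem x))

theorem t_hv {m : F} (hm : m ≠ 0) : t * fm.hv m = fm.hv m⁻¹ * t := by
  rw [fm.hv_inv hm]; exact S.t_mul (fm.hv_mem m)

theorem t_u (hr : S.r = S.s) {x : F} (hx : x ≠ 0) :
    t * fm.u x = fm.u x⁻¹ * fm.hv x⁻¹ * t * fm.u x⁻¹ * t := by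
  have hne : fm.u x ≠ 1 := fun h => hx (fm.u_eq_one h)
  obtain ⟨k, hk, he⟩ := S.trans S.s S.s_mem S.s_ne _ (fm.u_mem x) hne
  set m : F := (fm.μ ⟨k, hk⟩ : F) with hmdef
  have hm : m ≠ 0 := (fm.μ ⟨k, hk⟩).ne_zero
  have hkm : fm.hv m = k := fm.hv_μ ⟨k, hk⟩
  have hs : k * S.s * k⁻¹ = fm.u (m * m) := by
    rw [← fm.u_one, ← hkm, fm.u_hv hm, mul_one, mul_inv_cancel_right]
  have hmm : m * m * x = 1 := by
    refine fm.u_inj ?_
    rw [← mul_inv_cancel_right (fm.u (m * m * x)) (fm.hv m), ← fm.u_hv hm, hkm, ← he, fm.u_one]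
    group
  have hx' : x⁻¹ = m * m := (eq_inv_of_mul_eq_one_left hmm).symm
  have h := S.decomp_Z hk
  rw [he, hr, S.s_inv, hs, show k * k = fm.hv (m * m) by rw [fm.hv_mul hm hm, hkm], ← hx'] at h
  rw [← h]
  simp [mul_assoc, S.tt]

/-- Upper unitriangular matrix. -/
def mU (x : F) : Matrix.SpecialLinearGroup (Fin 2) F := ⟨!![1, x; 0, 1], by simp [Matrix.det_fin_two]⟩

theorem coe_mU (x : F) : (mU x : Matrix (Fin 2) (Fin 2) F) = !![1, x; 0, 1] := rfl

/-- Diagonal matrix. -/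
def mH (m : F) (hm : m ≠ 0) : Matrix.SpecialLinearGroup (Fin 2) F :=
  ⟨!![m, 0; 0, m⁻¹], by simp [Matrix.det_fin_two, hm]⟩

theorem coe_mH (m : F) (hm : m ≠ 0) : (mH m hm : Matrix (Fin 2) (Fin 2) F) = !![m, 0; 0, m⁻¹] := rfl

/-- The swap. -/
def mW [CharP F 2] : Matrix.SpecialLinearGroup (Fin 2) F :=
  ⟨!![0, 1; 1, 0], by simp [Matrix.det_fin_two, CharTwo.neg_eq]⟩

theorem coe_mW [CharP F 2] :
    ((mW : Matrix.SpecialLinearGroup (Fin 2) F) : Matrix (Fin 2) (Fin 2) F) = !![0, 1; 1, 0] := rfl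

/-- The element of a matrix. -/
noncomputable def E (A B C D : F) : G :=
  open Classical in
  if C = 0 then fm.u (B / D) * fm.hv A else fm.u (A / C) * fm.hv C⁻¹ * t * fm.u (D / C)

theorem E_U (x A B C D : F) (hdet : A * D + B * C = 1) :
    fm.E (A + x * C) (B + x * D) C D = fm.u x * fm.E A B C D := by
  by_cases hC : C = 0
  · have hD : D ≠ 0 := by
      intro h; rw [hC, h, mul_zero, mul_zero, add_zero] at hdet; exact zero_ne_one hdet
    rw [E, E, if_pos hC, if_pos hC, hC, mul_zero, add_zero, ← mul_assoc, ← fm.u_add]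
    congr 2
    field_simp
    ring
  · rw [E, E, if_neg hC, if_neg hC, ← mul_assoc, ← mul_assoc, ← mul_assoc, ← fm.u_add]
    congr 4
    field_simp
    ring

theorem E_H {m : F} (hm : m ≠ 0) (A B C D : F) (hdet : A * D + B * C = 1) :
    fm.E (m * A) (m * B) (m⁻¹ * C) (m⁻¹ * D) = fm.hv m * fm.E A B C D := by
  by_cases hC : C = 0
  · have hA : A ≠ 0 := by
      intro h; rw [hC, h, mul_zero, zero_mul, add_zero] at hdet; exact zero_ne_one hdet
    rw [E, E, if_pos (by rw [hC, mul_zero]), if_pos hC, ← mul_assoc, fm.u_hv hm,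
      fm.hv_mul hm hA, ← mul_assoc]
    congr 3
    field_simp
  · rw [E, E, if_neg (mul_ne_zero (inv_ne_zero hm) hC), if_neg hC, ← mul_assoc, ← mul_assoc,
      ← mul_assoc, fm.u_hv hm, mul_assoc (fm.u _) (fm.hv m), ← fm.hv_mul hm (inv_ne_zero hC)]
    have e1 : m * A / (m⁻¹ * C) = m * m * (A / C) := by field_simp
    have e2 : (m⁻¹ * C)⁻¹ = m * C⁻¹ := by field_simp
    have e3 : m⁻¹ * D / (m⁻¹ * C) = D / C := by field_simp
    rw [e1, e2, e3]

theorem E_W (hr : S.r = S.s) [CharP F 2] (A B C D : F) (hdet : A * D + B * C = 1) :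
    fm.E C D A B = t * fm.E A B C D := by
  by_cases hC : C = 0
  · have hA : A ≠ 0 := by
      intro h; rw [hC, h, mul_zero, zero_mul, add_zero] at hdet; exact zero_ne_one hdet
    rw [hC, mul_zero, add_zero] at hdet
    have hD : D = A⁻¹ := eq_inv_of_mul_eq_one_right hdet
    rw [E, E, if_neg hA, if_pos hC, hC, zero_div, fm.u_zero, one_mul, hD]
    have h := fm.u_hv (x := B / A) hA
    rw [show A * A * (B / A) = B / A⁻¹ by field_simp] at h
    rw [← h, ← mul_assoc t, fm.t_hv hA]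
  · by_cases hA : A = 0
    · rw [hA, zero_mul, zero_add] at hdet
      have hB : B = C⁻¹ := eq_inv_of_mul_eq_one_left hdet
      rw [E, E, if_pos hA, if_neg hC, hA, zero_div, fm.u_zero, one_mul, hB, ← mul_assoc,
        ← mul_assoc, fm.t_hv (inv_ne_zero hC), inv_inv, mul_assoc (fm.hv C) t t, S.tt, mul_one,
        fm.u_hv hC]
      congr 2
      field_simp
    rw [E, E, if_neg hA, if_neg hC]
    have hx : A / C ≠ 0 := div_ne_zero hA hC
    have key : t * (fm.u (A / C) * fm.hv C⁻¹ * t * fm.u (D / C)) =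
        fm.u (A / C)⁻¹ * fm.hv (A / C)⁻¹ * t * (fm.u (A / C)⁻¹ * fm.hv C) * fm.u (D / C) := by
      calc t * (fm.u (A / C) * fm.hv C⁻¹ * t * fm.u (D / C))
          = (t * fm.u (A / C)) * (fm.hv C⁻¹ * t) * fm.u (D / C) := by group
        _ = (fm.u (A / C)⁻¹ * fm.hv (A / C)⁻¹ * t * fm.u (A / C)⁻¹ * t) * (t * fm.hv C) *
              fm.u (D / C) := by rw [fm.t_u hr hx, ← fm.t_hv hC]
        _ = fm.u (A / C)⁻¹ * fm.hv (A / C)⁻¹ * t * fm.u (A / C)⁻¹ * (t * t) * fm.hv C *
              fm.u (D / C) := by group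
        _ = _ := by rw [S.tt]; group
    rw [key]
    set x := (A / C)⁻¹ with hxdef
    have e1 : fm.u x * fm.hv C = fm.hv C * fm.u (x / (C * C)) := by
      rw [fm.u_hv hC]; congr 2; field_simp
    rw [e1, show fm.u x * fm.hv x * t * (fm.hv C * fm.u (x / (C * C))) * fm.u (D / C) =
      fm.u x * fm.hv x * (t * fm.hv C) * (fm.u (x / (C * C)) * fm.u (D / C)) by group,
      fm.t_hv hC, ← fm.u_add, ← mul_assoc _ (fm.hv C⁻¹) t, mul_assoc (fm.u x) (fm.hv x),
      ← fm.hv_mul (inv_ne_zero hx) (inv_ne_zero hC)]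
    have e2 : x * C⁻¹ = A⁻¹ := by rw [hxdef]; field_simp
    have e3 : x / (C * C) + D / C = B / A := by
      have hchar : (2 : F) = 0 := CharTwo.two_eq_zero
      rw [hxdef]; field_simp
      linear_combination hdet + (1 - C * B) * hchar
    have e4 : C / A = x := by rw [hxdef, inv_div]
    rw [e2, e3, e4]

/-- Generation: a property stable under the three kinds of generators holds everywhere. -/
theorem induction_SL [CharP F 2] (p : Matrix.SpecialLinearGroup (Fin 2) F → Prop)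
    (U : ∀ (x : F) (g g' : Matrix.SpecialLinearGroup (Fin 2) F),
      (g' : Matrix (Fin 2) (Fin 2) F) = !![1, x; 0, 1] * (g : Matrix (Fin 2) (Fin 2) F) → p g → p g')
    (H : ∀ (m : F), m ≠ 0 → ∀ (g g' : Matrix.SpecialLinearGroup (Fin 2) F),
      (g' : Matrix (Fin 2) (Fin 2) F) = !![m, 0; 0, m⁻¹] * (g : Matrix (Fin 2) (Fin 2) F) → p g → p g')
    (W : ∀ (g g' : Matrix.SpecialLinearGroup (Fin 2) F),
      (g' : Matrix (Fin 2) (Fin 2) F) = !![0, 1; 1, 0] * (g : Matrix (Fin 2) (Fin 2) F) → p g → p g')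
    (one : p 1) (g : Matrix.SpecialLinearGroup (Fin 2) F) : p g := by
  have hchar : (2 : F) = 0 := CharTwo.two_eq_zero
  have hU : ∀ x g, p g → p (mU x * g) := fun x g => U x g _ rfl
  have hW : ∀ g, p g → p (mW * g) := fun g => W g _ rfl
  have hH : ∀ m (hm : m ≠ 0) g, p g → p (mH m hm * g) := fun m hm g => H m hm g _ rfl
  obtain ⟨A, hAdet⟩ := g
  have hdet : A 0 0 * A 1 1 + A 0 1 * A 1 0 = 1 := by
    rw [← hAdet, Matrix.det_fin_two]; linear_combination (A 0 1 * A 1 0) * hchar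
  by_cases hC : A 1 0 = 0
  · have hd : A 0 0 * A 1 1 = 1 := by rwa [hC, mul_zero, add_zero] at hdet
    have hA0 : A 0 0 ≠ 0 := left_ne_zero_of_mul_eq_one hd
    have hD0 : A 1 1 ≠ 0 := right_ne_zero_of_mul_eq_one hd
    have e : (⟨A, hAdet⟩ : Matrix.SpecialLinearGroup (Fin 2) F) =
        mU (A 0 1 / A 1 1) * (mH (A 0 0) hA0 * 1) := by
      ext i j
      fin_cases i <;> fin_cases j <;>
        simp [coe_mU, coe_mH, hC, inv_eq_of_mul_eq_one_right hd, hD0]
    rw [e]
    exact hU _ _ (hH _ hA0 1 one)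
  · have e : (⟨A, hAdet⟩ : Matrix.SpecialLinearGroup (Fin 2) F) = mU (A 0 0 / A 1 0) *
        (mH (A 1 0)⁻¹ (inv_ne_zero hC) * (mW * (mU (A 1 1 / A 1 0) * 1))) := by
      apply Subtype.ext
      show A = !![1, A 0 0 / A 1 0; 0, 1] * (!![(A 1 0)⁻¹, 0; 0, (A 1 0)⁻¹⁻¹] *
        (!![0, 1; 1, 0] * (!![1, A 1 1 / A 1 0; 0, 1] * 1)))
      ext i j
      fin_cases i <;> fin_cases j <;>
        simp [Matrix.mul_apply, Fin.sum_univ_two, Matrix.vecMul, dotProduct, hC]
      · field_simp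
        linear_combination hdet - (A 0 0 * A 1 1) * hchar
      · field_simp
    rw [e]
    exact hU _ _ (hH _ (inv_ne_zero hC) _ (hW _ (hU _ 1 one)))

theorem E_mat [CharP F 2] (g : Matrix.SpecialLinearGroup (Fin 2) F) :
    (g : Matrix (Fin 2) (Fin 2) F) 0 0 * (g : Matrix (Fin 2) (Fin 2) F) 1 1 +
      (g : Matrix (Fin 2) (Fin 2) F) 0 1 * (g : Matrix (Fin 2) (Fin 2) F) 1 0 = 1 := by
  have hchar : (2 : F) = 0 := CharTwo.two_eq_zero
  have h := g.2
  rw [Matrix.det_fin_two] at h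
  linear_combination h + ((g : Matrix (Fin 2) (Fin 2) F) 0 1 * (g : Matrix (Fin 2) (Fin 2) F) 1 0) * hchar

/-- The group element of a matrix. -/
noncomputable def elf (g : Matrix.SpecialLinearGroup (Fin 2) F) : G :=
  fm.E ((g : Matrix (Fin 2) (Fin 2) F) 0 0) ((g : Matrix (Fin 2) (Fin 2) F) 0 1)
    ((g : Matrix (Fin 2) (Fin 2) F) 1 0) ((g : Matrix (Fin 2) (Fin 2) F) 1 1)

theorem elf_U [CharP F 2] {x : F} {g g' : Matrix.SpecialLinearGroup (Fin 2) F}
    (h : (g' : Matrix (Fin 2) (Fin 2) F) = !![1, x; 0, 1] * (g : Matrix (Fin 2) (Fin 2) F)) :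
    fm.elf g' = fm.u x * fm.elf g := by
  rw [elf, elf, ← fm.E_U x _ _ _ _ (E_mat g), h]
  simp [Matrix.mul_apply, Fin.sum_univ_two]

theorem elf_H [CharP F 2] {m : F} (hm : m ≠ 0) {g g' : Matrix.SpecialLinearGroup (Fin 2) F}
    (h : (g' : Matrix (Fin 2) (Fin 2) F) = !![m, 0; 0, m⁻¹] * (g : Matrix (Fin 2) (Fin 2) F)) :
    fm.elf g' = fm.hv m * fm.elf g := by
  rw [elf, elf, ← fm.E_H hm _ _ _ _ (E_mat g), h]
  simp [Matrix.mul_apply, Fin.sum_univ_two]

theorem elf_W (hr : S.r = S.s) [CharP F 2] {g g' : Matrix.SpecialLinearGroup (Fin 2) F}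
    (h : (g' : Matrix (Fin 2) (Fin 2) F) = !![0, 1; 1, 0] * (g : Matrix (Fin 2) (Fin 2) F)) :
    fm.elf g' = t * fm.elf g := by
  rw [elf, elf, ← fm.E_W hr _ _ _ _ (E_mat g), h]
  simp [Matrix.mul_apply, Fin.sum_univ_two]

theorem elf_one : fm.elf 1 = 1 := by simp [elf, E, fm.u_zero, fm.hv_one]

theorem elf_mul (hr : S.r = S.s) [CharP F 2] (g g' : Matrix.SpecialLinearGroup (Fin 2) F) :
    fm.elf (g * g') = fm.elf g * fm.elf g' := by
  revert g'
  refine induction_SL (fun g => ∀ g', fm.elf (g * g') = fm.elf g * fm.elf g') ?_ ?_ ?_ ?_ g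
  · intro x g₁ g₂ h ih g'
    rw [fm.elf_U (g := g₁ * g') (g' := g₂ * g') (x := x), ih, fm.elf_U h, mul_assoc]
    rw [Matrix.SpecialLinearGroup.coe_mul, Matrix.SpecialLinearGroup.coe_mul, h, Matrix.mul_assoc]
  · intro m hm g₁ g₂ h ih g'
    rw [fm.elf_H hm (g := g₁ * g') (g' := g₂ * g'), ih, fm.elf_H hm h, mul_assoc]
    rw [Matrix.SpecialLinearGroup.coe_mul, Matrix.SpecialLinearGroup.coe_mul, h, Matrix.mul_assoc]
  · intro g₁ g₂ h ih g'
    rw [fm.elf_W hr (g := g₁ * g') (g' := g₂ * g'), ih, fm.elf_W hr h, mul_assoc]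
    rw [Matrix.SpecialLinearGroup.coe_mul, Matrix.SpecialLinearGroup.coe_mul, h, Matrix.mul_assoc]
  · intro g'; rw [one_mul, fm.elf_one, one_mul]

/-- The homomorphism `SL₂(F) → G`. -/
noncomputable def elHom (hr : S.r = S.s) [CharP F 2] : Matrix.SpecialLinearGroup (Fin 2) F →* G :=
  MonoidHom.mk' fm.elf (fm.elf_mul hr)

theorem elf_upper {x : F} {g : Matrix.SpecialLinearGroup (Fin 2) F}
    (h : (g : Matrix (Fin 2) (Fin 2) F) = !![1, x; 0, 1]) : fm.elf g = fm.u x := by
  simp [elf, E, h, fm.hv_one]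

theorem elf_diag {m : F} {g : Matrix.SpecialLinearGroup (Fin 2) F}
    (h : (g : Matrix (Fin 2) (Fin 2) F) = !![m, 0; 0, m⁻¹]) : fm.elf g = fm.hv m := by
  simp [elf, E, h, fm.u_zero]

theorem elf_swap {g : Matrix.SpecialLinearGroup (Fin 2) F}
    (h : (g : Matrix (Fin 2) (Fin 2) F) = !![0, 1; 1, 0]) : fm.elf g = t := by
  simp [elf, E, h, fm.u_zero, fm.hv_one]

open Classical in
/-- The point of a vector. -/
noncomputable def pt (w : F × F) : Ω := if w.2 = 0 then a else fm.u (w.1 / w.2) • t • a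

theorem pt_ne_a {w : F × F} (h : w.2 ≠ 0) : fm.pt w ≠ a := by
  rw [pt, if_neg h]
  exact smul_ne_a S.setup (S.Z_le (fm.u_mem _)) (b_ne S.setup)

theorem u_pt (x : F) (w : F × F) : fm.u x • fm.pt w = fm.pt (w.1 + x * w.2, w.2) := by
  by_cases h : w.2 = 0
  · rw [pt, pt, if_pos h, if_pos h, fm.u_smul_a]
  · rw [pt, pt, if_neg h, if_neg h, ← mul_smul, ← fm.u_add]
    congr 2
    field_simp
    ring

theorem hv_pt {m : F} (hm : m ≠ 0) (w : F × F) : fm.hv m • fm.pt w = fm.pt (m * w.1, m⁻¹ * w.2) := by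
  by_cases h : w.2 = 0
  · rw [pt, pt, if_pos h, if_pos (show m⁻¹ * w.2 = 0 by rw [h, mul_zero]), fm.hv_smul_a]
  · rw [pt, pt, if_neg h, if_neg (show m⁻¹ * w.2 ≠ 0 from mul_ne_zero (inv_ne_zero hm) h),
      ← mul_smul, fm.u_hv hm, mul_smul, fm.hv_smul_b]
    congr 2
    field_simp

theorem t_pt (hr : S.r = S.s) (w : F × F) (hw : w ≠ 0) : t • fm.pt w = fm.pt (w.2, w.1) := by
  by_cases h : w.2 = 0
  · have h1 : w.1 ≠ 0 := fun h1 => hw (Prod.ext h1 h)
    rw [pt, pt, if_pos h, if_neg (show (w.2, w.1).2 ≠ 0 from h1)]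
    simp [h, fm.u_zero]
  · by_cases h1 : w.1 = 0
    · rw [pt, pt, if_neg h, if_pos (show (w.2, w.1).2 = 0 from h1), h1, zero_div, fm.u_zero,
        one_smul, t_b S.setup]
    · rw [pt, pt, if_neg h, if_neg (show (w.2, w.1).2 ≠ 0 from h1), ← mul_smul,
        fm.t_u hr (div_ne_zero h1 h), inv_div]
      show (fm.u (w.2 / w.1) * fm.hv (w.2 / w.1) * t * fm.u (w.2 / w.1) * t) • t • a = _
      rw [mul_smul, t_b S.setup, mul_smul, fm.u_smul_a, mul_smul, mul_smul, fm.hv_smul_b]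

theorem app_mul (g g' : Matrix.SpecialLinearGroup (Fin 2) F) (w : F × F) :
    app (g * g') w = app g (app g' w) := by
  simp only [app, Matrix.SpecialLinearGroup.coe_mul, Matrix.mul_apply, Fin.sum_univ_two]
  ext <;> ring

theorem app_one (w : F × F) : app (1 : Matrix.SpecialLinearGroup (Fin 2) F) w = w := by
  simp [app]

theorem app_ne (g : Matrix.SpecialLinearGroup (Fin 2) F) {w : F × F} (hw : w ≠ 0) : app g w ≠ 0 := by
  intro h
  have h1 := congrArg (app g⁻¹) h
  rw [← app_mul, inv_mul_cancel, app_one] at h1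
  exact hw (h1.trans (by simp [app]))

theorem app_add (g : Matrix.SpecialLinearGroup (Fin 2) F) (w z : F × F) :
    app g (w + z) = app g w + app g z := by
  simp only [app, Prod.fst_add, Prod.snd_add]
  ext <;> simp <;> ring

theorem br_app [CharP F 2] (g : Matrix.SpecialLinearGroup (Fin 2) F) (w z : F × F) :
    br (app g w) (app g z) = br w z := by
  have hchar : (2 : F) = 0 := CharTwo.two_eq_zero
  simp only [br, app]
  linear_combination (w.1 * z.2 + w.2 * z.1) * E_mat g +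
    ((g : Matrix (Fin 2) (Fin 2) F) 0 0 * (g : Matrix (Fin 2) (Fin 2) F) 1 0 * w.1 * z.1 +
      (g : Matrix (Fin 2) (Fin 2) F) 0 1 * (g : Matrix (Fin 2) (Fin 2) F) 1 1 * w.2 * z.2) * hchar

theorem elf_pt (hr : S.r = S.s) [CharP F 2] (g : Matrix.SpecialLinearGroup (Fin 2) F) :
    ∀ w : F × F, w ≠ 0 → fm.elf g • fm.pt w = fm.pt (app g w) := by
  refine induction_SL (fun g => ∀ w : F × F, w ≠ 0 → fm.elf g • fm.pt w = fm.pt (app g w)) ?_ ?_ ?_
    ?_ g
  · intro x g₁ g₂ h ih w hw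
    rw [fm.elf_U h, mul_smul, ih w hw, fm.u_pt]
    congr 1
    simp [app, h, Matrix.mul_apply, Fin.sum_univ_two]
    ring
  · intro m hm g₁ g₂ h ih w hw
    rw [fm.elf_H hm h, mul_smul, ih w hw, fm.hv_pt hm]
    congr 1
    simp [app, h, Matrix.mul_apply, Fin.sum_univ_two]
    constructor <;> ring
  · intro g₁ g₂ h ih w hw
    rw [fm.elf_W hr h, mul_smul, ih w hw, fm.t_pt hr _ (app_ne g₁ hw)]
    congr 1
    simp [app, h, Matrix.mul_apply, Fin.sum_univ_two]
  · intro w hw; rw [fm.elf_one, one_smul, app_one]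

theorem pt_eq [CharP F 2] (w w' : F × F) (hw : w ≠ 0) (hw' : w' ≠ 0) :
    fm.pt w = fm.pt w' ↔ br w w' = 0 := by
  by_cases h : w.2 = 0
  · have h1 : w.1 ≠ 0 := fun h1 => hw (Prod.ext h1 h)
    by_cases h' : w'.2 = 0
    · simp [pt, br, h, h']
    · refine ⟨fun he => absurd (he.symm.trans (by rw [pt, if_pos h])) (fm.pt_ne_a h'), fun he => ?_⟩
      simp [br, h, h1, h'] at he
  · by_cases h' : w'.2 = 0
    · have h1 : w'.1 ≠ 0 := fun h1 => hw' (Prod.ext h1 h')
      refine ⟨fun he => absurd (he.trans (by rw [pt, if_pos h'])) (fm.pt_ne_a h), fun he => ?_⟩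
      simp [br, h, h1, h'] at he
    · rw [pt, pt, if_neg h, if_neg h']
      constructor
      · intro he
        have h2 := fm.u_inj (eq_of_smul_eq S.setup (S.Z_le (fm.u_mem _)) (S.Z_le (fm.u_mem _))
          (b_ne S.setup) he)
        rw [div_eq_div_iff h h'] at h2
        simp only [br]
        rw [h2, mul_comm w'.1, CharTwo.add_self_eq_zero]
      · intro he
        have h2 : w.1 / w.2 = w'.1 / w'.2 := by
          rw [div_eq_div_iff h h']
          simp only [br] at he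
          rw [CharTwo.add_eq_zero.1 he, mul_comm]
        rw [h2]

theorem elf_inj (hr : S.r = S.s) [CharP F 2] : Function.Injective (fm.elHom hr) := by
  refine (MonoidHom.ker_eq_bot_iff _).1 (eq_bot_iff.2 fun g hg => ?_)
  have hg' : fm.elf g = 1 := hg
  have h1 := fm.elf_pt hr g (1, 0) (by simp)
  rw [hg', one_smul] at h1
  have h10 : (g : Matrix (Fin 2) (Fin 2) F) 1 0 = 0 := by
    by_contra hc
    exact fm.pt_ne_a (w := app g (1, 0)) (by simpa [app] using hc) (by rw [← h1, pt, if_pos rfl])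
  have hdet := E_mat g
  rw [h10, mul_zero, add_zero] at hdet
  have hA := left_ne_zero_of_mul_eq_one hdet
  have hu : fm.u ((g : Matrix (Fin 2) (Fin 2) F) 0 1 / (g : Matrix (Fin 2) (Fin 2) F) 1 1) *
      fm.hv ((g : Matrix (Fin 2) (Fin 2) F) 0 0) = 1 := by rwa [elf, E, if_pos h10] at hg'
  obtain ⟨e1, e2⟩ := mul_unique S.setup (S.Z_le (fm.u_mem _)) Q.one_mem (S.K_le (fm.hv_mem _))
    (one_mem _) (hu.trans (one_mul 1).symm)
  have hA1 : (g : Matrix (Fin 2) (Fin 2) F) 0 0 = 1 :=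
    fm.hv_inj hA one_ne_zero (e2.trans fm.hv_one.symm)
  rw [hA1, one_mul] at hdet
  have hB : (g : Matrix (Fin 2) (Fin 2) F) 0 1 = 0 := by
    have := fm.u_eq_one e1
    rwa [hdet, div_one] at this
  rw [Subgroup.mem_bot]
  ext i j
  fin_cases i <;> fin_cases j <;> simp [hA1, hdet, hB, h10]

omit [FaithfulSMul G Ω] in
theorem two_points_of_K {k : G} (hk : k ∈ S.K) (hk1 : k ≠ 1) {c : Ω} (hc : k • c = c) :
    c = a ∨ c = t • a := by
  by_cases hca : c = a
  · exact Or.inl hca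
  obtain ⟨z, hz, rfl⟩ := exists_mem_smul S.setup hca
  have hz1 : z = 1 := S.fpf k hk hk1 z hz
    (commute_of_fix S.setup (S.K_le hk).1 hz (b_ne S.setup) (S.K_le hk).2 hc)
  exact Or.inr (by rw [hz1, one_smul])

theorem pt_a : fm.pt (1, 0) = a := by simp [pt]

theorem pt_b : fm.pt (0, 1) = t • a := by simp [pt, fm.u_zero]

theorem pt_u (x : F) : fm.pt (x, 1) = fm.u x • t • a := by simp [pt]

/-- An element of the block group fixing a point outside the block is trivial. -/
theorem free' (hr : S.r = S.s) [CharP F 2] (g : Matrix.SpecialLinearGroup (Fin 2) F) (c : Ω)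
    (hc : ∀ w : F × F, w ≠ 0 → fm.pt w ≠ c) (hgc : fm.elf g • c = c) : g = 1 := by
  classical
  have hchar : (2 : F) = 0 := CharTwo.two_eq_zero
  have hca : c ≠ a := fun h => hc (1, 0) (by simp) (by rw [fm.pt_a, h])
  refine (fm.elf_inj hr) ?_
  show fm.elf g = fm.elHom hr 1
  rw [map_one]
  by_contra hne
  set A := (g : Matrix (Fin 2) (Fin 2) F) 0 0 with hA
  set B := (g : Matrix (Fin 2) (Fin 2) F) 0 1 with hB
  set C := (g : Matrix (Fin 2) (Fin 2) F) 1 0 with hC
  set D := (g : Matrix (Fin 2) (Fin 2) F) 1 1 with hD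
  have hdet : A * D + B * C = 1 := E_mat g
  by_cases hC0 : C = 0
  · have he : fm.elf g = fm.u (B / D) * fm.hv A := by rw [elf, E, if_pos hC0]
    rw [he] at hgc hne
    have hA0 : A ≠ 0 := by
      intro h; rw [hC0, h, mul_zero, zero_mul, add_zero] at hdet; exact zero_ne_one hdet
    by_cases hA1 : A = 1
    · rw [hA1, fm.hv_one, mul_one] at hgc hne
      exact hne (eq_one_of_fix S.setup (S.Z_le (fm.u_mem _)) hca hgc)
    have hne' : 1 + A * A ≠ 0 := by
      intro h
      have h2 : (1 + A) ^ 2 = 0 := by rw [CharTwo.add_sq, one_pow, pow_two, h]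
      exact hA1 (CharTwo.add_eq_zero.1 ((pow_eq_zero_iff two_ne_zero).1 h2)).symm
    set y := B / D / (1 + A * A) with hy
    have hconj : fm.u (B / D) * fm.hv A = fm.u y * fm.hv A * fm.u y := by
      rw [mul_assoc, fm.u_hv hA0, ← mul_assoc, ← fm.u_add]
      congr 2
      rw [show y + A * A * y = (1 + A * A) * y by ring, hy, mul_div_cancel₀ _ hne']
    rw [hconj] at hgc
    have hfix : fm.hv A • fm.u y • c = fm.u y • c := by
      conv_rhs => rw [← hgc]
      rw [← mul_smul, ← mul_smul, ← mul_assoc, ← mul_assoc, fm.u_sq, one_mul]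
    have hk1 : fm.hv A ≠ 1 := fun h => hA1 (fm.hv_inj hA0 one_ne_zero (h.trans fm.hv_one.symm))
    rcases two_points_of_K (fm.hv_mem A) hk1 hfix with h | h
    · refine hca ?_
      have := congrArg (fm.u y • ·) h
      simpa [← mul_smul, fm.u_sq, fm.u_smul_a] using this
    · refine hc (y, 1) (by simp) ?_
      rw [fm.pt_u, ← h, ← mul_smul, fm.u_sq, one_smul]
  set r := (A + D) / C with hr'
  set e := fm.elf g with he
  set v := fm.u r with hv'
  have hveq : v * e * v = e⁻¹ := by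
    set U := mU r with hUdef
    have hU : fm.elHom hr U = v := fm.elf_upper rfl
    have hUg : U * g * U * g = 1 := by
      have h1 : r * C = A + D := div_mul_cancel₀ _ hC0
      apply Matrix.SpecialLinearGroup.ext
      intro i j
      fin_cases i <;> fin_cases j <;>
        simp [hUdef, coe_mU, Matrix.mul_apply, Fin.sum_univ_two, Matrix.vecMul, dotProduct, ← hA, ← hB,
          ← hC, ← hD]
      · linear_combination hdet + (3 * A + 2 * D + r * C) * h1 +
          (2 * A * A + 2 * A * D + D * D) * hchar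
      · linear_combination (B + r * D) * h1 + ((A + D) * (B + r * D)) * hchar
      · linear_combination C * h1 + (C * (A + D)) * hchar
      · linear_combination hdet + D * h1 + (D * D) * hchar
    have h2 := congrArg (fm.elHom hr) hUg
    rw [map_mul, map_mul, map_mul, hU, map_one] at h2
    exact eq_inv_of_mul_eq_one_left h2
  by_cases hr0 : r = 0
  · rw [hv', hr0, fm.u_zero, one_mul, mul_one] at hveq
    have he2 : e * e = 1 := by nth_rewrite 1 [hveq]; rw [inv_mul_cancel]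
    have hAD : A = D := CharTwo.add_eq_zero.1 ((div_eq_zero_iff.1 hr0).resolve_right hC0)
    set w : F × F := ((1 + D) / C, 1) with hw
    have hfix : app g w = w := by
      simp only [app, ← hA, ← hB, ← hC, ← hD, hw]
      refine Prod.ext ?_ ?_
      · rw [← hAD] at hdet ⊢
        field_simp
        linear_combination hdet
      · simp only
        field_simp
        linear_combination D * hchar
    have hw0 : w ≠ 0 := by simp [hw]
    have hef : e • fm.pt w = fm.pt w := by rw [he, fm.elf_pt hr g w hw0, hfix]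
    exact hc w hw0 (fix_unique S.setup hne he2 hef hgc)
  have hv1 : v ≠ 1 := fun h => hr0 (fm.u_eq_one h)
  have hvv : v * v = 1 := fm.u_sq r
  have hvc : v • c ≠ c := fun h => hca (fix_only_a S.setup (S.Z_le (fm.u_mem r)) hv1 h)
  have hevc : e • v • c = v • c := by
    have h1 : v * e⁻¹ = e * v := by
      rw [← hveq, show v * (v * e * v) = (v * v) * e * v by group, hvv, one_mul]
    rw [← mul_smul, ← h1, mul_smul, inv_smul_eq_iff.2 hgc.symm]
  obtain ⟨x, hxc, hxvc⟩ := exists_pair S.setup hvc.symm (b_ne S.setup).symm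
  set e' := x * e * x⁻¹ with he'
  set v' := x * v * x⁻¹ with hv''
  have he'D : e' ∈ stabilizer G a ⊓ stabilizer G (t • a) := by
    refine ⟨?_, ?_⟩
    · show e' • a = a
      rw [he', mul_smul, mul_smul, inv_smul_eq_iff.2 hxc.symm, hgc, hxc]
    · show e' • t • a = t • a
      rw [he', mul_smul, mul_smul, inv_smul_eq_iff.2 hxvc.symm, hevc, hxvc]
  have hv'a : v' • a = t • a := by
    rw [hv'', mul_smul, mul_smul, inv_smul_eq_iff.2 hxc.symm, hxvc]
  have hv'b : v' • t • a = a := by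
    rw [hv'', mul_smul, mul_smul, inv_smul_eq_iff.2 hxvc.symm, ← mul_smul v, hvv, one_smul, hxc]
  set d := t * v' with hd
  have hv'2 : v' * v' = 1 := by
    rw [hv'', show x * v * x⁻¹ * (x * v * x⁻¹) = x * (v * v) * x⁻¹ by group, hvv]; group
  have hdK : d ∈ S.K := by
    refine (S.mem_K d).2 ⟨⟨?_, ?_⟩, ?_⟩
    · show d • a = a
      rw [hd, mul_smul, hv'a, t_b S.setup]
    · show d • t • a = t • a
      rw [hd, mul_smul, hv'b]
    · rw [hd, show t * (t * v') * t = (t * t) * (v' * t) by group, S.tt, one_mul]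
      refine (inv_eq_of_mul_eq_one_right ?_).symm
      rw [show t * v' * (v' * t) = t * (v' * v') * t by group, hv'2, mul_one, S.tt]
  have hdi : d⁻¹ * t = v' := by
    rw [hd, mul_inv_rev, S.ti, mul_assoc, S.tt, mul_one]
    exact inv_eq_of_mul_eq_one_right hv'2
  have hK : e' ∈ S.K := by
    refine S.mem_K_of_twist he'D hdK ?_
    have h2 : v' * e'⁻¹ * v' = e' := by
      rw [he', hv'', show x * v * x⁻¹ * (x * e * x⁻¹)⁻¹ * (x * v * x⁻¹) =
        x * (v * e⁻¹ * v) * x⁻¹ by group, ← hveq,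
        show v * (v * e * v) * v = (v * v) * e * (v * v) by group, hvv, one_mul, mul_one]
    have h3 : t * d = v' := by rw [hd, S.tt_cancel]
    calc e' = v' * e'⁻¹ * v' := h2.symm
      _ = (d⁻¹ * t) * e'⁻¹ * (t * d) := by rw [hdi, h3]
      _ = _ := by group
  have he1 : e' ≠ 1 := fun h => hne (conj_eq_one_iff.1 h)
  have hord : orderOf e' = orderOf e := orderOf_injective (MulAut.conj x).toMonoidHom
    (MulEquiv.injective _) e
  have hdK' : orderOf e ∣ Nat.card S.K := hord ▸ Subgroup.orderOf_dvd_natCard _ hK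
  have hm1 : orderOf e ≠ 1 := fun h => hne (orderOf_eq_one_iff.1 h)
  obtain ⟨p, hp, hpd⟩ := Nat.exists_prime_and_dvd hm1
  haveI := Fact.mk hp
  obtain ⟨n, hn⟩ := hpd
  have he1p : orderOf (e ^ n) = p := by
    have hn0 : n ≠ 0 := by
      rintro rfl
      exact (orderOf_pos e).ne' (by rw [hn, mul_zero])
    rw [orderOf_pow_of_dvd hn0 (hn ▸ dvd_mul_left n p), hn, Nat.mul_div_cancel _ (Nat.pos_of_ne_zero hn0)]
  let β := {y : Ω // ∃ w : F × F, w ≠ 0 ∧ fm.pt w = y}
  have hmap : ∀ y : β, (e ^ n) • (y : Ω) ∈ {y : Ω | ∃ w : F × F, w ≠ 0 ∧ fm.pt w = y} := by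
    rintro ⟨y, w, hw, rfl⟩
    refine ⟨app (g ^ n) w, app_ne _ hw, ?_⟩
    rw [← fm.elf_pt hr _ w hw, show fm.elf (g ^ n) = e ^ n from map_pow (fm.elHom hr) g n]
  let f : Function.End β := fun y => ⟨(e ^ n) • (y : Ω), hmap y⟩
  have hpow : ∀ (k : ℕ) (y : β), ((f ^ k) y : Ω) = ((e ^ n) ^ k) • (y : Ω) := by
    intro k
    induction k with
    | zero => intro y; simp [Function.End.one_def]
    | succ k ih =>
      intro y
      rw [pow_succ, pow_succ, mul_smul]
      exact ih (f y)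
  have hf : f ^ p ^ 1 = 1 := funext fun y => Subtype.ext (by
    rw [hpow, pow_one, ← he1p, pow_orderOf_eq_one, one_smul]; rfl)
  haveI : Finite Ω := finite_points S.setup
  haveI := Fintype.ofFinite β
  have hmod := Equiv.Perm.card_fixedPoints_modEq (p := p) (n := 1) hf
  have hempty : IsEmpty f.fixedPoints := by
    refine ⟨fun z => ?_⟩
    obtain ⟨⟨y, w, hw, rfl⟩, hy⟩ := z
    have hy' : (e ^ n) • fm.pt w = fm.pt w := congrArg Subtype.val hy
    have hfixy : (x * e ^ n * x⁻¹) • x • fm.pt w = x • fm.pt w := by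
      rw [mul_smul, inv_smul_smul, mul_smul, hy']
    have hk1 : x * e ^ n * x⁻¹ ≠ 1 := fun h => hp.ne_one (by
      rw [← he1p, conj_eq_one_iff.1 h, orderOf_one])
    have hkK : x * e ^ n * x⁻¹ ∈ S.K := by
      rw [← conj_pow]; exact S.K.pow_mem hK n
    rcases two_points_of_K hkK hk1 hfixy with h | h
    · exact hc w hw (smul_left_cancel x (h.trans hxc.symm))
    · have h2 : fm.pt w = v • c := smul_left_cancel x (h.trans hxvc.symm)
      refine hc ((w.1 + r * w.2, w.2)) ?_ ?_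
      · intro h0
        simp [Prod.ext_iff] at h0
        exact hw (Prod.ext (by simpa [h0.2] using h0.1) h0.2)
      · rw [← fm.u_pt, ← hv', h2, ← mul_smul, hvv, one_smul]
  rw [Fintype.card_eq_zero (α := f.fixedPoints)] at hmod
  have hcβ : Fintype.card β = Nat.card F + 1 := by
    let q : Option F → β := fun o => match o with
      | none => ⟨a, (1, 0), by simp, fm.pt_a⟩
      | some z => ⟨fm.pt (z, 1), (z, 1), by simp, rfl⟩
    have hq : Function.Bijective q := by
      constructor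
      · rintro (_ | z) (_ | z') h
        · rfl
        · exact absurd (congrArg Subtype.val h).symm (fm.pt_ne_a (w := (z', 1)) one_ne_zero)
        · exact absurd (congrArg Subtype.val h) (fm.pt_ne_a (w := (z, 1)) one_ne_zero)
        · have := (fm.pt_eq _ _ (by simp) (by simp)).1 (congrArg Subtype.val h :)
          simp [br] at this
          exact congrArg some (CharTwo.add_eq_zero.1 this)
      · rintro ⟨y, w, hw, rfl⟩
        by_cases h2 : w.2 = 0
        · exact ⟨none, Subtype.ext (by simp [q, pt, h2])⟩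
        · exact ⟨some (w.1 / w.2), Subtype.ext (by simp [q, pt, h2])⟩
    rw [← Nat.card_eq_fintype_card, ← Nat.card_congr (Equiv.ofBijective q hq), Finite.card_option]
  rw [hcβ] at hmod
  have hdq : p ∣ Nat.card F + 1 := Nat.modEq_zero_iff_dvd.1 hmod
  have hqK : Nat.card F = Nat.card S.K + 1 := by rw [S.card_K, Nat.card_congr fm.ι]
  have hpK : p ∣ Nat.card S.K := dvd_trans (hn ▸ dvd_mul_right p n) hdK'
  rw [hqK, show Nat.card S.K + 1 + 1 = Nat.card S.K + 2 by omega] at hdq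
  have hp2 : p ∣ 2 := (Nat.dvd_add_right hpK).1 hdq
  have hodd : Odd (Nat.card S.K) := S.setup.odd_card.of_dvd_nat (Subgroup.card_dvd_of_le S.K_le)
  exact hodd.not_two_dvd_nat (((Nat.prime_dvd_prime_iff_eq hp Nat.prime_two).1 hp2) ▸ hpK)

theorem V_u (v : S.V) (x : F) : (v : G) * fm.u x = fm.u (fm.σ v x) * v := by
  have h2 := fm.ι_V v (fm.ι.symm x) (S.V_conj_Z v.2 (fm.ι.symm _).2)
  rw [Equiv.apply_symm_apply] at h2
  rw [← h2]
  simp only [u, Equiv.symm_apply_apply]
  group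

/-- An element of `V` on the points and on the matrices. -/
theorem V_pt (v : S.V) (w : F × F) : (v : G) • fm.pt w = fm.pt (fm.σ v w.1, fm.σ v w.2) := by
  have hva : (v : G) • a = a := (S.V_mem_D v.2).1
  have hvb : (v : G) • t • a = t • a := (S.V_mem_D v.2).2
  by_cases h : w.2 = 0
  · rw [pt, pt, if_pos h, if_pos (show fm.σ v w.2 = 0 by rw [h, map_zero]), hva]
  · rw [pt, pt, if_neg h, if_neg (show fm.σ v w.2 ≠ 0 from fun h' => h (map_eq_zero (fm.σ v) |>.1 h'))]
    have hu : (v : G) * fm.u (w.1 / w.2) = fm.u (fm.σ v w.1 / fm.σ v w.2) * v := by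
      rw [← map_div₀ (fm.σ v)]; exact fm.V_u v _
    rw [← mul_smul, hu, mul_smul, hvb]

theorem V_elf (hr : S.r = S.s) [CharP F 2] (v : S.V) (g : Matrix.SpecialLinearGroup (Fin 2) F) :
    (v : G) * fm.elf g =
      fm.elf (Matrix.SpecialLinearGroup.map (fm.σ v : F →+* F) g) * v := by
  have hu := fm.V_u v
  have hh : ∀ m, m ≠ 0 → (v : G) * fm.hv m = fm.hv (fm.σ v m) * v := by
    intro m hm
    obtain ⟨k, rfl⟩ := fm.exists_μ hm
    rw [← fm.μ_V v k (S.V_conj_K v.2 k.2), fm.hv_μ, fm.hv_μ]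
    group
  refine induction_SL (fun g => (v : G) * fm.elf g =
    fm.elf (Matrix.SpecialLinearGroup.map (fm.σ v : F →+* F) g) * v) ?_ ?_ ?_ ?_ g
  · intro x g₁ g₂ h ih
    rw [fm.elf_U h, fm.elf_U (x := fm.σ v x) (g := Matrix.SpecialLinearGroup.map (fm.σ v : F →+* F) g₁)
      (g' := Matrix.SpecialLinearGroup.map (fm.σ v : F →+* F) g₂), ← mul_assoc, hu, mul_assoc, ih,
      mul_assoc]
    ext i j
    fin_cases i <;> fin_cases j <;>
      simp [h, Matrix.mul_apply, Fin.sum_univ_two, Matrix.vecMul, dotProduct]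
  · intro m hm g₁ g₂ h ih
    rw [fm.elf_H hm h, fm.elf_H (m := fm.σ v m) ((map_ne_zero (fm.σ v)).2 hm)
      (g := Matrix.SpecialLinearGroup.map (fm.σ v : F →+* F) g₁)
      (g' := Matrix.SpecialLinearGroup.map (fm.σ v : F →+* F) g₂), ← mul_assoc, hh m hm, mul_assoc,
      ih, mul_assoc]
    ext i j
    fin_cases i <;> fin_cases j <;>
      simp [h, Matrix.mul_apply, Fin.sum_univ_two, Matrix.vecMul, dotProduct]
  · intro g₁ g₂ h ih
    rw [fm.elf_W hr h, fm.elf_W hr (g := Matrix.SpecialLinearGroup.map (fm.σ v : F →+* F) g₁)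
      (g' := Matrix.SpecialLinearGroup.map (fm.σ v : F →+* F) g₂), ← mul_assoc, S.V_comm_t v.2,
      mul_assoc, ih, mul_assoc]
    ext i j
    fin_cases i <;> fin_cases j <;>
      simp [h, Matrix.mul_apply, Fin.sum_univ_two, Matrix.vecMul, dotProduct]
  · rw [fm.elf_one, map_one, fm.elf_one, one_mul, mul_one]

/-- A permutation of the block lifts to an element of the block group times an element of `V`. -/
theorem decomp (hr : S.r = S.s) [CharP F 2] (γ : G)
    (hγ : ∀ w : F × F, w ≠ 0 → ∃ w' : F × F, w' ≠ 0 ∧ γ • fm.pt w = fm.pt w') :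
    ∃ (g : Matrix.SpecialLinearGroup (Fin 2) F) (v : S.V), γ = fm.elf g * v := by
  have hchar : (2 : F) = 0 := CharTwo.two_eq_zero
  obtain ⟨w, hw, hwa⟩ := hγ (1, 0) (by simp)
  obtain ⟨z, hz, hzb⟩ := hγ (0, 1) (by simp)
  have hbr : br w z ≠ 0 := fun h => by
    have h2 := (fm.pt_eq w z hw hz).2 h
    rw [← hwa, ← hzb] at h2
    have h3 := (fm.pt_eq (1, 0) (0, 1) (by simp) (by simp)).1 (smul_left_cancel γ h2)
    simp [br] at h3
  set l := (br w z)⁻¹ with hl
  let g₀ : Matrix.SpecialLinearGroup (Fin 2) F := ⟨!![w.1, l * z.1; w.2, l * z.2], by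
    have : l * br w z = 1 := inv_mul_cancel₀ hbr
    simp only [br] at this
    rw [Matrix.det_fin_two]
    simp
    linear_combination this - (l * w.2 * z.1) * hchar⟩
  have h1 : app g₀ (1, 0) = w := by simp [app, g₀]
  have h2 : fm.pt (app g₀ (0, 1)) = fm.pt z := by
    refine (fm.pt_eq _ _ (app_ne _ (by simp)) hz).2 ?_
    simp [app, g₀, br]
    linear_combination (l * z.1 * z.2) * hchar
  set d := (fm.elf g₀)⁻¹ * γ with hd
  have hga : fm.elf g₀ • a = fm.pt w := by
    have h3 := fm.elf_pt hr g₀ (1, 0) (by simp)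
    rwa [fm.pt_a, h1] at h3
  have hgb : fm.elf g₀ • t • a = fm.pt z := by
    have h3 := fm.elf_pt hr g₀ (0, 1) (by simp)
    rwa [fm.pt_b, h2] at h3
  rw [fm.pt_a] at hwa
  rw [fm.pt_b] at hzb
  have hdD : d ∈ stabilizer G a ⊓ stabilizer G (t • a) := by
    refine ⟨?_, ?_⟩
    · show d • a = a
      rw [hd, mul_smul, inv_smul_eq_iff, hga, hwa]
    · show d • t • a = t • a
      rw [hd, mul_smul, inv_smul_eq_iff, hgb, hzb]
  obtain ⟨v, hvD, hvt, k, hk, he⟩ := S.exists_K_mul_V hdD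
  have hvV : v ∈ S.V := ⟨hvD, Subgroup.mem_centralizer_singleton_iff.2 hvt⟩
  obtain ⟨m, hm, rfl⟩ := fm.exists_hv hk
  refine ⟨g₀ * Matrix.SpecialLinearGroup.map (fm.σ ⟨v, hvV⟩ : F →+* F) (mH m hm), ⟨v, hvV⟩, ?_⟩
  have h3 : (v : G) * fm.hv m = fm.elf (Matrix.SpecialLinearGroup.map (fm.σ ⟨v, hvV⟩ : F →+* F)
      (mH m hm)) * v := by
    have h4 := fm.V_elf hr ⟨v, hvV⟩ (mH m hm)
    rwa [fm.elf_diag (coe_mH m hm)] at h4
  rw [fm.elf_mul hr, mul_assoc]
  show γ = fm.elf g₀ * (_ * v)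
  rw [← h3, ← he, hd, mul_inv_cancel_left]

end FieldModel

/-- The block of a rank one set-up with `r ∈ Z`. -/
theorem Data.exists_block (S : Data a t Q) (hr : S.r ∈ S.Z) :
    ∃ (F : Type) (_ : Field F) (_ : Fintype F) (_ : CharP F 2) (n : ℕ) (X : Block S F),
      2 ≤ n ∧ Fintype.card F = 2 ^ n ∧ Nat.card S.Z = 2 ^ n ∧
      (Nat.card Q = Nat.card S.Z ^ 3 → X.IsRegular) := by
  classical
  obtain ⟨F, iF, iFt, iC, ⟨n, hn2, hn⟩, hcard, ⟨fm⟩⟩ := S.exists_fieldModel
  have hrs := S.r_eq_s hr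
  have hel : ∀ g, fm.elHom hrs g = fm.elf g := fun _ => rfl
  let X : Block S F :=
    { P := fm.pt
      el := fm.elHom hrs
      el_inj := fm.elf_inj hrs
      P_a := fm.pt_a
      P_b := fm.pt_b
      P_eq := fm.pt_eq
      el_P := fm.elf_pt hrs
      el_t := fun g hg => fm.elf_swap hg
      el_s := fun g hg => (fm.elf_upper hg).trans fm.u_one
      mem_Z := fun x => by
        constructor
        · intro hx
          obtain ⟨c, rfl⟩ := fm.exists_u hx
          exact ⟨FieldModel.mU c, fm.elf_upper rfl, c, rfl⟩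
        · rintro ⟨g, rfl, c, hc⟩
          rw [hel, fm.elf_upper hc]; exact fm.u_mem c
      mem_K := fun x => by
        constructor
        · intro hx
          obtain ⟨m, hm, rfl⟩ := fm.exists_hv hx
          exact ⟨FieldModel.mH m hm, fm.elf_diag rfl, m, hm, rfl⟩
        · rintro ⟨g, rfl, m, -, hg⟩
          rw [hel, fm.elf_diag hg]; exact fm.hv_mem m
      invol := by
        rintro u hu ⟨w, hw, huw⟩
        obtain ⟨g, hg⟩ : ∃ g : Matrix.SpecialLinearGroup (Fin 2) F, fm.elHom hrs g • a = fm.pt w := by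
          by_cases h : w.2 = 0
          · exact ⟨1, by rw [map_one, one_smul, FieldModel.pt, if_pos h]⟩
          · refine ⟨FieldModel.mU (w.1 / w.2) * FieldModel.mW, ?_⟩
            rw [map_mul, hel, hel, fm.elf_upper (FieldModel.coe_mU _),
              fm.elf_swap FieldModel.coe_mW, FieldModel.pt, if_neg h, mul_smul]
        set x := (fm.elHom hrs g)⁻¹ * u * fm.elHom hrs g with hx
        have hxa : x • a = a := by
          rw [hx, mul_smul, mul_smul, inv_smul_eq_iff, hg, huw]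
        have hx2 : x * x = 1 := by
          rw [hx, show (fm.elHom hrs g)⁻¹ * u * fm.elHom hrs g * ((fm.elHom hrs g)⁻¹ * u *
            fm.elHom hrs g) = (fm.elHom hrs g)⁻¹ * (u * u) * fm.elHom hrs g by group, hu]
          group
        obtain ⟨c, hc⟩ := fm.exists_u ((S.mem_Z x).2 ⟨mem_Q S.setup hxa hx2, hx2⟩)
        refine ⟨g * FieldModel.mU c * g⁻¹, ?_⟩
        rw [map_mul, map_mul, hel (FieldModel.mU c), fm.elf_upper (FieldModel.coe_mU _), hc, hx,
          map_inv]
        group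
      free := fun g c hc h => fm.free' hrs g c hc h
      semilinear := by
        intro γ hγ
        obtain ⟨g₁, v, rfl⟩ := fm.decomp hrs γ hγ
        refine ⟨(fm.σ v), AddMonoidHom.mk' (fun w => app g₁ ((fm.σ v) w.1, (fm.σ v) w.2)) ?_, ?_, ?_, ?_, ?_⟩
        · intro w z
          rw [← FieldModel.app_add]
          simp
        · intro l w
          show app g₁ ((fm.σ v) (l * w.1), (fm.σ v) (l * w.2)) = (fm.σ v) l • app g₁ ((fm.σ v) w.1, (fm.σ v) w.2)
          simp only [app, map_mul, Prod.smul_mk, smul_eq_mul]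
          ext <;> ring
        · intro w z
          show br (app g₁ _) (app g₁ _) = _
          rw [FieldModel.br_app]
          simp [br]
        · intro w hw
          show (fm.elf g₁ * v) • fm.pt w = fm.pt (app g₁ ((fm.σ v) w.1, (fm.σ v) w.2))
          rw [mul_smul, fm.V_pt v w, fm.elf_pt hrs g₁]
          intro h
          simp [Prod.ext_iff] at h
          exact hw (Prod.ext h.1 h.2)
        · intro g
          refine ⟨g₁ * Matrix.SpecialLinearGroup.map ((fm.σ v) : F →+* F) g * g₁⁻¹, ?_, fun w => ?_⟩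
          · rw [map_mul, map_mul, map_inv, hel, hel, hel]
            rw [show fm.elf g₁ * (v : G) * fm.elf g * (fm.elf g₁ * (v : G))⁻¹ =
              fm.elf g₁ * ((v : G) * fm.elf g) * (v : G)⁻¹ * (fm.elf g₁)⁻¹ by group,
              fm.V_elf hrs v g]
            group
          · show app _ (app g₁ ((fm.σ v) w.1, (fm.σ v) w.2)) = app g₁ ((fm.σ v) (app g w).1, (fm.σ v) (app g w).2)
            rw [← FieldModel.app_mul, inv_mul_cancel_right, FieldModel.app_mul]
            congr 1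
            simp [app] }
  refine ⟨F, iF, iFt, iC, n, X, hn2, hn, by rw [← hcard, hn], fun hQ => ?_⟩
  intro c d hc hd
  haveI : Finite Ω := finite_points S.setup
  haveI := Fintype.ofFinite Ω
  let C := {y : Ω // ∀ w : F × F, w ≠ 0 → fm.pt w ≠ y}
  have hmem : ∀ g : Matrix.SpecialLinearGroup (Fin 2) F,
      ∀ w : F × F, w ≠ 0 → fm.pt w ≠ fm.elHom hrs g • c := by
    intro g w hw h
    refine hc (app g⁻¹ w) (FieldModel.app_ne _ hw) ?_
    show fm.pt (app g⁻¹ w) = c
    rw [← fm.elf_pt hrs g⁻¹ w hw, h, ← hel, map_inv, inv_smul_smul]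
  let f : Matrix.SpecialLinearGroup (Fin 2) F → C := fun g => ⟨_, hmem g⟩
  have hf : Function.Injective f := by
    intro g g' h
    have h2 : fm.elHom hrs g • c = fm.elHom hrs g' • c := congrArg Subtype.val h
    have h1 := fm.free' hrs (g'⁻¹ * g) c hc (by
      rw [← hel, map_mul, map_inv, mul_smul, h2, inv_smul_smul])
    exact (inv_mul_eq_one.1 h1).symm
  have hβ : Nat.card {y : Ω // ∃ w : F × F, w ≠ 0 ∧ fm.pt w = y} = Nat.card F + 1 := by
    let q : Option F → {y : Ω // ∃ w : F × F, w ≠ 0 ∧ fm.pt w = y} := fun o => match o with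
      | none => ⟨a, (1, 0), by simp, fm.pt_a⟩
      | some z => ⟨fm.pt (z, 1), (z, 1), by simp, rfl⟩
    have hq : Function.Bijective q := by
      constructor
      · rintro (_ | z) (_ | z') h
        · rfl
        · exact absurd (congrArg Subtype.val h).symm (fm.pt_ne_a (w := (z', 1)) one_ne_zero)
        · exact absurd (congrArg Subtype.val h) (fm.pt_ne_a (w := (z, 1)) one_ne_zero)
        · have := (fm.pt_eq _ _ (by simp) (by simp)).1 (congrArg Subtype.val h :)
          simp [br] at this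
          exact congrArg some (CharTwo.add_eq_zero.1 this)
      · rintro ⟨y, w, hw, rfl⟩
        by_cases h2 : w.2 = 0
        · exact ⟨none, Subtype.ext (by simp [q, FieldModel.pt, h2])⟩
        · exact ⟨some (w.1 / w.2), Subtype.ext (by simp [q, FieldModel.pt, h2])⟩
    rw [← Nat.card_congr (Equiv.ofBijective q hq), Finite.card_option]
  have hsum : Nat.card {y : Ω // ∃ w : F × F, w ≠ 0 ∧ fm.pt w = y} + Nat.card C = Nat.card Ω := by
    rw [Nat.card_eq_fintype_card, Nat.card_eq_fintype_card, Nat.card_eq_fintype_card,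
      Fintype.card_congr (Equiv.subtypeEquivRight (fun y => (by simp :
        (∀ w : F × F, w ≠ 0 → fm.pt w ≠ y) ↔ ¬ ∃ w : F × F, w ≠ 0 ∧ fm.pt w = y)) :
          C ≃ {y : Ω // ¬ ∃ w : F × F, w ≠ 0 ∧ fm.pt w = y}),
      Fintype.card_subtype_compl]
    have := Fintype.card_subtype_le fun y : Ω => ∃ w : F × F, w ≠ 0 ∧ fm.pt w = y
    omega
  have hSL : Nat.card (Matrix.SpecialLinearGroup (Fin 2) F) = Nat.card C := by
    have h1 : Nat.card (Matrix.SpecialLinearGroup (Fin 2) F) =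
        Fintype.card F * (Fintype.card F ^ 2 - 1) := CfsgLib.SL2C.card_SL2_mul
    have h4 := card_points S.setup
    rw [hβ, Nat.card_eq_fintype_card (α := F), h4, hQ, ← hcard] at hsum
    rw [h1]
    have hq1 : 1 ≤ Fintype.card F ^ 2 := Nat.one_le_pow _ _ Fintype.card_pos
    have h3 : Fintype.card F * (Fintype.card F ^ 2 - 1) + Fintype.card F = Fintype.card F ^ 3 := by
      rw [← Nat.mul_succ, Nat.succ_eq_add_one, Nat.sub_add_cancel hq1]; ring
    omega
  obtain ⟨g, hg⟩ := ((Nat.bijective_iff_injective_and_card f).2 ⟨hf, hSL⟩).2 ⟨d, hd⟩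
  exact ⟨g, congrArg Subtype.val hg⟩

end CfsgLib.Recog.RankOneSuzuki
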