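import Cfsg.Agent.Recog.RankOneSuzuki.Special

/-!
# Suzuki's rank one theorem: the injection lemma

Involutions preserving a set `O` of points whose size is prime to `|K|`, each fixing a point of `O`,
move a point outside `O` injectively.
-/

set_option autoImplicit false
set_option linter.unusedSectionVars false
set_option linter.style.haveILetI false

namespace CfsgLib.Recog.RankOneSuzuki

open MulAction CfsgLib.Recog.RankOne

variable {G Ω : Type*} [Group G] [MulAction G Ω]

namespace Data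

variable {a : Ω} {t : G} {Q : Subgroup G} (S : Data a t Q)

/-- A nontrivial inverted element fixes only `a` and `t • a`. -/
theorem eq_of_K_fix {k : G} (hk : k ∈ S.K) (hk1 : k ≠ 1) {x : Ω} (hx : k • x = x) :
    x = a ∨ x = t • a := by
  by_cases hxa : x = a
  · exact Or.inl hxa
  right
  obtain ⟨y, hy, rfl⟩ := exists_mem_smul S.setup hxa
  rw [S.fpf k hk hk1 y hy (commute_of_fix S.setup (S.K_le hk).1 hy (b_ne S.setup) (S.K_le hk).2 hx),
    one_smul]

include S in
/-- A product of two involutions with two fixed points, interchanged by one factor, is conjugate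
to an element of `K`. -/
theorem exists_conj_K [Finite G] {u e : G} (hu : u ≠ 1 ∧ u * u = 1) (he : u * e * u = e⁻¹)
    {c : Ω} (huc : u • c ≠ c) (hec : e • c = c) (hec' : e • u • c = u • c) :
    ∃ h : G, h • c = a ∧ h • u • c = t • a ∧ h * e * h⁻¹ ∈ S.K := by
  obtain ⟨g, hgc, hgc'⟩ := exists_pair S.setup huc.symm (b_ne S.setup).symm
  have hz : (g * u * g⁻¹) • a = t • a := by
    rw [mul_smul, mul_smul, inv_smul_eq_iff.2 hgc.symm, hgc']
  obtain ⟨d, hd, hdu⟩ := exists_conj_t S.setup (conj_invol S.setup hu).2 hz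
  have hhc : (d * g) • c = a := by rw [mul_smul, hgc, mem_stabilizer_iff.1 hd.1]
  have hhc' : (d * g) • u • c = t • a := by rw [mul_smul, hgc', mem_stabilizer_iff.1 hd.2]
  refine ⟨d * g, hhc, hhc', (S.mem_K _).2 ⟨⟨?_, ?_⟩, ?_⟩⟩
  · show (d * g * e * (d * g)⁻¹) • a = a
    rw [mul_smul, mul_smul (d * g) e, inv_smul_eq_iff.2 hhc.symm, hec, hhc]
  · show (d * g * e * (d * g)⁻¹) • t • a = t • a
    rw [mul_smul, mul_smul (d * g) e, inv_smul_eq_iff.2 hhc'.symm, hec', hhc']
  · have hu' : u⁻¹ = u := inv_eq_of_mul_eq_one_right hu.2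
    rw [← hdu]
    calc d * (g * u * g⁻¹) * d⁻¹ * (d * g * e * (d * g)⁻¹) * (d * (g * u * g⁻¹) * d⁻¹)
        = d * g * (u * e * u) * (d * g)⁻¹ := by group
      _ = _ := by rw [he]; group

include S in
/-- Suzuki's injection lemma. -/
theorem card_add_card_le [Finite G] (O : Set Ω) (hO : (Nat.card O).Coprime (Nat.card S.K))
    (I : Set G) (hI : ∀ u ∈ I, u ≠ 1 ∧ u * u = 1 ∧ (∀ x ∈ O, u • x ∈ O) ∧ ∃ x ∈ O, u • x = x)
    {c : Ω} (hc : c ∉ O) : Nat.card O + Nat.card I ≤ Nat.card Q := by
  classical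
  haveI := CfsgLib.Recog.RankOne.finite_points S.setup
  have hout : ∀ u ∈ I, u • c ∉ O ∧ u • c ≠ c := by
    intro u hu
    obtain ⟨hu1, hu2, hpres, x, hx, hux⟩ := hI u hu
    refine ⟨fun h => hc ?_, fun h => hc ?_⟩
    · simpa [← mul_smul, hu2] using hpres _ h
    · rwa [fix_unique S.setup hu1 hu2 h hux]
  let H : Subgroup G :=
    { carrier := {g | ∀ x ∈ O, g • x ∈ O ∧ g⁻¹ • x ∈ O}
      one_mem' := fun x hx => by simpa using hx
      mul_mem' := fun {g g'} hg hg' x hx => ⟨by rw [mul_smul]; exact (hg _ (hg' x hx).1).1,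
        by rw [mul_inv_rev, mul_smul]; exact (hg' _ (hg x hx).2).2⟩
      inv_mem' := fun {g} hg x hx => ⟨(hg x hx).2, by rw [inv_inv]; exact (hg x hx).1⟩ }
  have hIH : ∀ u ∈ I, u ∈ H := fun u hu x hx => by
    obtain ⟨-, hu2, hpres, -⟩ := hI u hu
    exact ⟨hpres x hx, by rw [inv_eq_of_mul_eq_one_right hu2]; exact hpres x hx⟩
  have hinj : Set.InjOn (fun u : G => u • c) I := by
    intro u hu u' hu' huu
    have huu' : u • c = u' • c := huu
    obtain ⟨hu1, hu2, -, -⟩ := hI u hu
    obtain ⟨-, hu2', -, -⟩ := hI u' hu'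
    set e := u' * u with he
    have hec : e • c = c := by rw [he, mul_smul, huu', ← mul_smul, hu2', one_smul]
    have hec' : e • u • c = u • c := by
      rw [he, mul_smul, ← mul_smul u u, hu2, one_smul, huu']
    have hinv : u * e * u = e⁻¹ := by
      rw [he, mul_inv_rev, inv_eq_of_mul_eq_one_right hu2, inv_eq_of_mul_eq_one_right hu2',
        mul_assoc, mul_assoc u' u, hu2, mul_one]
    obtain ⟨h, hhc, hhc', hk⟩ := S.exists_conj_K ⟨hu1, hu2⟩ hinv (hout u hu).2 hec hec'
    have hle : Subgroup.zpowers e ≤ H :=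
      Subgroup.zpowers_le.2 (H.mul_mem (hIH u' hu') (hIH u hu))
    letI : MulAction (Subgroup.zpowers e) O :=
      { smul := fun g x => ⟨(g : G) • (x : Ω), (hle g.2 x x.2).1⟩
        one_smul := fun x => Subtype.ext (one_smul G (x : Ω))
        mul_smul := fun g g' x => Subtype.ext (mul_smul (g : G) (g' : G) (x : Ω)) }
    have hfree : ∀ x : O, stabilizer (Subgroup.zpowers e) x = ⊥ := by
      intro x
      rw [eq_bot_iff]
      intro g hg
      have hgx : (g : G) • (x : Ω) = x := congrArg Subtype.val (mem_stabilizer_iff.1 hg)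
      have hgK : h * (g : G) * h⁻¹ ∈ S.K := by
        obtain ⟨n, hn⟩ := Subgroup.mem_zpowers_iff.1 g.2
        have h1 : h * (g : G) * h⁻¹ = (h * e * h⁻¹) ^ n := by
          rw [← MulAut.conj_apply, ← hn, map_zpow, MulAut.conj_apply]
        rw [h1]
        exact S.K.zpow_mem hk n
      rw [Subgroup.mem_bot]
      by_contra hg1
      have hne : h * (g : G) * h⁻¹ ≠ 1 := fun h' => hg1 (Subtype.ext (conj_eq_one_iff.1 h'))
      have hfix : (h * (g : G) * h⁻¹) • h • (x : Ω) = h • (x : Ω) := by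
        rw [mul_smul, mul_smul, inv_smul_smul, hgx]
      rcases S.eq_of_K_fix hgK hne hfix with h' | h'
      · exact hc (smul_left_cancel h (h'.trans hhc.symm) ▸ x.2)
      · exact (hout u hu).1 (smul_left_cancel h (h'.trans hhc'.symm) ▸ x.2)
    have h1 : orderOf e ∣ Nat.card O := by
      rw [Nat.card_congr (MulAction.selfEquivOrbitsQuotientProd hfree), Nat.card_prod,
        ← Nat.card_zpowers]
      exact dvd_mul_left _ _
    have h2 : orderOf e ∣ Nat.card S.K := by
      have := Subgroup.orderOf_dvd_natCard S.K hk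
      rwa [← MulAut.conj_apply, MulEquiv.orderOf_eq] at this
    have he1 : e = 1 := orderOf_eq_one_iff.1 (Nat.eq_one_of_dvd_coprimes hO h1 h2)
    rw [he] at he1
    rw [eq_inv_of_mul_eq_one_left he1, inv_eq_of_mul_eq_one_right hu2]
  have h3 : ((fun u : G => u • c) '' I).ncard ≤ ((insert c O)ᶜ : Set Ω).ncard := by
    refine Set.ncard_le_ncard ?_ (Set.toFinite _)
    rintro _ ⟨u, hu, rfl⟩ h
    rcases h with h | h
    · exact (hout u hu).2 h
    · exact (hout u hu).1 h
  rw [hinj.ncard_image, Set.ncard_compl, Set.ncard_insert_of_notMem hc (Set.toFinite _),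
    card_points S.setup] at h3
  have h4 := Set.ncard_le_card (insert c O)
  rw [Set.ncard_insert_of_notMem hc (Set.toFinite _), card_points S.setup] at h4
  rw [Nat.card_coe_set_eq, Nat.card_coe_set_eq]
  omega

end Data

end CfsgLib.Recog.RankOneSuzuki
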