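import Cfsg.Agent.Recog.RankOneSuzuki.TwoGroup
import Cfsg.Agent.Recog.RankOneSuzuki.Injection
import Cfsg.Agent.Recog.RankOneSuzuki.Block
import Cfsg.Agent.S1132
import Cfsg.Agent.S1137
import Cfsg.Agent.S1138

/-!
# Suzuki's rank one theorem: the order of a non-abelian kernel

`Q` is a Suzuki `2`-group with centre `Z`, so `|Q|` is `|Z|²` or `|Z|³`; in the first case `r ∉ Z`.
-/

set_option autoImplicit false
set_option linter.unusedSectionVars false
set_option linter.style.haveILetI false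

namespace CfsgLib.Recog.RankOneSuzuki

open MulAction CfsgLib.Recog.RankOne

variable {G Ω : Type*} [Group G] [MulAction G Ω]

namespace Data

variable {a : Ω} {t : G} {Q : Subgroup G} (S : Data a t Q)

section Shape

variable [Finite G] [FaithfulSMul G Ω]

include S in
/-- A non-abelian kernel is a Suzuki `2`-group. -/
theorem exists_sylow_suzuki (hna : ∃ x ∈ Q, ∃ y ∈ Q, x * y ≠ y * x) :
    ∃ P : Sylow 2 ↥Q, (P : Subgroup ↥Q) = ⊤ ∧
      Cfsg.IsSuzukiTwoGroup ↥(P : Subgroup ↥Q) := by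
  obtain ⟨z, hz, hz1, hzs⟩ := S.exists_two
  have h2 : ∃ x y : G, x ≠ 1 ∧ y ≠ 1 ∧ x ≠ y ∧ x * x = 1 ∧ y * y = 1 ∧ x * y = y * x :=
    ⟨z, S.s, hz1, S.s_ne, hzs, S.Z_sq hz, S.Z_sq S.s_mem, S.central z hz _ (S.Z_le S.s_mem)⟩
  obtain ⟨P⟩ : Nonempty (Sylow 2 ↥Q) := inferInstance
  have hP : (P : Subgroup ↥Q) = ⊤ := (P.3 (S.isPGroup_Q.to_subgroup ⊤) le_top).symm
  refine ⟨P, hP, (Cfsg.Agent.S1132.result S.setup h2 P).resolve_left fun hc => ?_⟩
  obtain ⟨x, hx, y, hy, hne⟩ := hna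
  exact hne (congrArg (fun w : ↥(P : Subgroup ↥Q) => (w : G))
    (hc.is_comm.comm ⟨⟨x, hx⟩, hP ▸ Subgroup.mem_top _⟩ ⟨⟨y, hy⟩, hP ▸ Subgroup.mem_top _⟩))

theorem sq_mem_Z (hna : ∃ x ∈ Q, ∃ y ∈ Q, x * y ≠ y * x) : ∀ y ∈ Q, y * y ∈ S.Z := by
  obtain ⟨P, hP, hSz⟩ := S.exists_sylow_suzuki hna
  intro y hy
  let y' : ↥(P : Subgroup ↥Q) := ⟨⟨y, hy⟩, hP ▸ Subgroup.mem_top _⟩
  have h := (Cfsg.Agent.S1137.result hSz).2 _ ((Cfsg.Agent.S1138.result hSz).1 y')
  exact (S.mem_Z _).2 ⟨mul_mem hy hy, congrArg (fun w : ↥(P : Subgroup ↥Q) => (w : G)) h⟩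

theorem card_cases (hna : ∃ x ∈ Q, ∃ y ∈ Q, x * y ≠ y * x) :
    Nat.card Q = Nat.card S.Z ^ 2 ∨ Nat.card Q = Nat.card S.Z ^ 3 := by
  obtain ⟨P, hP, hSz⟩ := S.exists_sylow_suzuki hna
  obtain ⟨hiff, -⟩ := Cfsg.Agent.S1137.result hSz
  have hPQ : Nat.card ↥(P : Subgroup ↥Q) = Nat.card Q := by rw [hP, Subgroup.card_top]
  have hZ : Nat.card (Subgroup.center ↥(P : Subgroup ↥Q)) = Nat.card S.Z := by
    have hmem : ∀ x : ↥(P : Subgroup ↥Q), x ∈ Subgroup.center _ ↔ (x : G) ∈ S.Z := by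
      intro x
      by_cases hx : x = 1
      · subst hx
        exact ⟨fun _ => S.Z.one_mem, fun _ => Subgroup.one_mem _⟩
      rw [S.mem_Z]
      refine ⟨fun h => ⟨x.1.2, congrArg (fun w : ↥(P : Subgroup ↥Q) => (w : G))
        ((hiff x).2 ⟨h, hx⟩).2⟩, fun h => ((hiff x).1 ⟨hx, ?_⟩).1⟩
      exact Subtype.ext (Subtype.ext h.2)
    refine Nat.card_congr
      { toFun := fun x => ⟨_, (hmem x.1).1 x.2⟩
        invFun := fun z => ⟨⟨⟨z.1, S.Z_le z.2⟩, hP ▸ Subgroup.mem_top _⟩, (hmem _).2 z.2⟩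
        left_inv := fun x => rfl
        right_inv := fun z => rfl }
  rcases (Cfsg.Agent.S1138.result hSz).2.2.1 with h | h
  · exact Or.inl (by rw [← hPQ, h, hZ])
  · exact Or.inr (by rw [← hPQ, h, hZ])

end Shape

/-- In a kernel of order `|Z|²` the special element is not central. -/
theorem r_not_mem_Z_of_sq [Finite G] [FaithfulSMul G Ω] (hQ : Nat.card Q = Nat.card S.Z ^ 2) :
    S.r ∉ S.Z := by
  classical
  intro hr
  have hrs := S.r_eq_s hr
  haveI := CfsgLib.Recog.RankOne.finite_points S.setup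
  set b := t • a with hb
  -- the points of `O`
  let o : Option S.Z → Ω := fun x => match x with
    | none => a
    | some z => (z : G) • b
  have hzb : ∀ z : S.Z, (z : G) • b ≠ a := fun z h => b_ne S.setup (by
    have h' := S.setup.le (S.Z_le (S.Z.inv_mem z.2))
    rw [mem_stabilizer_iff, inv_smul_eq_iff] at h'
    exact smul_left_cancel (z : G) (h.trans h'))
  have hoinj : Function.Injective o := by
    rintro (_ | z) (_ | z') h
    · rfl
    · exact absurd h.symm (hzb z')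
    · exact absurd h (hzb z)
    · refine congrArg some (Subtype.ext (eq_of_inv_mul_eq_one (eq_one_of_mem_D S.setup
        (Q.mul_mem (Q.inv_mem (S.Z_le z.2)) (S.Z_le z'.2)) ?_)))
      rw [mul_smul, inv_smul_eq_iff]
      exact h.symm
  set O : Set Ω := Set.range o
  have hOcard : Nat.card O = Nat.card S.Z + 1 := by
    rw [Nat.card_range_of_injective hoinj, Finite.card_option]
  -- `Z` and `t` preserve `O`
  have hZO : ∀ w ∈ S.Z, ∀ x ∈ O, w • x ∈ O := by
    rintro w hw _ ⟨_ | z, rfl⟩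
    · exact ⟨none, (mem_stabilizer_iff.1 (S.setup.le (S.Z_le hw))).symm⟩
    · exact ⟨some ⟨w * z, S.Z.mul_mem hw z.2⟩, mul_smul w (z : G) b⟩
  have htO : ∀ x ∈ O, t • x ∈ O := by
    rintro _ ⟨_ | z, rfl⟩
    · exact ⟨some 1, one_smul _ _⟩
    · by_cases hz : (z : G) = 1
      · exact ⟨none, by simp only [o, hz, one_smul, hb, t_b S.setup]⟩
      obtain ⟨k, hk, hkz⟩ := S.trans S.s S.s_mem S.s_ne z z.2 hz
      refine ⟨some ⟨k * S.r * k⁻¹, S.conj_Z hk hr⟩, ?_⟩
      have h1 := S.decomp_Z hk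
      rw [hkz] at h1
      have hri : S.r⁻¹ = S.r := by rw [hrs, S.s_inv]
      have hfa : (k * S.r * k⁻¹) • a = a :=
        mem_stabilizer_iff.1 (S.setup.le (S.conj_Q hk S.r_mem))
      have hkk : (k * k) • t • a = t • a := mem_stabilizer_iff.1 (S.K_le (mul_mem hk hk)).2
      show (k * S.r * k⁻¹) • b = t • (z : G) • b
      calc (k * S.r * k⁻¹) • b = (k * S.r * k⁻¹) • (k * k) • t • (k * S.r * k⁻¹) • a := by
            rw [hfa, hkk]
        _ = (k * S.r⁻¹ * k⁻¹ * (k * k) * t * (k * S.r * k⁻¹)) • a := by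
            rw [hri]; simp only [mul_smul]
        _ = t • (z : G) • b := by rw [← h1]; simp only [mul_smul, hb]
  -- the involutions
  let g : Option S.Z → G := fun x => match x with
    | none => 1
    | some z => (z : G) * t
  have hgo : ∀ x, g x • a = o x := by
    rintro (_ | z)
    · exact one_smul _ _
    · exact mul_smul _ _ _
  have hgO : ∀ x, ∀ p ∈ O, g x • p ∈ O ∧ (g x)⁻¹ • p ∈ O := by
    rintro (_ | z) p hp
    · exact ⟨by simpa [g] using hp, by simpa [g] using hp⟩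
    · refine ⟨?_, ?_⟩
      · simp only [g, mul_smul]; exact hZO _ z.2 _ (htO _ hp)
      · simp only [g, mul_inv_rev, mul_smul, S.ti]; exact htO _ (hZO _ (S.Z.inv_mem z.2) _ hp)
  let f : Option S.Z × {z : S.Z // z ≠ 1} → G := fun x => g x.1 * (x.2.1 : G) * (g x.1)⁻¹
  have hfinv : ∀ x, f x ≠ 1 ∧ f x * f x = 1 ∧ f x • o x.1 = o x.1 := by
    rintro ⟨x, ⟨z, hz⟩⟩
    refine ⟨fun h => hz (Subtype.ext (conj_eq_one_iff.1 h)),
      (conj_invol S.setup ⟨fun h => hz (Subtype.ext h), S.Z_sq z.2⟩).2, ?_⟩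
    show (g x * (z : G) * (g x)⁻¹) • o x = o x
    rw [← hgo, mul_smul, inv_smul_smul, mul_smul,
      mem_stabilizer_iff.1 (S.setup.le (S.Z_le z.2))]
  have hfinj : Function.Injective f := by
    intro x y h
    obtain ⟨h1, h2, h3⟩ := hfinv x
    have h4 := (hfinv y).2.2
    rw [← h] at h4
    have hxy : x.1 = y.1 := hoinj (fix_unique S.setup h1 h2 h3 h4)
    refine Prod.ext hxy (Subtype.ext (Subtype.ext ?_))
    simp only [f, hxy] at h
    exact mul_left_cancel (mul_right_cancel h)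
  set I : Set G := Set.range f
  have hI : ∀ u ∈ I, u ≠ 1 ∧ u * u = 1 ∧ (∀ p ∈ O, u • p ∈ O) ∧ ∃ p ∈ O, u • p = p := by
    rintro _ ⟨x, rfl⟩
    refine ⟨(hfinv x).1, (hfinv x).2.1, fun p hp => ?_, _, ⟨x.1, rfl⟩, (hfinv x).2.2⟩
    simp only [f, mul_smul]
    exact (hgO _ _ (hZO _ x.2.1.2 _ (hgO _ p hp).2)).1
  have hIcard : Nat.card I = (Nat.card S.Z + 1) * (Nat.card S.Z - 1) := by
    haveI := Fintype.ofFinite S.Z
    rw [Nat.card_range_of_injective hfinj, Nat.card_prod, Finite.card_option,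
      Nat.card_eq_fintype_card (α := {z : S.Z // z ≠ 1}), Fintype.card_subtype_compl,
      Fintype.card_subtype_eq, Nat.card_eq_fintype_card]
  have hK : Odd (Nat.card S.K) := S.setup.odd_card.of_dvd_nat (Subgroup.card_dvd_of_le S.K_le)
  have hq := S.card_K
  have h4 := S.four_le
  have hcop : (Nat.card O).Coprime (Nat.card S.K) := by
    rw [hOcard, ← hq, add_assoc]
    simpa using Nat.coprime_two_left.2 hK
  obtain ⟨c, hc⟩ : ∃ c, c ∉ O := by
    by_contra hcon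
    push Not at hcon
    have h5 : Nat.card Ω = Nat.card O := (Nat.card_congr (Equiv.subtypeUnivEquiv hcon)).symm
    rw [card_points S.setup, hQ, hOcard] at h5
    nlinarith
  have := S.card_add_card_le O hcop I hI hc
  rw [hOcard, hIcard, hQ] at this
  obtain ⟨j, hj⟩ := Nat.exists_eq_add_of_le h4
  rw [hj, show 4 + j - 1 = 3 + j by omega] at this
  nlinarith

end Data

end CfsgLib.Recog.RankOneSuzuki
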