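import Mathlib

/-!
# Suzuki's rank one theorem: the data on the projective line

One vector `v x` for each point `x` of the line (its transvection `w ↦ w + [w, v x] v x` is the
involution attached to the inversion at `x`), a group of semilinear maps permuting these vectors and,
for every pair of distinct points, one of its elements shifting the sequence of the pair by three.
-/

set_option autoImplicit false

namespace CfsgLib.Recog.RankOneSuzuki

/-- The alternating form. -/
def br {F : Type*} [Field F] (w z : F × F) : F := w.1 * z.2 + w.2 * z.1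

/-- The data of a projective line with inversions. -/
structure Line (F : Type*) [Field F] (B E : Type*) [Group E] where
  /-- The vector of a point. -/
  v : B → F × F
  /-- The image of the second point under the involution of the first. -/
  nb : B → B → B
  v_ne : ∀ x, v x ≠ 0
  v_inj : ∀ x y, br (v x) (v y) = 0 → x = y
  v_surj : ∀ w : F × F, w ≠ 0 → ∃ x, br w (v x) = 0
  nb_spec : ∀ x y, br (v y + br (v y) (v x) • v x) (v (nb x y)) = 0
  /-- The action on the points. -/
  act : E →* Equiv.Perm B
  /-- The field part. -/
  τ : E →* (F ≃+* F)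
  /-- The semilinear map. -/
  M : E → (F × F) →+ (F × F)
  M_smul : ∀ e (l : F) (w : F × F), M e (l • w) = τ e l • M e w
  M_br : ∀ e (w z : F × F), br (M e w) (M e z) = τ e (br w z)
  M_v : ∀ e x, M e (v x) = v (act e x)
  M_mul : ∀ e e' (w : F × F), M (e * e') w = M e (M e' w)
  act_inj : Function.Injective act
  semiregular : ∀ e x, τ e = 1 → act e x = x → e = 1
  /-- The element shifting the sequence of a pair by three. -/
  A : B → B → E
  A_fst : ∀ x y, x ≠ y → act (A x y) x = nb (nb y x) y
  A_snd : ∀ x y, x ≠ y → act (A x y) y = nb (nb (nb y x) y) (nb y x)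
  A_cocycle : ∀ u x y, u ≠ x → x ≠ y → u ≠ y → τ (A u y) = τ (A x y) * τ (A u x)
  A_symm : ∀ x y, x ≠ y → τ (A y x) = (τ (A x y))⁻¹
  A_shift : ∀ x y, x ≠ y → τ (A y (nb y x)) = τ (A x y)
  A_equiv : ∀ e x y, x ≠ y → τ (A (act e x) (act e y)) = τ (A x y)

end CfsgLib.Recog.RankOneSuzuki
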