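import Cfsg.Agent.Recog.RankOneSuzuki.Special
import Cfsg.Agent.Recog.RankOneSuzuki.NuDefs

/-!
# Suzuki's rank one theorem: the block through two points and its group `SL₂(q)`
-/

set_option autoImplicit false

namespace CfsgLib.Recog.RankOneSuzuki

open MulAction

/-- A matrix applied to a vector. -/
def app {F : Type*} [Field F] (g : Matrix.SpecialLinearGroup (Fin 2) F) (w : F × F) : F × F :=
  ((g : Matrix (Fin 2) (Fin 2) F) 0 0 * w.1 + (g : Matrix (Fin 2) (Fin 2) F) 0 1 * w.2,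
    (g : Matrix (Fin 2) (Fin 2) F) 1 0 * w.1 + (g : Matrix (Fin 2) (Fin 2) F) 1 1 * w.2)

variable {G Ω : Type*} [Group G] [MulAction G Ω] {a : Ω} {t : G} {Q : Subgroup G}

/-- The block `{a} ∪ Z • (t • a)` as a projective line, with the group generated by `Z`, `K` and `t`. -/
structure Block (S : Data a t Q) (F : Type) [Field F] where
  /-- The point of a non-zero vector. -/
  P : F × F → Ω
  /-- The linear group of the block. -/
  el : Matrix.SpecialLinearGroup (Fin 2) F →* G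
  el_inj : Function.Injective el
  P_a : P (1, 0) = a
  P_b : P (0, 1) = t • a
  P_eq : ∀ w w' : F × F, w ≠ 0 → w' ≠ 0 → (P w = P w' ↔ br w w' = 0)
  el_P : ∀ (g : Matrix.SpecialLinearGroup (Fin 2) F) (w : F × F), w ≠ 0 →
    el g • P w = P (app g w)
  el_t : ∀ g : Matrix.SpecialLinearGroup (Fin 2) F,
    (g : Matrix (Fin 2) (Fin 2) F) = !![0, 1; 1, 0] → el g = t
  el_s : ∀ g : Matrix.SpecialLinearGroup (Fin 2) F,
    (g : Matrix (Fin 2) (Fin 2) F) = !![1, 1; 0, 1] → el g = S.s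
  mem_Z : ∀ x : G, x ∈ S.Z ↔ ∃ g : Matrix.SpecialLinearGroup (Fin 2) F, el g = x ∧
    ∃ c : F, (g : Matrix (Fin 2) (Fin 2) F) = !![1, c; 0, 1]
  mem_K : ∀ x : G, x ∈ S.K ↔ ∃ g : Matrix.SpecialLinearGroup (Fin 2) F, el g = x ∧
    ∃ m : F, m ≠ 0 ∧ (g : Matrix (Fin 2) (Fin 2) F) = !![m, 0; 0, m⁻¹]
  invol : ∀ u : G, u * u = 1 → (∃ w : F × F, w ≠ 0 ∧ u • P w = P w) → ∃ g, el g = u
  free : ∀ (g : Matrix.SpecialLinearGroup (Fin 2) F) (c : Ω),
    (∀ w : F × F, w ≠ 0 → P w ≠ c) → el g • c = c → g = 1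
  semilinear : ∀ γ : G, (∀ w : F × F, w ≠ 0 → ∃ w' : F × F, w' ≠ 0 ∧ γ • P w = P w') →
    ∃ (τ : F ≃+* F) (M : (F × F) →+ (F × F)),
      (∀ (l : F) (w : F × F), M (l • w) = τ l • M w) ∧
      (∀ w z : F × F, br (M w) (M z) = τ (br w z)) ∧
      (∀ w : F × F, w ≠ 0 → γ • P w = P (M w)) ∧
      ∀ g : Matrix.SpecialLinearGroup (Fin 2) F, ∃ g' : Matrix.SpecialLinearGroup (Fin 2) F,
        γ * el g * γ⁻¹ = el g' ∧ ∀ w : F × F, app g' (M w) = M (app g w)

/-- `el` is transitive outside the block. -/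
def Block.IsRegular {S : Data a t Q} {F : Type} [Field F] (X : Block S F) : Prop :=
  ∀ c d : Ω, (∀ w : F × F, w ≠ 0 → X.P w ≠ c) → (∀ w : F × F, w ≠ 0 → X.P w ≠ d) →
    ∃ g : Matrix.SpecialLinearGroup (Fin 2) F, X.el g • c = d

end CfsgLib.Recog.RankOneSuzuki
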