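import Cfsg.Agent.Recog.RankOneSuzuki.NuForm
import Cfsg.Agent.Recog.RankOneSuzuki.BlockDefs

/-!
# Suzuki's rank one theorem: anisotropic forms on the plane are equivalent under `SL₂`
-/

set_option autoImplicit false
set_option linter.unusedSectionVars false
set_option linter.style.haveILetI false

namespace CfsgLib.Recog.RankOneSuzuki

variable {F : Type*} [Field F] [Fintype F] [CharP F 2]

/-- A normalised basis. -/
theorem exists_basis_form {qf : F × F → F} (hq : IsForm qf) :
    ∃ e f : F × F, qf e = 1 ∧ br e f = 1 ∧ ∀ l : F, qf f ≠ l * l + l := by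
  classical
  have hne : ((1, 0) : F × F) ≠ 0 := by simp
  have hd : qf ((1 : F), 0) ≠ 0 := fun h => hne (hq.aniso _ h)
  have hsq : Function.Surjective fun l : F => l * l := by
    refine Finite.injective_iff_surjective.1 fun l m h => ?_
    rcases mul_self_eq_mul_self_iff.1 h with h | h
    · exact h
    · rwa [CharTwo.neg_eq] at h
  obtain ⟨c, hc⟩ := hsq (qf ((1 : F), 0))⁻¹
  have he : qf (c • ((1 : F), (0 : F))) = 1 := by
    rw [hq.smul, show c * c = (qf ((1 : F), 0))⁻¹ from hc, inv_mul_cancel₀ hd]
  set e := c • ((1 : F), (0 : F)) with hedef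
  have hc0 : c ≠ 0 := fun h => by
    have hcc : c * c = (qf ((1 : F), 0))⁻¹ := hc
    rw [h, mul_zero] at hcc
    exact hd (inv_eq_zero.1 hcc.symm)
  refine ⟨e, (0, c⁻¹), he, by simp [hedef, br, hc0], fun l hl => ?_⟩
  have h0 : qf ((0, c⁻¹) + l • e) = 0 := by
    rw [hq.add, hq.smul, he, br_smul_right, hl,
      show br ((0 : F), c⁻¹) e = 1 by simp [hedef, br, hc0]]
    linear_combination (l * l + l) * (two_eq_zero' (F := F))
  have h1 := hq.aniso _ h0
  rw [Prod.ext_iff] at h1
  obtain ⟨h1, h2⟩ := h1
  simp [hedef, hc0] at h1 h2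

/-- Two constants of anisotropic forms differ by an Artin-Schreier value. -/
theorem exists_artinSchreier {c c' : F} (hc : ∀ l : F, c ≠ l * l + l)
    (hc' : ∀ l : F, c' ≠ l * l + l) : ∃ l : F, c + c' = l * l + l := by
  classical
  by_contra hne
  push Not at hne
  let P : Finset F := Finset.univ.image fun l : F => l * l + l
  have hP : Fintype.card F ≤ 2 * P.card := by
    rw [← Finset.card_univ]
    refine Finset.card_le_mul_card_image_of_maps_to (f := fun l : F => l * l + l)
      (fun a _ => Finset.mem_image_of_mem _ (Finset.mem_univ a)) 2 fun b hb => ?_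
    obtain ⟨m, -, rfl⟩ := Finset.mem_image.1 hb
    refine le_trans (Finset.card_le_card (t := {m, m + 1}) fun x hx => ?_) Finset.card_le_two
    simp only [Finset.mem_filter, Finset.mem_univ, true_and] at hx
    rw [Finset.mem_insert, Finset.mem_singleton]
    have h : (x + m) * (x + m + 1) = 0 := by
      linear_combination hx + (x * m + m * m + m) * (two_eq_zero' (F := F))
    rcases mul_eq_zero.1 h with h | h
    · exact Or.inl (CharTwo.add_eq_zero.1 h)
    · rw [add_assoc] at h
      exact Or.inr (CharTwo.add_eq_zero.1 h)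
  have hadd : ∀ p ∈ P, ∀ p' ∈ P, p + p' ∈ P := by
    intro p hp p' hp'
    obtain ⟨m, -, rfl⟩ := Finset.mem_image.1 hp
    obtain ⟨m', -, rfl⟩ := Finset.mem_image.1 hp'
    refine Finset.mem_image.2 ⟨m + m', Finset.mem_univ _, ?_⟩
    linear_combination m * m' * (two_eq_zero' (F := F))
  have hmem : ∀ {x : F}, x ∈ P ↔ ∃ l : F, x = l * l + l := fun {x} => by
    simp [P, eq_comm]
  -- three disjoint translates
  have d1 : Disjoint P (P.image (c + ·)) := Finset.disjoint_left.2 fun x hx hx' => by
    obtain ⟨p, hp, rfl⟩ := Finset.mem_image.1 hx'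
    obtain ⟨l, hl⟩ := hmem.1 (hadd _ hx _ hp)
    exact hc l (by linear_combination hl - p * (two_eq_zero' (F := F)))
  have d2 : Disjoint P (P.image (c' + ·)) := Finset.disjoint_left.2 fun x hx hx' => by
    obtain ⟨p, hp, rfl⟩ := Finset.mem_image.1 hx'
    obtain ⟨l, hl⟩ := hmem.1 (hadd _ hx _ hp)
    exact hc' l (by linear_combination hl - p * (two_eq_zero' (F := F)))
  have d3 : Disjoint (P.image (c + ·)) (P.image (c' + ·)) :=
    Finset.disjoint_left.2 fun x hx hx' => by
      obtain ⟨p, hp, rfl⟩ := Finset.mem_image.1 hx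
      obtain ⟨p', hp', he⟩ := Finset.mem_image.1 hx'
      obtain ⟨l, hl⟩ := hmem.1 (hadd _ hp _ hp')
      exact hne l (by linear_combination hl + he + (c - p') * (two_eq_zero' (F := F)))
  have h := Finset.card_le_univ (P ∪ P.image (c + ·) ∪ P.image (c' + ·))
  rw [Finset.card_union_of_disjoint (Finset.disjoint_union_left.2 ⟨d2, d3⟩),
    Finset.card_union_of_disjoint d1,
    Finset.card_image_of_injective _ (add_right_injective c),
    Finset.card_image_of_injective _ (add_right_injective c')] at h
  have : 0 < P.card := Finset.card_pos.2 ⟨0, hmem.2 ⟨0, by simp⟩⟩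
  omega

/-- Anisotropic forms with polar form `br` are equivalent under `SL₂`. -/
theorem exists_app_form {qf qf' : F × F → F} (hq : IsForm qf) (hq' : IsForm qf') :
    ∃ g : Matrix.SpecialLinearGroup (Fin 2) F, ∀ w, qf' w = qf (app g w) := by
  obtain ⟨e, f, he, hef, hf⟩ := exists_basis_form hq
  obtain ⟨e', f', he', hef', hf'⟩ := exists_basis_form hq'
  obtain ⟨l, hl⟩ := exists_artinSchreier hf hf'
  set f₁ := f + l • e with hf₁
  have hef₁ : br e f₁ = 1 := by
    rw [hf₁, br_add_right, br_smul_right, br_self, mul_zero, add_zero, hef]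
  have hqf₁ : qf f₁ = qf' f' := by
    rw [hf₁, hq.add, hq.smul, he, br_smul_right, br_comm f e, hef]
    linear_combination hl - (qf' f' - l * l - l) * (two_eq_zero' (F := F))
  let T : F × F → F × F := fun w => br w f' • e + br e' w • f₁
  have hTbr : ∀ w z, br (T w) (T z) = br w z := fun w z => by
    have hw := expand (p := e') (q := f') (by rw [hef']; exact one_ne_zero) w
    have hz := expand (p := e') (q := f') (by rw [hef']; exact one_ne_zero) z
    conv_rhs => rw [hw, hz]
    simp only [T, br_add_left, br_add_right, br_smul_left, br_smul_right, br_self, br_comm f₁ e,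
      br_comm f' e', hef₁, hef', div_one]
  let Mg : Matrix (Fin 2) (Fin 2) F :=
    !![(T (1, 0)).1, (T (0, 1)).1; (T (1, 0)).2, (T (0, 1)).2]
  have hdet : Mg.det = 1 := by
    rw [Matrix.det_fin_two_of]
    have h := hTbr (1, 0) (0, 1)
    simp only [br] at h
    linear_combination h - (T (0, 1)).1 * (T (1, 0)).2 * (two_eq_zero' (F := F))
  refine ⟨⟨Mg, hdet⟩, fun w => ?_⟩
  have happ : app ⟨Mg, hdet⟩ w = T w := by
    simp only [app, Mg, T, br, Matrix.of_apply, Matrix.cons_val', Matrix.cons_val_zero,
      Matrix.cons_val_one, Matrix.cons_val_fin_one, Prod.fst_add, Prod.snd_add, Prod.smul_fst,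
      Prod.smul_snd, smul_eq_mul, Matrix.empty_val']
    apply Prod.ext <;> simp only [Prod.fst_add, Prod.snd_add, Prod.smul_fst, Prod.smul_snd,
      smul_eq_mul] <;> ring
  have hw := expand (p := e') (q := f') (by rw [hef']; exact one_ne_zero) w
  rw [hef', div_one, div_one] at hw
  rw [happ]
  conv_lhs => rw [hw]
  simp only [T, hq.add, hq'.add, hq.smul, hq'.smul, he, he', hqf₁, br_smul_left, br_smul_right,
    hef₁, hef']

end CfsgLib.Recog.RankOneSuzuki
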