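import Mathlib

/-!
# A cyclic group acting freely on an elementary group of square order

If a commutative group of order `2 ^ n - 1` acts freely on an elementary abelian group of order
`4 ^ n` generated by one orbit, the group splits canonically into two invariant parts.
-/

set_option autoImplicit false
set_option linter.unusedSectionVars false
set_option linter.style.haveILetI false

namespace CfsgLib.Recog.RankOneSuzuki.CubeRing

theorem card_dvd_sub_one {K X : Type*} [Group K] [MulAction K X] [Finite X] (x₀ : X)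
    (hfix : ∀ k : K, k • x₀ = x₀) (hfree : ∀ (k : K) (x : X), k • x = x → k = 1 ∨ x = x₀) :
    Nat.card K ∣ Nat.card X - 1 := by
  classical
  have hne : ∀ (k : K) (x : {x : X // x ≠ x₀}), k • (x : X) ≠ x₀ := fun k x h =>
    x.2 (MulAction.injective k (h.trans (hfix k).symm))
  letI : MulAction K {x : X // x ≠ x₀} :=
    { smul := fun k x => ⟨k • (x : X), hne k x⟩
      one_smul := fun x => Subtype.ext (one_smul K (x : X))
      mul_smul := fun k k' x => Subtype.ext (mul_smul k k' (x : X)) }
  have hstab : ∀ x : {x : X // x ≠ x₀}, MulAction.stabilizer K x = ⊥ := fun x =>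
    eq_bot_iff.2 fun k hk => Subgroup.mem_bot.2
      ((hfree k x (congrArg Subtype.val (MulAction.mem_stabilizer_iff.1 hk))).resolve_right x.2)
  have hc : Nat.card {x : X // x ≠ x₀} = Nat.card X - 1 := by
    rw [← Nat.card_congr (Equiv.optionSubtypeNe x₀), Finite.card_option, Nat.add_sub_cancel]
  rw [← hc, Nat.card_congr (MulAction.selfEquivOrbitsQuotientProd hstab), Nat.card_prod]
  exact dvd_mul_left _ _

theorem dvd_of_pow_sub_one_dvd {n i : ℕ} (h : 2 ^ n - 1 ∣ 2 ^ i - 1) : n ∣ i := by
  have h1 := Nat.pow_sub_one_gcd_pow_sub_one 2 n i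
  rw [Nat.gcd_eq_left h] at h1
  have h2 : Nat.gcd n i = n := by
    have ha : 0 < 2 ^ n := by positivity
    have hb : 0 < 2 ^ Nat.gcd n i := by positivity
    exact (Nat.pow_right_injective le_rfl (show 2 ^ n = 2 ^ Nat.gcd n i by omega)).symm
  rw [← h2]
  exact Nat.gcd_dvd_right n i

/-- An order `2 ^ i` between `1` and `4 ^ n`, congruent to `1` modulo `2 ^ n - 1`. -/
theorem pow_trichotomy {n i : ℕ} (h : 2 ^ n - 1 ∣ 2 ^ i - 1) (hle : i ≤ 2 * n) :
    i = 0 ∨ i = n ∨ i = 2 * n := by
  obtain ⟨j, rfl⟩ := dvd_of_pow_sub_one_dvd h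
  rcases Nat.eq_zero_or_pos n with rfl | hn
  · simp
  have hj : j ≤ 2 := Nat.le_of_mul_le_mul_left (by linarith) hn
  interval_cases j <;> omega

variable {E : Type*} [AddCommGroup E] {K : Type*} [Group K] (φ : K →* AddMonoid.End E)

/-- The invariance of a subgroup. -/
def Inv (M : AddSubgroup E) : Prop := ∀ k : K, ∀ x ∈ M, φ k x ∈ M

variable {φ} [Finite E] {n : ℕ} (h2 : ∀ x : E, x + x = 0)
  (hE : Nat.card E = (2 ^ n) ^ 2) (hK : Nat.card K = 2 ^ n - 1)
  (hfree : ∀ (k : K) (x : E), φ k x = x → k = 1 ∨ x = 0)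

include h2 hE hK hfree in
theorem card_inv {M : AddSubgroup E} (hM : Inv φ M) :
    Nat.card M = 1 ∨ Nat.card M = 2 ^ n ∨ Nat.card M = (2 ^ n) ^ 2 := by
  letI : MulAction K M :=
    { smul := fun k x => ⟨φ k x, hM k x x.2⟩
      one_smul := fun x => Subtype.ext (by show φ 1 (x : E) = x; rw [map_one]; rfl)
      mul_smul := fun k k' x => Subtype.ext (by
        show φ (k * k') (x : E) = φ k (φ k' x); rw [map_mul]; rfl) }
  have h := card_dvd_sub_one (K := K) (0 : M) (fun k => Subtype.ext (map_zero (φ k)))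
    fun k x hx => (hfree k x (congrArg Subtype.val hx)).imp id fun h => Subtype.ext h
  have hdvd : Nat.card M ∣ 2 ^ (2 * n) := by
    rw [mul_comm, pow_mul, ← hE]; exact M.card_addSubgroup_dvd_card
  obtain ⟨i, hi, hie⟩ := (Nat.dvd_prime_pow Nat.prime_two).1 hdvd
  rw [hK, hie] at h
  rw [hie]
  rcases pow_trichotomy h hi with rfl | rfl | rfl
  · exact Or.inl (pow_zero 2)
  · exact Or.inr (Or.inl rfl)
  · exact Or.inr (Or.inr (by rw [← pow_mul, mul_comm]))

/-- An element orbit generates. -/
def Gen (φ : K →* AddMonoid.End E) (r : E) : Prop := ∀ M : AddSubgroup E, Inv φ M → r ∈ M → M = ⊤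

include h2 hE hK hfree in
/-- The canonical splitting of the generator. -/
theorem exists_split (hn : 2 ≤ n) (hcomm : ∀ k k' : K, k * k' = k' * k) {r : E} (hr : Gen φ r) :
    ∃ e₁ e₂ : E, e₁ ≠ 0 ∧ e₂ ≠ 0 ∧ (∀ k : K, φ k e₁ ≠ e₂) ∧
      ∀ (α : E ≃+ E) (m : ℕ), Odd m → (⇑α)^[m] = id → α r = r →
        (∀ k : K, ∃ k' : K, ∀ x, α (φ k x) = φ k' (α x)) → α e₁ = e₁ ∧ α e₂ = e₂ := by
  classical
  have hq4 : 4 ≤ 2 ^ n := le_trans (by norm_num) (Nat.pow_le_pow_right two_pos hn)
  haveI hntE : Nontrivial E := Finite.one_lt_card_iff_nontrivial.1 (by rw [hE]; nlinarith)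
  have hEnd : (2 : AddMonoid.End E) = 0 := by
    rw [← one_add_one_eq_two]; exact AddMonoidHom.ext fun x => h2 x
  haveI : Nontrivial (AddMonoid.End E) := by
    obtain ⟨x, hx⟩ := exists_ne (0 : E)
    exact ⟨1, 0, fun h => hx (congrArg (fun f : AddMonoid.End E => f x) h)⟩
  haveI : CharP (AddMonoid.End E) 2 := CharTwo.of_one_ne_zero_of_two_eq_zero one_ne_zero hEnd
  set R : Subring (AddMonoid.End E) := Subring.closure (Set.range φ) with hR
  have hφR : ∀ k, φ k ∈ R := fun k => Subring.subset_closure ⟨k, rfl⟩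
  have hφc : ∀ x ∈ R, ∀ k : K, φ k * x = x * φ k := by
    intro x hx k
    have h : R ≤ Subring.centralizer {φ k} := (Subring.closure_le).2 fun y ⟨k', hk'⟩ => by
      subst hk'
      refine Subring.mem_centralizer_iff.2 fun g hg => ?_
      rw [Set.mem_singleton_iff.1 hg, ← map_mul, ← map_mul, hcomm]
    exact Subring.mem_centralizer_iff.1 (h hx) _ rfl
  have hRc : ∀ x ∈ R, ∀ y ∈ R, x * y = y * x := by
    intro x hx y hy
    have h : R ≤ Subring.centralizer (R : Set (AddMonoid.End E)) :=
      (Subring.closure_le).2 fun z ⟨k, hk⟩ => by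
        subst hk
        exact Subring.mem_centralizer_iff.2 fun g hg => (hφc g hg k).symm
    exact (Subring.mem_centralizer_iff.1 (h hx) y hy).symm
  -- every element of the ring is fixed by the `2 ^ n`-th power
  have hpow : ∀ x ∈ R, x ^ 2 ^ n = x := by
    intro x hx
    induction hx using Subring.closure_induction with
    | mem y hy =>
      obtain ⟨k, rfl⟩ := hy
      rw [← map_pow]
      congr 1
      rw [show 2 ^ n = (2 ^ n - 1) + 1 by omega, pow_succ, ← hK, pow_card_eq_one', one_mul]
    | zero => rw [zero_pow (by omega)]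
    | one => rw [one_pow]
    | add y z hy hz hy' hz' =>
      rw [add_pow_char_pow_of_commute (p := 2) (n := n) (hRc y hy z hz), hy', hz']
    | neg y hy hy' => rw [CharTwo.neg_eq, hy']
    | mul y z hy hz hy' hz' => rw [Commute.mul_pow (hRc y hy z hz), hy', hz']
  -- evaluation at the generator is bijective
  have hker : ∀ x ∈ R, x r = 0 → x = 0 := by
    intro x hx hxr
    have h : AddMonoidHom.ker (x : E →+ E) = ⊤ := by
      refine hr _ (fun k y hy => ?_) hxr
      have hy' : x y = 0 := hy
      show x (φ k y) = 0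
      rw [show x (φ k y) = (x * φ k) y from rfl, ← hφc x hx k]
      show φ k (x y) = 0
      rw [hy', map_zero]
    exact AddMonoidHom.ext fun y => (h ▸ AddSubgroup.mem_top y : y ∈ AddMonoidHom.ker (x : E →+ E))
  have hsurj : ∀ y : E, ∃ x ∈ R, x r = y := by
    intro y
    let M : AddSubgroup E :=
      { carrier := {y | ∃ x ∈ R, x r = y}
        zero_mem' := ⟨0, R.zero_mem, rfl⟩
        add_mem' := by
          rintro _ _ ⟨x, hx, rfl⟩ ⟨x', hx', rfl⟩
          exact ⟨x + x', R.add_mem hx hx', rfl⟩
        neg_mem' := by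
          rintro _ ⟨x, hx, rfl⟩
          exact ⟨-x, R.neg_mem hx, rfl⟩ }
    have hM : M = ⊤ := hr M (fun k z ⟨x, hx, hz⟩ => ⟨φ k * x, R.mul_mem (hφR k) hx, by
      show φ k (x r) = _
      rw [hz]⟩) ⟨1, R.one_mem, rfl⟩
    exact (hM ▸ AddSubgroup.mem_top y : y ∈ M)
  have hcardR : Nat.card R = (2 ^ n) ^ 2 := by
    rw [← hE]
    refine Nat.card_congr (Equiv.ofBijective (fun x : R => (x : AddMonoid.End E) r) ⟨?_, ?_⟩)
    · intro x y h
      refine Subtype.ext (sub_eq_zero.1 (hker _ (R.sub_mem x.2 y.2) ?_))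
      show (x : AddMonoid.End E) r - (y : AddMonoid.End E) r = 0
      exact sub_eq_zero.2 h
    · intro y
      obtain ⟨x, hx, he⟩ := hsurj y
      exact ⟨⟨x, hx⟩, he⟩
  -- a zero divisor
  obtain ⟨x, hx, y, hy, hx0, hy0, hxy⟩ : ∃ x ∈ R, ∃ y ∈ R, x ≠ 0 ∧ y ≠ 0 ∧ x * y = 0 := by
    by_contra hcon
    push Not at hcon
    letI : CommRing R :=
      { (inferInstance : Ring R) with mul_comm := fun a b => Subtype.ext (hRc a a.2 b b.2) }
    haveI : NoZeroDivisors R := ⟨fun {a b} hab => by
      by_contra hne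
      rw [not_or] at hne
      exact hcon a a.2 b b.2 (fun h => hne.1 (Subtype.ext h)) (fun h => hne.2 (Subtype.ext h))
        (congrArg Subtype.val hab)⟩
    haveI : Nontrivial R := ⟨1, 0, fun h => one_ne_zero (congrArg Subtype.val h)⟩
    haveI : IsDomain R := NoZeroDivisors.to_isDomain R
    haveI : Finite R := Nat.finite_of_card_ne_zero (by rw [hcardR]; positivity)
    haveI := Fintype.ofFinite R
    set p : Polynomial R := Polynomial.X ^ 2 ^ n - Polynomial.X with hp
    have hp0 : p ≠ 0 := fun h => by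
      have h1 := congrArg (fun f : Polynomial R => f.coeff (2 ^ n)) h
      simp [hp, Polynomial.coeff_X, show 1 ≠ 2 ^ n by omega] at h1
    have hdeg : p.natDegree ≤ 2 ^ n := (Polynomial.natDegree_sub_le _ _).trans
      (max_le (Polynomial.natDegree_X_pow_le _) (Polynomial.natDegree_X_le.trans (by omega)))
    have hsub : (Finset.univ : Finset R) ⊆ p.roots.toFinset := fun z _ => by
      rw [Multiset.mem_toFinset, Polynomial.mem_roots hp0, Polynomial.IsRoot, hp]
      simp only [Polynomial.eval_sub, Polynomial.eval_pow, Polynomial.eval_X]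
      exact sub_eq_zero.2 (Subtype.ext (by rw [SubmonoidClass.coe_pow]; exact hpow z z.2))
    have hle := (((Finset.card_le_card hsub).trans p.roots.toFinset_card_le).trans
      (Polynomial.card_roots' p)).trans hdeg
    rw [Finset.card_univ, ← Nat.card_eq_fintype_card, hcardR] at hle
    nlinarith
  -- a nontrivial idempotent
  set e := x ^ (2 ^ n - 1) with he
  have heR : e ∈ R := R.pow_mem hx _
  have hex : e * x = x := by
    rw [he, ← pow_succ, show 2 ^ n - 1 + 1 = 2 ^ n by omega, hpow x hx]
  have he2 : e * e = e := by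
    have : e * e = (e * x) * x ^ (2 ^ n - 2) := by
      rw [he, mul_assoc, ← pow_succ' x, show 2 ^ n - 2 + 1 = 2 ^ n - 1 by omega]
    rw [this, hex, ← pow_succ', show 2 ^ n - 2 + 1 = 2 ^ n - 1 by omega]
  have he0 : e ≠ 0 := fun h => hx0 (by rw [← hex, h, zero_mul])
  have he1 : e ≠ 1 := fun h => hy0 (by
    have h1 : e * y = 0 := by
      rw [he, show 2 ^ n - 1 = 2 ^ n - 2 + 1 by omega, pow_succ, mul_assoc, hxy, mul_zero]
    rwa [h, one_mul] at h1)
  set e' := 1 - e with he'
  have he'R : e' ∈ R := R.sub_mem R.one_mem heR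
  have hee' : e * e' = 0 := by rw [he', mul_sub, mul_one, he2, sub_self]
  have he'e : e' * e = 0 := by rw [he', sub_mul, one_mul, he2, sub_self]
  have he'2 : e' * e' = e' := by rw [he', mul_sub, mul_one, sub_mul, one_mul, he2, sub_self, sub_zero]
  have he'0 : e' ≠ 0 := fun h => he1 (sub_eq_zero.1 h).symm
  have he'1 : e' ≠ 1 := fun h => he0 (sub_eq_self.1 h)
  -- the range of a nontrivial idempotent has no proper invariant subgroup
  have hmin : ∀ d ∈ R, d * d = d → d ≠ 0 → d ≠ 1 → ∀ f ∈ R, f * f = f → d * f = 0 ∨ d * f = d := by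
    intro d hd hd2 hd0 hd1 f hf hf2
    have hinv : ∀ z ∈ R, Inv φ (AddMonoidHom.range (z : E →+ E)) := by
      rintro z hz k _ ⟨w, rfl⟩
      exact ⟨φ k w, congrArg (fun g : AddMonoid.End E => g w) (hφc z hz k).symm⟩
    have hcd := card_inv h2 hE hK hfree (hinv d hd)
    have hcdf := card_inv h2 hE hK hfree (hinv (d * f) (R.mul_mem hd hf))
    have hd1' : Nat.card (AddMonoidHom.range (d : E →+ E)) ≠ 1 := fun h => hd0 (AddMonoidHom.ext
      fun w => AddSubgroup.mem_bot.1 (AddSubgroup.eq_bot_of_card_eq _ h ▸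
        (⟨w, rfl⟩ : d w ∈ AddMonoidHom.range (d : E →+ E))))
    have hdtop : Nat.card (AddMonoidHom.range (d : E →+ E)) ≠ (2 ^ n) ^ 2 := fun h => hd1
      (AddMonoidHom.ext fun w => by
        obtain ⟨u, hu⟩ : w ∈ AddMonoidHom.range (d : E →+ E) := by
          rw [AddSubgroup.eq_top_of_card_eq _ (h.trans hE.symm)]; exact AddSubgroup.mem_top w
        have hu' : d u = w := hu
        show d w = w
        rw [← hu', show d (d u) = (d * d) u from rfl, hd2])
    have hle : AddMonoidHom.range (d * f : E →+ E) ≤ AddMonoidHom.range (d : E →+ E) := by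
      rintro _ ⟨w, rfl⟩; exact ⟨f w, rfl⟩
    rcases hcdf with h | h
    · exact Or.inl (AddMonoidHom.ext fun w => AddSubgroup.mem_bot.1
        (AddSubgroup.eq_bot_of_card_eq _ h ▸
          (⟨w, rfl⟩ : (d * f) w ∈ AddMonoidHom.range (d * f : E →+ E))))
    right
    have hdq : Nat.card (AddMonoidHom.range (d : E →+ E)) = 2 ^ n :=
      (hcd.resolve_left hd1').resolve_right hdtop
    have heq := AddSubgroup.eq_of_le_of_card_ge hle (by
      rw [hdq]; rcases h with h | h <;> rw [h]; nlinarith)
    refine AddMonoidHom.ext fun w => ?_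
    obtain ⟨u, hu⟩ : d w ∈ AddMonoidHom.range (d * f : E →+ E) := heq ▸ ⟨w, rfl⟩
    have hu' : (d * f) u = d w := hu
    show (d * f) w = d w
    have h3 : (d * f) (d w) = (d * f) w := by
      show (d * f * d) w = (d * f) w
      rw [mul_assoc, hRc f hf d hd, ← mul_assoc, hd2]
    have h4 : (d * f) ((d * f) u) = (d * f) u := by
      show (d * f * (d * f)) u = (d * f) u
      rw [mul_assoc, ← mul_assoc f d f, hRc f hf d hd, mul_assoc d f f, hf2, ← mul_assoc, hd2]
    rw [← h3, ← hu', h4]
  refine ⟨e r, e' r, fun h => he0 (hker e heR h), fun h => he'0 (hker e' he'R h), fun k hk => ?_, ?_⟩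
  · refine he'0 (hker e' he'R ?_)
    have h1 : e (φ k (e r)) = φ k (e (e r)) :=
      congrArg (fun g : AddMonoid.End E => g (e r)) (hφc e heR k).symm
    rw [hk, show e (e' r) = (e * e') r from rfl, hee', show e (e r) = (e * e) r from rfl, he2,
      hk] at h1
    exact h1.symm
  intro α m hm hαm hαr hnorm
  let cj : AddMonoid.End E →+* AddMonoid.End E :=
    { toFun := fun f => α.toAddMonoidHom.comp ((f : E →+ E).comp α.symm.toAddMonoidHom)
      map_one' := AddMonoidHom.ext fun z => α.apply_symm_apply z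
      map_mul' := fun f g => AddMonoidHom.ext fun z => by
        show α (f (g (α.symm z))) = α (f (α.symm (α (g (α.symm z)))))
        rw [α.symm_apply_apply]
      map_zero' := AddMonoidHom.ext fun z => map_zero α
      map_add' := fun f g => AddMonoidHom.ext fun z => map_add α _ _ }
  have hcj : ∀ (f : AddMonoid.End E) (z : E), cj f (α z) = α (f z) := fun f z => by
    show α (f (α.symm (α z))) = α (f z)
    rw [α.symm_apply_apply]
  have hcjR : R ≤ R.comap cj := (Subring.closure_le).2 fun _ ⟨k, hk⟩ => by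
    subst hk
    obtain ⟨k', hk'⟩ := hnorm k
    show cj (φ k) ∈ R
    rw [show cj (φ k) = φ k' from AddMonoidHom.ext fun z => by
      obtain ⟨z, rfl⟩ := α.surjective z
      exact (hcj (φ k) z).trans (hk' z)]
    exact hφR k'
  set f := cj e with hf
  have hfR : f ∈ R := hcjR heR
  have hf2 : f * f = f := by rw [hf, ← map_mul, he2]
  have hcjinj : Function.Injective cj := fun g g' h => AddMonoidHom.ext fun z => by
    exact α.injective ((hcj g z).symm.trans
      ((congrArg (fun q : AddMonoid.End E => q (α z)) h).trans (hcj g' z)))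
  have hf0 : f ≠ 0 := fun h => he0 (hcjinj (h.trans (map_zero cj).symm))
  have hf1 : f ≠ 1 := fun h => he1 (hcjinj (h.trans (map_one cj).symm))
  have hsum : f = e * f + e' * f := by rw [← add_mul, he', add_sub_cancel, one_mul]
  have hfe : f = e := by
    rcases hmin e heR he2 he0 he1 f hfR hf2 with h | h <;>
      rcases hmin e' he'R he'2 he'0 he'1 f hfR hf2 with h' | h' <;> rw [h, h'] at hsum
    · exact absurd (by rw [hsum, add_zero]) hf0
    · exfalso
      rw [zero_add] at hsum
      -- an automorphism of odd order cannot exchange the two idempotents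
      have hswap : ∀ z, α (e z) = e' (α z) := fun z => by rw [← hcj, ← hf, hsum]
      have hswap' : ∀ z, α (e' z) = e (α z) := fun z => by
        have : cj e' = e := by rw [he', map_sub, map_one, ← hf, hsum, he', sub_sub_cancel]
        rw [← hcj, this]
      have hit : ∀ (j : ℕ) (z : E), (⇑α)^[2 * j] (e z) = e ((⇑α)^[2 * j] z) := by
        intro j
        induction j with
        | zero => intro z; rfl
        | succ j ih =>
          intro z
          rw [show 2 * (j + 1) = 2 * j + 1 + 1 by ring, Function.iterate_succ_apply',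
            Function.iterate_succ_apply', ih, hswap, hswap', Function.iterate_succ_apply',
            Function.iterate_succ_apply']
      obtain ⟨j, hj⟩ := hm
      have hee : e = e' := AddMonoidHom.ext fun z => by
        have h1 : (⇑α)^[2 * j + 1] (e z) = e z := by rw [← hj, hαm]; rfl
        have h3 : (⇑α)^[2 * j + 1] z = z := by rw [← hj, hαm]; rfl
        have h4 : (⇑α)^[2 * j + 1] (e z) = α ((⇑α)^[2 * j] (e z)) :=
          Function.iterate_succ_apply' _ _ _
        have h5 : (⇑α)^[2 * j + 1] z = α ((⇑α)^[2 * j] z) := Function.iterate_succ_apply' _ _ _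
        rw [hit, hswap, ← h5, h3, h1] at h4
        exact h4
      exact he0 (by rw [← he2]; nth_rw 2 [hee]; exact hee')
    · rw [add_zero] at hsum; exact hsum
    · exact absurd (by rw [hsum, he', add_sub_cancel]) hf1
  constructor
  · rw [← hcj, ← hf, hfe, hαr]
  · rw [← hcj, show cj e' = e' by rw [he', map_sub, map_one, ← hf, hfe], hαr]

end CfsgLib.Recog.RankOneSuzuki.CubeRing
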