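import Cfsg.Agent.Recog.RankOneSuzuki.Cases
import Cfsg.Agent.S1221

/-!
# Suzuki's rank one theorem: `Q` is a `2`-group
-/

set_option autoImplicit false
set_option linter.unusedSectionVars false
set_option linter.style.haveILetI false

namespace CfsgLib.Recog.RankOneSuzuki

open MulAction CfsgLib.Recog.RankOne
open scoped Pointwise

variable {G Ω : Type*} [Group G] [MulAction G Ω]

local notation "D[" a "," t "]" => stabilizer G a ⊓ stabilizer G (t • a)

namespace Data

variable {a : Ω} {t : G} {Q : Subgroup G} (S : Data a t Q)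
include S

variable [Finite G]

/-- The point stabiliser is strongly embedded. -/
theorem stronglyEmbedded : Cfsg.IsStronglyEmbedded (stabilizer G a) := by
  refine ⟨fun h => b_ne S.setup (mem_stabilizer_iff.1 (h ▸ Subgroup.mem_top t)), ?_, fun g hg => ?_⟩
  · exact even_iff_two_dvd.2 (dvd_trans (even_iff_two_dvd.1 S.setup.even_card)
      (Subgroup.card_dvd_of_le S.setup.le))
  · have hga : g • a ≠ a := fun h => hg h
    obtain ⟨x, hxa, hxg⟩ := exists_pair S.setup hga.symm (b_ne S.setup).symm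
    refine S.setup.odd_card.of_dvd_nat ?_
    have hmem : ∀ z : ↥(stabilizer G a ⊓ (stabilizer G a).map (MulAut.conj g).toMonoidHom),
        x * (z : G) * x⁻¹ ∈ D[a, t] := by
      rintro ⟨z, hza, hzg⟩
      obtain ⟨y, hy, rfl⟩ := Subgroup.mem_map.1 hzg
      refine ⟨?_, ?_⟩
      · show (x * _ * x⁻¹) • a = a
        rw [mul_smul, mul_smul, inv_smul_eq_iff.2 hxa.symm, mem_stabilizer_iff.1 hza, hxa]
      · show (x * _ * x⁻¹) • t • a = t • a
        rw [← hxg, mul_smul, mul_smul, inv_smul_smul]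
        simp [mul_smul, inv_smul_smul, mem_stabilizer_iff.1 hy]
    let f : ↥(stabilizer G a ⊓ (stabilizer G a).map (MulAut.conj g).toMonoidHom) →* ↥(D[a, t]) :=
      { toFun := fun z => ⟨_, hmem z⟩
        map_one' := Subtype.ext (by simp)
        map_mul' := fun u w => Subtype.ext (show x * ((u : G) * (w : G)) * x⁻¹ =
          x * (u : G) * x⁻¹ * (x * (w : G) * x⁻¹) by group) }
    exact Subgroup.card_dvd_of_injective f fun u w h =>
      Subtype.ext (mul_left_cancel (mul_right_cancel (congrArg Subtype.val h)))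

variable [FaithfulSMul G Ω]

/-- The odd core of the whole group is trivial. -/
theorem oddCore_eq_bot : Cfsg.oddCore G = ⊥ := by
  obtain ⟨z, hz, hz1, hzs⟩ := S.exists_two
  have h2 : ∃ x y : G, x ≠ 1 ∧ y ≠ 1 ∧ x ≠ y ∧ x * x = 1 ∧ y * y = 1 ∧ x * y = y * x :=
    ⟨z, S.s, hz1, S.s_ne, hzs, S.Z_sq hz, S.Z_sq S.s_mem, S.central z hz _ (S.Z_le S.s_mem)⟩
  show Cfsg.pPrimeCore 2 G = ⊥
  rw [pPrimeCore_eq S.setup h2, eq_bot_iff]
  intro x hx
  haveI := CfsgLib.Recog.RankOne.pretransitive S.setup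
  refine Subgroup.mem_bot.2 (FaithfulSMul.eq_of_smul_eq_smul fun c : Ω => ?_)
  obtain ⟨g, hg⟩ := exists_smul_eq G a c
  have h1 := mem_stabilizer_iff.1 (Subgroup.normalCore_le _
    ((Subgroup.normalCore_normal (stabilizer G a)).conj_mem x hx g⁻¹))
  rw [inv_inv, mul_smul, mul_smul, hg, inv_smul_eq_iff, hg] at h1
  rw [h1, one_smul]

/-- The odd core of the point stabiliser is trivial. -/
theorem oddCore_stab_eq_bot : Cfsg.oddCore ↥(stabilizer G a) = ⊥ := by
  have h := Cfsg.Agent.S1221.result (stabilizer G a) S.stronglyEmbedded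
  rw [S.oddCore_eq_bot, le_bot_iff] at h
  exact (Subgroup.map_eq_bot_iff_of_injective _ Subtype.val_injective).1 h

theorem isPGroup_Q : IsPGroup 2 Q := by
  classical
  obtain ⟨z, hz, hz1, hzs⟩ := S.exists_two
  have h2 : ∃ x y : G, x ≠ 1 ∧ y ≠ 1 ∧ x ≠ y ∧ x * x = 1 ∧ y * y = 1 ∧ x * y = y * x :=
    ⟨z, S.s, hz1, S.s_ne, hzs, S.Z_sq hz, S.Z_sq S.s_mem, S.central z hz _ (S.Z_le S.s_mem)⟩
  haveI := nilpotent_Q S.setup h2
  refine IsPGroup.of_card (n := (Nat.card Q).primeFactorsList.length)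
    (Nat.eq_prime_pow_of_unique_prime_dvd Nat.card_pos.ne' fun {p} hp hpd => ?_)
  by_contra hp2
  haveI := Fact.mk hp
  obtain ⟨P⟩ : Nonempty (Sylow p Q) := inferInstance
  haveI hPn : (P : Subgroup Q).Normal := inferInstance
  haveI hPc : (P : Subgroup Q).Characteristic := P.characteristic_of_normal hPn
  haveI hQn : (Q.subgroupOf (stabilizer G a)).Normal :=
    ⟨fun x hx g => S.setup.conj_mem g g.2 x hx⟩
  let e : ↥(Q.subgroupOf (stabilizer G a)) ≃* Q := Subgroup.subgroupOfEquivOfLe S.setup.le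
  set P' : Subgroup ↥(Q.subgroupOf (stabilizer G a)) := (P : Subgroup Q).comap e.toMonoidHom
  haveI : P'.Characteristic := by
    refine Subgroup.characteristic_iff_comap_eq.2 fun φ => ?_
    have h := Subgroup.characteristic_iff_comap_eq.1 hPc ((e.symm.trans φ).trans e)
    show P'.comap φ.toMonoidHom = P'
    ext x
    have := SetLike.ext_iff.1 h (e x)
    simpa [P'] using this
  set N := P'.map (Q.subgroupOf (stabilizer G a)).subtype with hN
  haveI : N.Normal := ConjAct.normal_of_characteristic_of_normal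
  have hcard : Nat.card N = Nat.card (P : Subgroup Q) := by
    rw [hN, ← Nat.card_congr (P'.equivMapOfInjective _ Subtype.val_injective).toEquiv]
    exact Nat.card_congr (e.toEquiv.subtypeEquiv fun x => Iff.rfl)
  have hodd : (Nat.card N).Coprime 2 := by
    obtain ⟨i, hi⟩ := IsPGroup.iff_card.1 P.2
    rw [hcard, hi]
    exact ((Nat.coprime_primes hp Nat.prime_two).2 hp2).pow_left i
  have hle : N ≤ Cfsg.oddCore ↥(stabilizer G a) := le_sSup ⟨inferInstance, hodd⟩
  rw [S.oddCore_stab_eq_bot, le_bot_iff] at hle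
  rw [hle, Subgroup.card_bot] at hcard
  exact P.ne_bot_of_dvd_card hpd (Subgroup.eq_bot_of_card_eq _ hcard.symm)

end Data

end CfsgLib.Recog.RankOneSuzuki
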