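import Cfsg.Agent.Recog.RankOneSuzuki.Centraliser
import Cfsg.Agent.Recog.RankOneSuzuki.Injection
import Cfsg.Agent.Recog.RankOneSuzuki.TwoGroup
import Cfsg.Agent.Recog.RankOneSuzuki.CubeRing
import Cfsg.Agent.Recog.SuzukiOrder

/-!
# Suzuki's rank one theorem: if `|Q| = q ^ 3` and `Q` is not abelian then `r` is an involution

If `r ∉ Z`, either `Z` and the `K`-orbit of `r` generate a subgroup of order `q ^ 2`, against the
injection lemma, or they generate `Q`, against the structure of the centraliser of `V`.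
-/

set_option autoImplicit false
set_option linter.unusedSectionVars false
set_option linter.style.haveILetI false

namespace CfsgLib.Recog.RankOneSuzuki

open MulAction CfsgLib.Recog.RankOne

variable {G Ω : Type*} [Group G] [MulAction G Ω]

local notation "D[" a "," t "]" => stabilizer G a ⊓ stabilizer G (t • a)

local notation "Cent(" X ")" => Subgroup.centralizer (SetLike.coe X)

/-- A group with one involution, all of whose squares and commutators are at most that involution,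
has order at most eight. -/
theorem cube_card_eight [Finite G] (U : Subgroup G) {s : G} (hs1 : s ≠ 1)
    (hs2 : s * s = 1) (hc : ∀ u ∈ U, s * u = u * s)
    (hsq : ∀ u ∈ U, u = 1 ∨ u = s ∨ u * u = s) (h8 : 8 ≤ Nat.card U) : Nat.card U = 8 := by
  classical
  refine le_antisymm ?_ h8
  by_contra hlt
  have pick : ∀ T : Finset G, T.card ≤ 8 → ∃ x ∈ U, x ∉ T := by
    intro T hT
    by_contra hcon
    push Not at hcon
    have h1 : (U : Set G).ncard ≤ (T : Set G).ncard :=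
      Set.ncard_le_ncard (fun x hx => hcon x hx) (Set.toFinite _)
    rw [Set.ncard_coe_finset, ← Nat.card_coe_set_eq] at h1
    exact hlt (h1.trans hT)
  -- two independent elements anticommute
  have anti : ∀ u ∈ U, ∀ w ∈ U, u ≠ 1 → u ≠ s → w ≠ 1 → w ≠ s → u * w ≠ 1 → u * w ≠ s →
      u * w = s * (w * u) := by
    intro u hu w hw h1 h2 h3 h4 h5 h6
    have hu2 := ((hsq u hu).resolve_left h1).resolve_left h2
    have hw2 := ((hsq w hw).resolve_left h3).resolve_left h4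
    have huw := ((hsq _ (U.mul_mem hu hw)).resolve_left h5).resolve_left h6
    calc u * w = (u * w * (u * w)) * (u * w)⁻¹ := by group
      _ = s * (w⁻¹ * u⁻¹) := by rw [huw, mul_inv_rev]
      _ = s * ((w * (w * w)⁻¹) * (u * (u * u)⁻¹)) := by group
      _ = s * (w * u) := by
          rw [hu2, hw2, inv_eq_of_mul_eq_one_right hs2, mul_assoc w s, ← mul_assoc s u, hc u hu,
            mul_assoc u s s, hs2, mul_one]
  obtain ⟨x, hx, hxT⟩ := pick {1, s} (Finset.card_le_two.trans (by norm_num))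
  simp only [Finset.mem_insert, Finset.mem_singleton, not_or] at hxT
  obtain ⟨y, hy, hyT⟩ := pick {1, s, x, x * s} (by
    refine (Finset.card_insert_le _ _).trans ?_
    refine (Nat.add_le_add_right (Finset.card_insert_le _ _) 1).trans ?_
    have := Finset.card_le_two (a := x) (b := x * s); omega)
  simp only [Finset.mem_insert, Finset.mem_singleton, not_or] at hyT
  obtain ⟨z, hz, hzT⟩ := pick {1, s, x, x * s, y, y * s, x * y, x * y * s} (by
    refine (Finset.card_insert_le _ _).trans ?_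
    refine (Nat.add_le_add_right (Finset.card_insert_le _ _) 1).trans ?_
    refine (Nat.add_le_add_right (Nat.add_le_add_right (Finset.card_insert_le _ _) 1) 1).trans ?_
    refine (Nat.add_le_add_right (Nat.add_le_add_right (Nat.add_le_add_right
      (Finset.card_insert_le _ _) 1) 1) 1).trans ?_
    refine (Nat.add_le_add_right (Nat.add_le_add_right (Nat.add_le_add_right (Nat.add_le_add_right
      (Finset.card_insert_le _ _) 1) 1) 1) 1).trans ?_
    refine (Nat.add_le_add_right (Nat.add_le_add_right (Nat.add_le_add_right (Nat.add_le_add_right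
      (Nat.add_le_add_right (Finset.card_insert_le _ _) 1) 1) 1) 1) 1).trans ?_
    have := Finset.card_le_two (a := x * y) (b := x * y * s); omega)
  simp only [Finset.mem_insert, Finset.mem_singleton, not_or] at hzT
  obtain ⟨hz1, hzs, hzx, hzxs, hzy, hzys, hzxy, hzxys⟩ := hzT
  have hs' := inv_eq_of_mul_eq_one_right hs2
  have hinv : ∀ u ∈ U, u ≠ 1 → u ≠ s → u⁻¹ = u * s := fun u hu h1 h2 =>
    inv_eq_of_mul_eq_one_right (by
      rw [← mul_assoc, ((hsq u hu).resolve_left h1).resolve_left h2, hs2])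
  have hprod : ∀ u ∈ U, ∀ w ∈ U, u ≠ 1 → u ≠ s → w ≠ u → w ≠ u * s →
      u * w ≠ 1 ∧ u * w ≠ s := fun u hu w _ h1 h2 h3 h4 => ⟨fun h => h4 (by
        rw [← hinv u hu h1 h2]; exact eq_inv_of_mul_eq_one_right h), fun h => h3 (by
        rw [show w = u⁻¹ * s by rw [← h, inv_mul_cancel_left], hinv u hu h1 h2, mul_assoc, hs2,
          mul_one])⟩
  obtain ⟨hxy1, hxys⟩ := hprod x hx y hy hxT.1 hxT.2 hyT.2.2.1 hyT.2.2.2
  obtain ⟨hxz1, hxzs⟩ := hprod x hx z hz hxT.1 hxT.2 hzx hzxs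
  obtain ⟨hyz1, hyzs⟩ := hprod y hy z hz hyT.1 hyT.2.1 hzy hzys
  obtain ⟨hxyz1, hxyzs⟩ := hprod (x * y) (U.mul_mem hx hy) z hz hxy1 hxys hzxy hzxys
  have h1 := anti x hx (y * z) (U.mul_mem hy hz) hxT.1 hxT.2 hyz1 hyzs
    (by rwa [← mul_assoc]) (by rwa [← mul_assoc])
  have h2 : x * (y * z) = y * z * x := by
    calc x * (y * z) = (x * y) * z := by group
      _ = s * (y * x) * z := by rw [anti x hx y hy hxT.1 hxT.2 hyT.1 hyT.2.1 hxy1 hxys]
      _ = s * y * (x * z) := by group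
      _ = s * y * (s * (z * x)) := by rw [anti x hx z hz hxT.1 hxT.2 hz1 hzs hxz1 hxzs]
      _ = (s * y * s) * z * x := by group
      _ = _ := by rw [hc y hy, mul_assoc y s s, hs2, mul_one]
  rw [h2] at h1
  exact hs1 (mul_eq_right.1 h1.symm)

namespace Data

variable {a : Ω} {t : G} {Q : Subgroup G} (S : Data a t Q)

/-- The subgroup generated by `Z` and the `K`-orbit of `r`. -/
def cubeQ0 : Subgroup G :=
  Subgroup.closure ((S.Z : Set G) ∪ {x | ∃ k ∈ S.K, k * S.r * k⁻¹ = x})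

theorem cubeQ0_le : S.cubeQ0 ≤ Q := by
  refine (Subgroup.closure_le _).2 ?_
  rintro x (hx | ⟨k, hk, rfl⟩)
  · exact S.Z_le hx
  · exact S.conj_Q hk S.r_mem

theorem Z_le_cubeQ0 : S.Z ≤ S.cubeQ0 := fun _ hx => Subgroup.subset_closure (Or.inl hx)

theorem conj_r_mem_cubeQ0 {k : G} (hk : k ∈ S.K) : k * S.r * k⁻¹ ∈ S.cubeQ0 :=
  Subgroup.subset_closure (Or.inr ⟨k, hk, rfl⟩)

theorem r_mem_cubeQ0 : S.r ∈ S.cubeQ0 := by
  simpa using S.conj_r_mem_cubeQ0 S.K.one_mem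

theorem conj_cubeQ0 {c x : G} (hc : c ∈ S.K) (hx : x ∈ S.cubeQ0) :
    c * x * c⁻¹ ∈ S.cubeQ0 := by
  induction hx using Subgroup.closure_induction with
  | mem y hy =>
    rcases hy with hy | ⟨k, hk, rfl⟩
    · exact S.Z_le_cubeQ0 (S.conj_Z hc hy)
    · rw [show c * (k * S.r * k⁻¹) * c⁻¹ = (c * k) * S.r * (c * k)⁻¹ by group]
      exact S.conj_r_mem_cubeQ0 (S.K.mul_mem hc hk)
  | one => simp
  | mul u w _ _ hu hw =>
    rw [show c * (u * w) * c⁻¹ = (c * u * c⁻¹) * (c * w * c⁻¹) by group]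
    exact mul_mem hu hw
  | inv u _ hu =>
    rw [show c * u⁻¹ * c⁻¹ = (c * u * c⁻¹)⁻¹ by group]
    exact inv_mem hu

theorem conj_cubeQ0' {c x : G} (hc : c ∈ S.K) (hx : x ∈ S.cubeQ0) :
    c⁻¹ * x * c ∈ S.cubeQ0 := by
  simpa using S.conj_cubeQ0 (S.K.inv_mem hc) hx

theorem t_smul_conj {k y : G} (hk : k ∈ S.K) :
    t • (k * y * k⁻¹) • t • a = k⁻¹ • t • y • t • a := by
  rw [mul_smul, mul_smul, inv_smul_eq_iff.2 (S.fix_b hk).symm, ← mul_smul t k, S.t_mul hk,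
    mul_smul]

theorem t_smul_Z {k : G} (hk : k ∈ S.K) :
    t • (k⁻¹ * S.s * k) • t • a = k • S.r⁻¹ • t • a := by
  have h := S.t_smul_conj (k := k⁻¹) (y := S.s) (S.K.inv_mem hk)
  rw [inv_inv] at h
  have h2 : t • S.s • t • a = S.r⁻¹ • t • a := by
    rw [← mul_smul t S.s, ← mul_smul, S.special, mul_smul, mul_smul, fix_a S.setup S.r_mem]
  rw [h, h2]

/-- The image under `t` of the point attached to an element of `r Z`. -/
theorem t_smul_r_mul {k : G} (hk : k ∈ S.K) :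
    t • (S.r * (k⁻¹ * S.s * k)) • t • a =
      (S.r * k⁻¹) • t • (S.r * (k⁻¹ * S.s * k))⁻¹ • t • a := by
  set v := k⁻¹ * S.s * k with hv
  have hvZ : v ∈ S.Z := S.conj_Z' hk S.s_mem
  have h1 : S.s * k * S.r⁻¹ = k * (S.r * v)⁻¹ := by
    rw [mul_inv_rev, inv_eq_of_mul_eq_one_right (S.Z_sq hvZ), hv]; group
  calc t • (S.r * v) • t • a = (t * S.r * t) • t • v • t • a := by
        simp only [mul_assoc, ← mul_smul, S.tt_cancel]
    _ = (S.r * t * S.s) • k • S.r⁻¹ • t • a := by rw [S.special_r, hv, S.t_smul_Z hk]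
    _ = (S.r * t * (S.s * k * S.r⁻¹)) • t • a := by simp only [← mul_smul]; group
    _ = (S.r * (t * k)) • (S.r * v)⁻¹ • t • a := by
        rw [h1]; simp only [← mul_smul]; group
    _ = _ := by rw [S.t_mul hk]; simp only [← mul_smul]; group

variable [Finite G]

theorem cube_exists_pow : ∃ n, 2 ≤ n ∧ Nat.card S.Z = 2 ^ n := by
  haveI : Fact (Nat.Prime 2) := ⟨Nat.prime_two⟩
  obtain ⟨n, hn⟩ := IsPGroup.iff_card.1 (show IsPGroup 2 S.Z from fun z => ⟨1, by
    rw [pow_one, pow_two]; exact Subtype.ext (S.Z_sq z.2)⟩)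
  refine ⟨n, ?_, hn⟩
  by_contra h
  have h4 := S.four_le
  rw [hn] at h4
  have : 2 ^ n ≤ 2 ^ 1 := Nat.pow_le_pow_right two_pos (by omega)
  omega

theorem cube_card_K {n : ℕ} (hn : Nat.card S.Z = 2 ^ n) : Nat.card S.K = 2 ^ n - 1 := by
  have := S.card_K
  omega

/-- The structure of a non-abelian `Q`. -/
theorem cube_structure (hQ2 : IsPGroup 2 Q) (hna : ∃ x ∈ Q, ∃ y ∈ Q, x * y ≠ y * x) :
    (∀ x ∈ Q, x * x ∈ S.Z) ∧ ∀ x ∈ Q, ∀ y ∈ Q, x * y * x⁻¹ * y⁻¹ ∈ S.Z := by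
  obtain ⟨k₀, hk₀⟩ := S.K_cyclic.exists_generator
  let α : MulAut Q :=
    { toFun := fun x => ⟨(k₀ : G) * x * (k₀ : G)⁻¹, S.conj_Q k₀.2 x.2⟩
      invFun := fun x => ⟨(k₀ : G)⁻¹ * x * k₀, S.conj_Q' k₀.2 x.2⟩
      left_inv := fun x => Subtype.ext (by simp [mul_assoc])
      right_inv := fun x => Subtype.ext (by simp [mul_assoc])
      map_mul' := fun x y => Subtype.ext (by simp [mul_assoc]) }
  have hαi : ∀ (i : ℕ) (x : Q), (((α ^ i) x : Q) : G) = (k₀ : G) ^ i * x * ((k₀ : G) ^ i)⁻¹ := by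
    intro i
    induction i with
    | zero => intro x; simp
    | succ i ih =>
      intro x
      rw [pow_succ', MulAut.mul_apply]
      show (k₀ : G) * ((α ^ i) x : Q) * (k₀ : G)⁻¹ = _
      rw [ih, pow_succ']
      group
  have hinv : ∀ x : Q, x * x = 1 → (x : G) ∈ S.Z := fun x hx =>
    (S.mem_Z _).2 ⟨x.2, congrArg Subtype.val hx⟩
  have htrans : SuzukiTwo.Trans α := by
    intro x y hx1 hx hy1 hy
    obtain ⟨k, hk, he⟩ := S.trans _ (hinv x hx) (fun h => hx1 (Subtype.ext h)) _ (hinv y hy)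
      (fun h => hy1 (Subtype.ext h))
    obtain ⟨i, hi⟩ := mem_powers_iff_mem_zpowers.2 (hk₀ (⟨k⁻¹, S.K.inv_mem hk⟩ : S.K))
    refine ⟨i, Subtype.ext ?_⟩
    have hi' : (k₀ : G) ^ i = k⁻¹ := congrArg Subtype.val hi
    rw [hαi, hi', inv_inv, he]
  have hne : ∃ x y : Q, x * y ≠ y * x := by
    obtain ⟨x, hx, y, hy, h⟩ := hna
    exact ⟨⟨x, hx⟩, ⟨y, hy⟩, fun e => h (congrArg Subtype.val e)⟩
  have htwo : ∃ x y : Q, x ≠ y ∧ x ≠ 1 ∧ x * x = 1 ∧ y ≠ 1 ∧ y * y = 1 := by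
    obtain ⟨z, hz, hz1, hzs⟩ := S.exists_two
    exact ⟨⟨z, S.Z_le hz⟩, ⟨S.s, S.Z_le S.s_mem⟩, fun e => hzs (congrArg Subtype.val e),
      fun e => hz1 (congrArg Subtype.val e), Subtype.ext (S.Z_sq hz),
      fun e => S.s_ne (congrArg Subtype.val e), Subtype.ext (S.Z_sq S.s_mem)⟩
  have hc : ∀ x : Q, x ∈ Subgroup.center Q → (x : G) ∈ S.Z := fun x hx =>
    hinv x ((SuzukiTwo.center_iff hQ2 htrans hne).1 hx)
  refine ⟨fun x hx => hc _ (SuzukiTwo.sq_central hQ2 htrans hne htwo ⟨x, hx⟩), fun x hx y hy => ?_⟩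
  have h := hc _ (SuzukiTwo.comm_central hQ2 htrans hne htwo ⟨x, hx⟩ ⟨y, hy⟩)
  simpa [commutatorElement_def] using h

variable [FaithfulSMul G Ω]

/-- The subgroup `cubeQ0` is a proper subgroup of order `q ^ 2`, or it is `Q`. -/
theorem card_cubeQ0 (hrZ : S.r ∉ S.Z) (hQ : Nat.card Q = Nat.card S.Z ^ 3) :
    S.cubeQ0 = Q ∨ Nat.card S.cubeQ0 = Nat.card S.Z ^ 2 := by
  obtain ⟨n, hn2, hn⟩ := S.cube_exists_pow
  letI : MulAction S.K S.cubeQ0 :=
    { smul := fun k x => ⟨(k : G) * x * (k : G)⁻¹, S.conj_cubeQ0 k.2 x.2⟩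
      one_smul := fun x => Subtype.ext (by show ((1 : S.K) : G) * x * _ = _; simp)
      mul_smul := fun k k' x => Subtype.ext (by
        show ((k * k' : S.K) : G) * x * ((k * k' : S.K) : G)⁻¹ =
          (k : G) * ((k' : G) * x * (k' : G)⁻¹) * (k : G)⁻¹
        simp [mul_assoc]) }
  have h := CubeRing.card_dvd_sub_one (K := S.K) (1 : S.cubeQ0)
    (fun k => Subtype.ext (by show (k : G) * 1 * (k : G)⁻¹ = 1; simp)) fun k x hx => by
      have he : (k : G) * x * (k : G)⁻¹ = x := congrArg Subtype.val hx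
      by_cases hk : (k : G) = 1
      · exact Or.inl (Subtype.ext hk)
      · exact Or.inr (Subtype.ext (S.fpf _ k.2 hk _ (S.cubeQ0_le x.2) (mul_inv_eq_iff_eq_mul.1 he)))
  rw [S.cube_card_K hn] at h
  have hdvd : Nat.card S.cubeQ0 ∣ 2 ^ (n * 3) := by
    rw [pow_mul, ← hn, ← hQ]; exact Subgroup.card_dvd_of_le S.cubeQ0_le
  obtain ⟨i, hi, hie⟩ := (Nat.dvd_prime_pow Nat.prime_two).1 hdvd
  rw [hie] at h
  obtain ⟨j, hj⟩ := CubeRing.dvd_of_pow_sub_one_dvd h
  have hlt : n < i := by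
    refine (Nat.pow_lt_pow_iff_right (le_refl 2)).1 ?_
    rw [← hie, ← hn]
    refine lt_of_le_of_ne (Subgroup.card_le_of_le S.Z_le_cubeQ0) fun he => hrZ ?_
    exact (Subgroup.eq_of_le_of_card_ge S.Z_le_cubeQ0 he.ge) ▸ S.r_mem_cubeQ0
  have hn0 : 0 < n := by omega
  have hj2 : 2 ≤ j := by
    by_contra hj'
    have : i ≤ n := by rw [hj]; exact (Nat.mul_le_mul_left n (show j ≤ 1 by omega)).trans_eq (mul_one n)
    omega
  have hj3 : j ≤ 3 := Nat.le_of_mul_le_mul_left (by rw [← hj]; omega) hn0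
  interval_cases j
  · exact Or.inr (by rw [hie, hn, hj, ← pow_mul])
  · exact Or.inl (Subgroup.eq_of_le_of_card_ge S.cubeQ0_le (le_of_eq (by
      rw [hQ, hie, hn, hj, ← pow_mul])))

/-- The elements of `cubeQ0` when it has order `q ^ 2`. -/
theorem cubeQ0_cases (hrZ : S.r ∉ S.Z) (h0 : Nat.card S.cubeQ0 = Nat.card S.Z ^ 2) {y : G}
    (hy : y ∈ S.cubeQ0) : y ∈ S.Z ∨ ∃ k ∈ S.K, ∃ v ∈ S.Z, k * (S.r * v) * k⁻¹ = y := by
  classical
  let f : S.Z ⊕ (S.K × S.Z) → S.cubeQ0 := fun p => match p with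
    | Sum.inl z => ⟨z, S.Z_le_cubeQ0 z.2⟩
    | Sum.inr p => ⟨(p.1 : G) * (S.r * p.2) * (p.1 : G)⁻¹,
        S.conj_cubeQ0 p.1.2 (mul_mem S.r_mem_cubeQ0 (S.Z_le_cubeQ0 p.2.2))⟩
  have hf : Function.Injective f := by
    rintro (z | p) (z' | p') h
    · exact congrArg Sum.inl (Subtype.ext (congrArg Subtype.val h :))
    · exact absurd (congrArg Subtype.val h :) (fun e : (z : G) = _ =>
        S.conj_r_mul_not_mem hrZ p'.1.2 p'.2.2 (show (f (Sum.inr p') : G) ∈ S.Z from e ▸ z.2))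
    · exact absurd (congrArg Subtype.val h :) (fun e : _ = (z' : G) =>
        S.conj_r_mul_not_mem hrZ p.1.2 p.2.2 (show (f (Sum.inr p) : G) ∈ S.Z from e.symm ▸ z'.2))
    · obtain ⟨h1, h2⟩ := S.conj_r_mul_injective hrZ p.1.2 p'.1.2 p.2.2 p'.2.2
        (congrArg Subtype.val h)
      exact congrArg Sum.inr (Prod.ext (Subtype.ext h1) (Subtype.ext h2))
  have hcard : Nat.card (S.Z ⊕ (S.K × S.Z)) = Nat.card S.cubeQ0 := by
    rw [Nat.card_sum, Nat.card_prod, h0, ← S.card_K]; ring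
  obtain ⟨p, hp⟩ := (hf.bijective_of_nat_card_le hcard.ge).2 ⟨y, hy⟩
  rcases p with z | p
  · have h : (z : G) = y := congrArg Subtype.val hp
    exact Or.inl (h ▸ z.2)
  · exact Or.inr ⟨_, p.1.2, _, p.2.2, congrArg Subtype.val hp⟩

/-- `t` maps the points of `cubeQ0` into themselves when it has order `q ^ 2`. -/
theorem t_smul_cubeQ0 (hrZ : S.r ∉ S.Z) (hsq : ∀ x ∈ Q, x * x ∈ S.Z)
    (h0 : Nat.card S.cubeQ0 = Nat.card S.Z ^ 2) {y : G} (hy : y ∈ S.cubeQ0) :
    t • y • t • a = a ∨ ∃ g ∈ S.cubeQ0, t • y • t • a = g • t • a := by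
  rcases S.cubeQ0_cases hrZ h0 hy with hy | ⟨c, hc, v, hv, rfl⟩
  · by_cases hy1 : y = 1
    · left; rw [hy1, one_smul, t_b S.setup]
    obtain ⟨k, hk, rfl⟩ := S.trans S.s S.s_mem S.s_ne y hy hy1
    refine Or.inr ⟨k * S.r⁻¹ * k⁻¹, S.conj_cubeQ0 hk (inv_mem S.r_mem_cubeQ0), ?_⟩
    rw [S.t_smul_Z hk, mul_smul, mul_smul, inv_smul_eq_iff.2 (S.fix_b hk).symm]
  right
  suffices h : ∃ g ∈ S.cubeQ0, t • (S.r * v) • t • a = g • t • a by
    obtain ⟨g, hg, he⟩ := h
    refine ⟨c⁻¹ * g * c, S.conj_cubeQ0' hc hg, ?_⟩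
    rw [S.t_smul_conj hc, he, mul_smul, mul_smul, S.fix_b hc]
  by_cases hv1 : v = 1
  · refine ⟨S.r, S.r_mem_cubeQ0, ?_⟩
    rw [hv1, mul_one, ← mul_smul t S.r, ← mul_smul (t * S.r) t, S.special_r, mul_smul, mul_smul,
      fix_a S.setup (S.Z_le S.s_mem)]
  obtain ⟨k, hk, rfl⟩ := S.trans S.s S.s_mem S.s_ne v hv hv1
  set v := k⁻¹ * S.s * k with hvdef
  have hrr : S.r * S.r ∈ S.Z := hsq _ S.r_mem
  have hrr2 := S.Z_sq hrr
  set v'' := S.r⁻¹ * S.r⁻¹ * v with hv''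
  have hv''Z : v'' ∈ S.Z := S.Z.mul_mem (by
    rw [← mul_inv_rev]; exact S.Z.inv_mem hrr) hv
  have hinv : (S.r * v)⁻¹ = S.r * v'' := by
    rw [hv'', mul_inv_rev, inv_eq_of_mul_eq_one_right (S.Z_sq hv),
      S.central v hv _ (Q.inv_mem S.r_mem)]
    group
  by_cases hv''1 : v'' = 1
  · refine ⟨S.s, S.Z_le_cubeQ0 S.s_mem, ?_⟩
    have h1 : S.r * v = S.r⁻¹ := by
      rw [← inv_inv (S.r * v), hinv, hv''1, mul_one]
    rw [h1, ← mul_smul t S.r⁻¹, ← mul_smul (t * S.r⁻¹) t, S.special_r_inv, mul_smul, mul_smul,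
      inv_smul_eq_iff.2 (fix_a S.setup S.r_mem).symm]
  obtain ⟨k', hk', he'⟩ := S.trans S.s S.s_mem S.s_ne v'' hv''Z hv''1
  have h1 := S.t_smul_r_mul hk
  rw [← hvdef, hinv] at h1
  have h2 := S.t_smul_r_mul hk'
  rw [he', show (S.r * v'')⁻¹ = S.r * v by rw [← hinv, inv_inv]] at h2
  rw [h2] at h1
  have hne : (t • (S.r * v) • t • a) ≠ a := by
    intro h
    have hb : (S.r * v) • t • a = t • a := by
      have := congrArg (t • ·) h
      simpa [← mul_smul, ← mul_assoc, S.tt] using this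
    have h3 := eq_one_of_mem_D S.setup (Q.mul_mem S.r_mem (S.Z_le hv)) hb
    exact hrZ ((eq_inv_of_mul_eq_one_left h3) ▸ S.Z.inv_mem hv)
  obtain ⟨g, hg, hge⟩ := exists_mem_smul S.setup hne
  refine ⟨g, ?_, hge.symm⟩
  rw [← hge] at h1
  set c' := k⁻¹ * k'⁻¹ with hc'
  have hc'K : c' ∈ S.K := S.K.mul_mem (S.K.inv_mem hk) (S.K.inv_mem hk')
  set w := S.r * (k⁻¹ * S.r * k) with hw
  have hwQ0 : w ∈ S.cubeQ0 := mul_mem S.r_mem_cubeQ0 (S.conj_cubeQ0' hk S.r_mem_cubeQ0)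
  have heq : g = w * (c' * g * c'⁻¹) := by
    refine eq_of_smul_eq S.setup hg (Q.mul_mem (S.cubeQ0_le hwQ0) (S.conj_Q hc'K hg))
      (b_ne S.setup) (h1.trans ?_)
    rw [hw, hc', mul_smul _ (k⁻¹ * k'⁻¹ * g * _), mul_smul (k⁻¹ * k'⁻¹ * g),
      inv_smul_eq_iff.2 (S.fix_b hc'K).symm]
    simp only [← mul_smul]
    group
  have hc'1 : c' ≠ 1 := by
    intro hc1
    rw [hc1, one_mul, inv_one, mul_one, eq_comm, mul_eq_right, hw] at heq
    have hkk : k * k * S.r = S.r * (k * k) := by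
      have h3 : k⁻¹ * S.r * k = S.r⁻¹ := (inv_eq_of_mul_eq_one_right heq).symm
      have h4 : k⁻¹ * (k⁻¹ * S.r * k) * k = S.r := by
        rw [h3, show k⁻¹ * S.r⁻¹ * k = (k⁻¹ * S.r * k)⁻¹ by group, h3, inv_inv]
      calc k * k * S.r = k * k * (k⁻¹ * (k⁻¹ * S.r * k) * k) := by rw [h4]
        _ = _ := by group
    have hk2 : k * k = 1 := by
      by_contra hne2
      exact S.r_ne_one (S.fpf _ (S.K.mul_mem hk hk) hne2 _ S.r_mem hkk)
    have hk1 : k = 1 := eq_one_of_sq S.setup.odd_card (S.K_le hk) hk2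
    have hk'1 : k' = 1 := by
      rw [hc', hk1, inv_one, one_mul] at hc1
      exact inv_eq_one.1 hc1
    have e1 : v = S.s := by rw [hvdef, hk1]; group
    have e2 : v'' = S.s := by rw [← he', hk'1]; group
    rw [hv'', e1, ← mul_inv_rev, inv_mul_eq_iff_eq_mul] at e2
    refine hrZ ((S.mem_Z _).2 ⟨S.r_mem, ?_⟩)
    exact (mul_eq_right.1 e2.symm)
  let F : S.cubeQ0 → S.cubeQ0 := fun x =>
    ⟨(x : G) * (c' * x * c'⁻¹)⁻¹, mul_mem x.2 (inv_mem (S.conj_cubeQ0 hc'K x.2))⟩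
  have key : ∀ x ∈ Q, ∀ x' ∈ Q, x * (c' * x * c'⁻¹)⁻¹ = x' * (c' * x' * c'⁻¹)⁻¹ → x = x' := by
    intro x hx x' hx' h
    have h3 : c' * (x'⁻¹ * x) * c'⁻¹ = x'⁻¹ * x := by
      calc c' * (x'⁻¹ * x) * c'⁻¹ = x'⁻¹ * (x' * (c' * x' * c'⁻¹)⁻¹) * (c' * x * c'⁻¹) := by group
        _ = x'⁻¹ * (x * (c' * x * c'⁻¹)⁻¹) * (c' * x * c'⁻¹) := by rw [h]
        _ = _ := by group
    exact (inv_mul_eq_one.1 (S.fpf c' hc'K hc'1 _ (Q.mul_mem (Q.inv_mem hx') hx)
      (mul_inv_eq_iff_eq_mul.1 h3))).symm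
  have hF : Function.Injective F := fun x x' h =>
    Subtype.ext (key _ (S.cubeQ0_le x.2) _ (S.cubeQ0_le x'.2) (congrArg Subtype.val h))
  obtain ⟨x, hx⟩ := Finite.injective_iff_surjective.1 hF ⟨w, hwQ0⟩
  have hx' : (x : G) * (c' * x * c'⁻¹)⁻¹ = w := congrArg Subtype.val hx
  rw [key g hg x (S.cubeQ0_le x.2) (by rw [hx']; nth_rw 1 [heq]; group)]
  exact x.2

/-- The case in which `cubeQ0` is proper. -/
theorem false_of_cubeQ0_sq (hrZ : S.r ∉ S.Z) (hsq : ∀ x ∈ Q, x * x ∈ S.Z)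
    (hQ : Nat.card Q = Nat.card S.Z ^ 3) (h0 : Nat.card S.cubeQ0 = Nat.card S.Z ^ 2) : False := by
  classical
  haveI := S.finite_points'
  set O : Set Ω := insert a ((fun y : G => y • t • a) '' S.cubeQ0) with hO
  have hta : ∀ x ∈ O, t • x ∈ O := by
    rintro x (rfl | ⟨y, hy, rfl⟩)
    · exact Or.inr ⟨1, one_mem _, one_smul _ _⟩
    · rcases S.t_smul_cubeQ0 hrZ hsq h0 hy with h | ⟨g, hg, h⟩
      · exact Or.inl h
      · exact Or.inr ⟨g, hg, h.symm⟩
  have hQ0O : ∀ y ∈ S.cubeQ0, ∀ x ∈ O, y • x ∈ O := by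
    rintro y hy x (rfl | ⟨y', hy', rfl⟩)
    · exact Or.inl (fix_a S.setup (S.cubeQ0_le hy))
    · exact Or.inr ⟨y * y', mul_mem hy hy', mul_smul _ _ _⟩
  have hOcard : Nat.card O = Nat.card S.Z ^ 2 + 1 := by
    rw [← h0, Nat.card_coe_set_eq, hO, Set.ncard_insert_of_notMem (s := (fun y : G => y • t • a) '' S.cubeQ0)
      (fun ⟨y, hy, h⟩ => smul_ne_a S.setup (S.cubeQ0_le hy) (b_ne S.setup) h) (Set.toFinite _),
      Set.InjOn.ncard_image, ← Nat.card_coe_set_eq]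
    · rfl
    · exact fun y hy y' hy' h =>
        eq_of_smul_eq S.setup (S.cubeQ0_le hy) (S.cubeQ0_le hy') (b_ne S.setup) h
  let f : Option S.cubeQ0 × {z : S.Z // z ≠ 1} → G := fun p =>
    p.1.elim ((p.2 : S.Z) : G) fun y => (y : G) * t * ((p.2 : S.Z) : G) * t * (y : G)⁻¹
  let c : Option S.cubeQ0 → Ω := fun o => o.elim a fun y => (y : G) • t • a
  have hcO : ∀ o, c o ∈ O := by
    rintro (_ | y)
    · exact Or.inl rfl
    · exact Or.inr ⟨y, y.2, rfl⟩
  have hspec : ∀ p, f p ≠ 1 ∧ f p * f p = 1 ∧ (∀ x ∈ O, f p • x ∈ O) ∧ f p • c p.1 = c p.1 := by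
    rintro ⟨o, z⟩
    have hz1 : ((z : S.Z) : G) ≠ 1 := fun h => z.2 (Subtype.ext h)
    have hz2 := S.Z_sq (z : S.Z).2
    rcases o with _ | y
    · exact ⟨hz1, hz2, fun x hx => hQ0O _ (S.Z_le_cubeQ0 (z : S.Z).2) x hx,
        fix_a S.setup (S.Z_le (z : S.Z).2)⟩
    · have h := conj_invol S.setup (g := (y : G) * t) ⟨hz1, hz2⟩
      have he : (y : G) * t * ((z : S.Z) : G) * t * (y : G)⁻¹ =
          (y : G) * t * ((z : S.Z) : G) * ((y : G) * t)⁻¹ := by
        rw [mul_inv_rev, S.ti]; group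
      refine ⟨?_, ?_, fun x hx => ?_, ?_⟩
      · show (y : G) * t * ((z : S.Z) : G) * t * (y : G)⁻¹ ≠ 1
        rw [he]; exact h.1
      · show (y : G) * t * ((z : S.Z) : G) * t * (y : G)⁻¹ *
          ((y : G) * t * ((z : S.Z) : G) * t * (y : G)⁻¹) = 1
        rw [he]; exact h.2
      · show ((y : G) * t * ((z : S.Z) : G) * t * (y : G)⁻¹) • x ∈ O
        simp only [mul_smul]
        exact hQ0O _ y.2 _ (hta _ (hQ0O _ (S.Z_le_cubeQ0 (z : S.Z).2) _
          (hta _ (hQ0O _ (inv_mem y.2) _ hx))))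
      · show ((y : G) * t * ((z : S.Z) : G) * t * (y : G)⁻¹) • (y : G) • t • a = _
        simp only [mul_smul, inv_smul_smul, t_b S.setup, fix_a S.setup (S.Z_le (z : S.Z).2)]
        rfl
  have hcinj : Function.Injective c := by
    rintro (_ | y) (_ | y') h
    · rfl
    · exact absurd h.symm (smul_ne_a S.setup (S.cubeQ0_le y'.2) (b_ne S.setup))
    · exact absurd h (smul_ne_a S.setup (S.cubeQ0_le y.2) (b_ne S.setup))
    · exact congrArg some (Subtype.ext
        (eq_of_smul_eq S.setup (S.cubeQ0_le y.2) (S.cubeQ0_le y'.2) (b_ne S.setup) h))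
  have hfinj : Function.Injective f := by
    rintro ⟨o, z⟩ ⟨o', z'⟩ h
    obtain rfl : o = o' := by
      refine hcinj (fix_unique S.setup (hspec (o, z)).1 (hspec (o, z)).2.1 (hspec (o, z)).2.2.2 ?_)
      rw [h]; exact (hspec (o', z')).2.2.2
    rcases o with _ | y
    · exact Prod.ext rfl (Subtype.ext (Subtype.ext h))
    · exact Prod.ext rfl (Subtype.ext (Subtype.ext
        (mul_left_cancel (mul_right_cancel (mul_right_cancel h)))))
  have hI : Nat.card (Set.range f) = (Nat.card S.Z ^ 2 + 1) * (Nat.card S.Z - 1) := by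
    rw [Nat.card_range_of_injective hfinj, Nat.card_prod, Finite.card_option, h0]
    congr 1
    rw [← Nat.card_congr (Equiv.optionSubtypeNe (1 : S.Z)), Finite.card_option, Nat.add_sub_cancel]
  obtain ⟨n, hn2, hn⟩ := S.cube_exists_pow
  have hq4 := S.four_le
  obtain ⟨d, hd⟩ : ∃ d, d ∉ O := by
    by_contra hcon
    push Not at hcon
    have h := card_points S.setup
    rw [← Nat.card_univ, ← Set.eq_univ_of_forall hcon, hOcard, hQ] at h
    nlinarith
  have hco : (Nat.card O).Coprime (Nat.card S.K) := by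
    rw [hOcard, ← S.card_K]
    obtain ⟨m, hm⟩ : Odd (Nat.card S.K) :=
      S.setup.odd_card.of_dvd_nat (Subgroup.card_dvd_of_le S.K_le)
    rw [show (Nat.card S.K + 1) ^ 2 + 1 = 2 + Nat.card S.K * (Nat.card S.K + 2) by ring,
      Nat.coprime_add_mul_left_left, hm]
    simp
  have h := S.card_add_card_le O hco (Set.range f) (by
    rintro _ ⟨p, rfl⟩
    exact ⟨(hspec p).1, (hspec p).2.1, (hspec p).2.2.1, _, hcO _, (hspec p).2.2.2⟩) hd
  rw [hOcard, hI, hQ] at h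
  obtain ⟨q, hq⟩ : ∃ q, Nat.card S.Z = q + 1 := ⟨Nat.card S.Z - 1, by omega⟩
  rw [hq] at h hq4
  simp only [Nat.add_sub_cancel] at h
  nlinarith

omit [FaithfulSMul G Ω] in
/-- The centralised part of `K` acts regularly on the centralised involutions. -/
theorem card_K_cent {X : Subgroup G} (hX : X ≤ S.V) :
    Nat.card ↥(S.K ⊓ Cent(X)) + 1 = Nat.card ↥(S.Z ⊓ Cent(X)) := by
  classical
  have hne : ∀ k : G, k⁻¹ * S.s * k ≠ 1 := fun k h => S.s_ne (by
    calc S.s = k * (k⁻¹ * S.s * k) * k⁻¹ := by group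
      _ = 1 := by rw [h]; group)
  let e : Option ↥(S.K ⊓ Cent(X)) → ↥(S.Z ⊓ Cent(X)) := fun o => match o with
    | none => 1
    | some k => ⟨(k : G)⁻¹ * S.s * k, S.conj_Z' k.2.1 S.s_mem,
        Subgroup.mul_mem _ (Subgroup.mul_mem _ (Subgroup.inv_mem _ k.2.2) (S.s_mem_cent hX)) k.2.2⟩
  have he : Function.Bijective e := by
    constructor
    · rintro (_ | k) (_ | k') h
      · rfl
      · exact absurd (congrArg Subtype.val h).symm (hne k')
      · exact absurd (congrArg Subtype.val h) (hne k)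
      · exact congrArg some (Subtype.ext (S.conj_s_injective k.2.1 k'.2.1
          (congrArg Subtype.val h)))
    · rintro ⟨v, hv, hvC⟩
      by_cases hv1 : v = 1
      · exact ⟨none, Subtype.ext hv1.symm⟩
      obtain ⟨k, hk, hkv⟩ := S.trans S.s S.s_mem S.s_ne v hv hv1
      have hkC : k ∈ Cent(X) := Subgroup.mem_centralizer_iff.2 fun x hx => by
        obtain ⟨hxD, -⟩ := S.mem_V.1 (hX hx)
        refine mul_inv_eq_iff_eq_mul.1 (S.conj_s_injective (S.K_normal x hxD k hk) hk ?_)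
        rw [hkv]
        calc (x * k * x⁻¹)⁻¹ * S.s * (x * k * x⁻¹)
            = x * (k⁻¹ * (x⁻¹ * (S.s * x)) * k) * x⁻¹ := by group
          _ = x * v * x⁻¹ := by rw [← S.V_comm_s (hX hx), inv_mul_cancel_left, hkv]
          _ = v := mul_inv_eq_iff_eq_mul.2 (Subgroup.mem_centralizer_iff.1 hvC x hx)
      exact ⟨some ⟨k, hk, hkC⟩, Subtype.ext hkv⟩
  rw [← Nat.card_congr (Equiv.ofBijective e he), Finite.card_option]

/-- A kernel with all components in `K` has order `q` or `q ^ 2`. -/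
theorem card_of_split (hsplit : S.IsSplit) :
    Nat.card Q = Nat.card S.Z ∨ Nat.card Q = Nat.card S.Z ^ 2 := by
  classical
  by_cases hna : ∃ x ∈ Q, ∃ y ∈ Q, x * y ≠ y * x
  · right
    haveI := S.finite_points'
    haveI := Fintype.ofFinite Ω
    haveI := Fintype.ofFinite S.L
    haveI := S.isSimpleGroup_L
    have hab : a ≠ t • a := (b_ne S.setup).symm
    have hle : Q.subgroupOf S.L ≤ stabilizer S.L a := fun x hx => S.setup.le hx
    obtain ⟨hcard, hfix⟩ := CfsgLib.Zass.kernel_of_regular hle S.regular_L hab.symm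
    obtain ⟨x, hx, y, hy, hne⟩ := hna
    have hU2 : IsPGroup 2 ↥(Q.subgroupOf S.L) :=
      S.isPGroup_Q.of_equiv (Subgroup.subgroupOfEquivOfLe S.Q_le_L).symm
    obtain ⟨g₀, α, e, C⟩ := CfsgLib.SuzTop.exists_cfg (S.zassenhaus_L hsplit) hab hle hcard hfix
      S.normal_L S.regular_L hU2
      ⟨⟨⟨x, S.Q_le_L hx⟩, hx⟩, ⟨⟨y, S.Q_le_L hy⟩, hy⟩, fun h =>
        hne (congrArg (fun z : ↥(Q.subgroupOf S.L) => ((z : S.L) : G)) h)⟩
    obtain ⟨hh, -⟩ := C.index_eq_q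
    have he : e = Nat.card S.K := by
      rw [← C.card_pair]
      exact Nat.card_congr
        { toFun := fun z => ⟨((z : S.L) : G), S.mem_L_D hsplit (z : S.L).2 z.2.1 z.2.2⟩
          invFun := fun k => ⟨⟨k, S.K_le_L k.2⟩, (S.K_le k.2).1, (S.K_le k.2).2⟩
          left_inv := fun _ => rfl
          right_inv := fun _ => rfl }
    rw [← Nat.card_congr (Subgroup.subgroupOfEquivOfLe S.Q_le_L).toEquiv, hh, he, S.card_K]
  · left
    push Not at hna
    exact Nat.card_congr (MulEquiv.subgroupCongr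
      (le_antisymm (S.le_Z_of_comm hsplit hna) S.Z_le)).toEquiv

set_option maxHeartbeats 1600000 in
/-- The case in which `cubeQ0` is `Q`. -/
theorem false_of_cubeQ0_eq (hrZ : S.r ∉ S.Z) (hsq : ∀ x ∈ Q, x * x ∈ S.Z)
    (hcomm : ∀ x ∈ Q, ∀ y ∈ Q, x * y * x⁻¹ * y⁻¹ ∈ S.Z)
    (hQ : Nat.card Q = Nat.card S.Z ^ 3) (h0 : S.cubeQ0 = Q) : False := by
  classical
  obtain ⟨n, hn2, hn⟩ := S.cube_exists_pow
  set Zq : Subgroup Q := S.Z.subgroupOf Q with hZq
  haveI hZn : Zq.Normal := ⟨fun z hz g => by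
    show (g : G) * z * (g : G)⁻¹ ∈ S.Z
    rw [← S.central (z : G) hz _ g.2, mul_inv_cancel_right]; exact hz⟩
  letI : CommGroup (Q ⧸ Zq) :=
    { (inferInstance : Group (Q ⧸ Zq)) with
      mul_comm := fun u w => by
        obtain ⟨x, rfl⟩ := QuotientGroup.mk_surjective u
        obtain ⟨y, rfl⟩ := QuotientGroup.mk_surjective w
        rw [← QuotientGroup.mk_mul, ← QuotientGroup.mk_mul, QuotientGroup.eq]
        show ((x : G) * y)⁻¹ * (y * x) ∈ S.Z
        have := hcomm _ (Q.inv_mem y.2) _ (Q.inv_mem x.2)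
        rw [show ((x : G) * y)⁻¹ * (y * x) = (y : G)⁻¹ * (x : G)⁻¹ * ((y : G)⁻¹)⁻¹ * ((x : G)⁻¹)⁻¹
          by group]
        exact this }
  let π : Q →* Q ⧸ Zq := QuotientGroup.mk' Zq
  have hπZ : ∀ (z : G) (hz : z ∈ S.Z), π ⟨z, S.Z_le hz⟩ = 1 := fun z hz =>
    (QuotientGroup.eq_one_iff _).2 hz
  -- conjugation on the quotient
  have hDZ : ∀ d ∈ D[a, t], ∀ z ∈ S.Z, d * z * d⁻¹ ∈ S.Z := fun d hd z hz =>
    (S.mem_Z _).2 ⟨S.setup.conj_mem d hd.1 z (S.Z_le hz), by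
      rw [show d * z * d⁻¹ * (d * z * d⁻¹) = d * (z * z) * d⁻¹ by group, S.Z_sq hz]; group⟩
  let cQ : ↥(D[a, t]) → Q →* Q := fun d =>
    { toFun := fun x => ⟨(d : G) * x * (d : G)⁻¹, S.setup.conj_mem _ d.2.1 _ x.2⟩
      map_one' := Subtype.ext (by simp)
      map_mul' := fun x y => Subtype.ext (by simp [mul_assoc]) }
  let cE : ↥(D[a, t]) → (Q ⧸ Zq →* Q ⧸ Zq) := fun d =>
    QuotientGroup.lift Zq (π.comp (cQ d)) fun z hz =>
      (QuotientGroup.eq_one_iff _).2 (hDZ d d.2 _ hz)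
  have hcE : ∀ d x, cE d (π x) = π (cQ d x) := fun d x => rfl
  let φ : S.K →* AddMonoid.End (Additive (Q ⧸ Zq)) :=
    { toFun := fun k => MonoidHom.toAdditive (cE ⟨k, S.K_le k.2⟩)
      map_one' := AddMonoidHom.ext fun w => by
        obtain ⟨x, hx⟩ := QuotientGroup.mk_surjective w.toMul
        show Additive.ofMul (cE _ w.toMul) = w
        rw [← hx, show ((x : Q ⧸ Zq)) = π x from rfl, hcE,
          show cQ _ x = x from Subtype.ext (by simp [cQ]), show π x = w.toMul from hx]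
        rfl
      map_mul' := fun k k' => AddMonoidHom.ext fun w => by
        obtain ⟨x, hx⟩ := QuotientGroup.mk_surjective w.toMul
        show Additive.ofMul (cE _ w.toMul) = Additive.ofMul (cE _ (cE _ w.toMul))
        rw [← hx, show ((x : Q ⧸ Zq)) = π x from rfl, hcE, hcE, hcE]
        refine congrArg (fun y => Additive.ofMul (π y)) (Subtype.ext ?_)
        simp [cQ, mul_assoc] }
  have hφ : ∀ (k : S.K) (x : Q), φ k (Additive.ofMul (π x)) =
      Additive.ofMul (π (cQ ⟨k, S.K_le k.2⟩ x)) := fun _ _ => rfl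
  haveI : Finite (Additive (Q ⧸ Zq)) := inferInstanceAs (Finite (Q ⧸ Zq))
  have hsurjE : ∀ w : Additive (Q ⧸ Zq), ∃ x : Q, Additive.ofMul (π x) = w := fun w =>
    (QuotientGroup.mk'_surjective Zq w.toMul).imp fun x hx => congrArg Additive.ofMul hx
  have h2E : ∀ w : Additive (Q ⧸ Zq), w + w = 0 := by
    intro w
    obtain ⟨x, rfl⟩ := hsurjE w
    show Additive.ofMul (π x * π x) = 0
    rw [← map_mul, show π (x * x) = 1 from (QuotientGroup.eq_one_iff _).2 (hsq _ x.2)]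
    rfl
  have hcardZq : Nat.card Zq = 2 ^ n :=
    (Nat.card_congr (Subgroup.subgroupOfEquivOfLe S.Z_le).toEquiv).trans hn
  have hcardE : Nat.card (Additive (Q ⧸ Zq)) = (2 ^ n) ^ 2 := by
    have h := Subgroup.card_eq_card_quotient_mul_card_subgroup Zq
    rw [hQ, hn, hcardZq] at h
    show Nat.card (Q ⧸ Zq) = _
    exact Nat.eq_of_mul_eq_mul_right (by positivity : 0 < 2 ^ n) (h.symm.trans (by ring))
  have hfree : ∀ (k : S.K) (w : Additive (Q ⧸ Zq)), φ k w = w → k = 1 ∨ w = 0 := by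
    intro k w hw
    obtain ⟨x, rfl⟩ := hsurjE w
    rw [hφ] at hw
    by_cases hk : (k : G) = 1
    · exact Or.inl (Subtype.ext hk)
    refine Or.inr (congrArg Additive.ofMul ((QuotientGroup.eq_one_iff _).2 ?_))
    exact S.mem_Z_of_comm k.2 hk x.2 ((QuotientGroup.eq (s := Zq)).1 (Additive.ofMul.injective hw).symm)
  set rE : Additive (Q ⧸ Zq) := Additive.ofMul (π ⟨S.r, S.r_mem⟩) with hrE
  have hgen : CubeRing.Gen φ rE := by
    intro M hM hrM
    rw [eq_top_iff]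
    rintro w -
    obtain ⟨⟨x, hx⟩, rfl⟩ := hsurjE w
    have hx0 : x ∈ S.cubeQ0 := h0.symm ▸ hx
    induction hx0 using Subgroup.closure_induction with
    | mem y hy =>
      rcases hy with hy | ⟨k, hk, rfl⟩
      · rw [show π ⟨y, hx⟩ = 1 from hπZ y hy]; exact M.zero_mem
      · exact hM ⟨k, hk⟩ _ hrM
    | one =>
      rw [show π ⟨1, hx⟩ = 1 from map_one π]; exact M.zero_mem
    | mul u u' hu hu' ih ih' =>
      have hu1 : u ∈ Q := h0 ▸ hu
      have hu2 : u' ∈ Q := h0 ▸ hu'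
      rw [show π ⟨u * u', hx⟩ = π ⟨u, hu1⟩ * π ⟨u', hu2⟩ from map_mul π ⟨u, hu1⟩ ⟨u', hu2⟩]
      exact M.add_mem (ih hu1) (ih' hu2)
    | inv u hu ih =>
      have hu1 : u ∈ Q := h0 ▸ hu
      rw [show π ⟨u⁻¹, hx⟩ = (π ⟨u, hu1⟩)⁻¹ from map_inv π ⟨u, hu1⟩]
      exact M.neg_mem (ih hu1)
  obtain ⟨e₁, e₂, he₁, he₂, hne12, hfixE⟩ := CubeRing.exists_split h2E hcardE (S.cube_card_K hn)
    hfree hn2 (fun k k' => Subtype.ext (S.K_comm k.2 k'.2)) hgen
  set X := S.V with hX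
  have hXX : X ≤ S.V := le_rfl
  -- the two parts of `r` are centralised by `V`
  have hfixe : ∀ v : ↥(D[a, t]), (v : G) ∈ S.V →
      MonoidHom.toAdditive (cE v) e₁ = e₁ ∧ MonoidHom.toAdditive (cE v) e₂ = e₂ := by
    intro v hv
    have hvi : ∀ (w : ↥(D[a, t])) (y : Q ⧸ Zq), cE w⁻¹ (cE w y) = y := by
      intro w y
      obtain ⟨x, rfl⟩ := QuotientGroup.mk'_surjective Zq y
      show π (cQ w⁻¹ (cQ w x)) = π x
      exact congrArg π (Subtype.ext (by simp [cQ, mul_assoc]))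
    let α : Additive (Q ⧸ Zq) ≃+ Additive (Q ⧸ Zq) := MulEquiv.toAdditive
      { toFun := cE v
        invFun := cE v⁻¹
        left_inv := hvi v
        right_inv := fun y => by simpa using hvi v⁻¹ y
        map_mul' := map_mul (cE v) }
    have hit : ∀ (m : ℕ) (x : Q), (⇑α)^[m] (Additive.ofMul (π x)) =
        Additive.ofMul (π (cQ (v ^ m) x)) := by
      intro m
      induction m with
      | zero => intro x; exact congrArg (fun y => Additive.ofMul (π y)) (Subtype.ext (by simp [cQ]))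
      | succ m ih =>
        intro x
        rw [Function.iterate_succ_apply', ih]
        show Additive.ofMul (cE v (π _)) = _
        rw [hcE]
        refine congrArg (fun y => Additive.ofMul (π y)) (Subtype.ext ?_)
        show (v : G) * ((cQ (v ^ m) x : Q) : G) * (v : G)⁻¹ = _
        simp [cQ, pow_succ', mul_assoc]
    refine hfixE α (orderOf v) (S.setup.odd_card.of_dvd_nat (orderOf_dvd_natCard v)) ?_ ?_ ?_
    · funext w
      obtain ⟨x, rfl⟩ := hsurjE w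
      rw [hit, pow_orderOf_eq_one]
      exact congrArg (fun y => Additive.ofMul (π y)) (Subtype.ext (by simp [cQ]))
    · show Additive.ofMul (π (cQ v ⟨S.r, S.r_mem⟩)) = rE
      exact congrArg (fun y => Additive.ofMul (π y))
        (Subtype.ext (mul_inv_eq_iff_eq_mul.2 (S.V_comm_r hv)))
    · intro k
      refine ⟨⟨(v : G) * k * (v : G)⁻¹, S.K_normal v v.2 k k.2⟩, fun w => ?_⟩
      obtain ⟨x, rfl⟩ := hsurjE w
      exact congrArg (fun y => Additive.ofMul (π y)) (Subtype.ext (by simp [cQ, mul_assoc]))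
  -- centralised cosets contain centralised elements
  have hlift : ∀ x : Q, (∀ v : ↥(D[a, t]), (v : G) ∈ S.V → π (cQ v x) = π x) →
      ∃ x' : Q, (x' : G) ∈ Cent(X) ∧ π x' = π x := by
    intro x hx
    letI : CommGroup S.Z :=
      { (inferInstance : Group S.Z) with
        mul_comm := fun u w => Subtype.ext (S.central _ u.2 _ (S.Z_le w.2)) }
    haveI := Fintype.ofFinite ↥S.V
    let c : S.V → S.Z := fun v => ⟨(x : G)⁻¹ * ((v : G) * x * (v : G)⁻¹),
      (QuotientGroup.eq (s := Zq)).1 (hx ⟨v, v.2.1⟩ v.2).symm⟩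
    let z : S.Z := ∏ v : S.V, c v
    refine ⟨x * ⟨z, S.Z_le z.2⟩, ?_, by rw [map_mul, hπZ _ z.2, mul_one]⟩
    refine Subgroup.mem_centralizer_iff.2 fun u hu => ?_
    let cu : S.Z →* S.Z :=
      { toFun := fun w => ⟨u * w * u⁻¹, hDZ u (S.mem_V.1 hu).1 _ w.2⟩
        map_one' := Subtype.ext (by simp)
        map_mul' := fun w w' => Subtype.ext (by simp [mul_assoc]) }
    have hcc : ∀ v : S.V, c (⟨u, hu⟩ * v) = c ⟨u, hu⟩ * cu (c v) := fun v =>
      Subtype.ext (by simp [c, cu, mul_assoc])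
    have hz : z = c ⟨u, hu⟩ * cu z := by
      have h1 : z = ∏ v : S.V, c (⟨u, hu⟩ * v) :=
        (Equiv.prod_comp (Equiv.mulLeft (⟨u, hu⟩ : S.V)) c).symm
      have hVodd : Odd (Nat.card S.V) :=
        S.setup.odd_card.of_dvd_nat (Subgroup.card_dvd_of_le fun w hw => (S.mem_V.1 hw).1)
      obtain ⟨i, hi⟩ := hVodd
      conv_lhs => rw [h1]
      rw [Finset.prod_congr rfl fun v _ => hcc v, Finset.prod_mul_distrib, ← map_prod,
        Finset.prod_const, Finset.card_univ, ← Nat.card_eq_fintype_card, hi, pow_succ, pow_mul,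
        show c ⟨u, hu⟩ ^ 2 = 1 from Subtype.ext (by
          rw [SubmonoidClass.coe_pow, pow_two]; exact S.Z_sq (c ⟨u, hu⟩).2), one_pow, one_mul]
    have hz' : (z : G) = (x : G)⁻¹ * (u * x * u⁻¹) * (u * z * u⁻¹) := congrArg Subtype.val hz
    show u * ((x : G) * z) = (x : G) * z * u
    nth_rw 2 [hz']
    group
  have hlifte : ∀ e : Additive (Q ⧸ Zq),
      (∀ v : ↥(D[a, t]), (v : G) ∈ S.V → MonoidHom.toAdditive (cE v) e = e) →
      ∃ x : Q, (x : G) ∈ Cent(X) ∧ Additive.ofMul (π x) = e := by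
    intro e he
    obtain ⟨x, rfl⟩ := hsurjE e
    obtain ⟨x', hx', he'⟩ := hlift x fun v hv => Additive.ofMul.injective (he v hv)
    exact ⟨x', hx', congrArg Additive.ofMul he'⟩
  obtain ⟨y₁, hy₁, hy₁e⟩ := hlifte e₁ fun v hv => (hfixe v hv).1
  obtain ⟨y₂, hy₂, hy₂e⟩ := hlifte e₂ fun v hv => (hfixe v hv).2
  set z₀ := Nat.card ↥(S.Z ⊓ Cent(X)) with hz₀
  set k₀ := Nat.card ↥(S.K ⊓ Cent(X)) with hk₀
  have hK0 : k₀ + 1 = z₀ := S.card_K_cent hXX
  have hconjC : ∀ k : ↥(S.K ⊓ Cent(X)), ∀ y : G, y ∈ Cent(X) →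
      (k : G) * y * (k : G)⁻¹ ∈ Cent(X) := fun k y hy =>
    Subgroup.mul_mem _ (Subgroup.mul_mem _ k.2.2 hy) (Subgroup.inv_mem _ k.2.2)
  -- at least `2 q₀ - 1` centralised cosets
  let g : (Option (↥(S.K ⊓ Cent(X)) ⊕ ↥(S.K ⊓ Cent(X)))) × ↥(S.Z ⊓ Cent(X)) → ↥(Q ⊓ Cent(X)) :=
    fun p => match p.1 with
    | none => ⟨(p.2 : G), S.Z_le p.2.2.1, p.2.2.2⟩
    | some (Sum.inl k) => ⟨(k : G) * y₁ * (k : G)⁻¹ * p.2,
        Q.mul_mem (S.conj_Q k.2.1 y₁.2) (S.Z_le p.2.2.1),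
        Subgroup.mul_mem _ (hconjC k _ hy₁) p.2.2.2⟩
    | some (Sum.inr k) => ⟨(k : G) * y₂ * (k : G)⁻¹ * p.2,
        Q.mul_mem (S.conj_Q k.2.1 y₂.2) (S.Z_le p.2.2.1),
        Subgroup.mul_mem _ (hconjC k _ hy₂) p.2.2.2⟩
  have hcls : ∀ p, Additive.ofMul (π ⟨(g p : G), (g p).2.1⟩) =
      p.1.elim 0 (Sum.elim (fun k => φ ⟨k, k.2.1⟩ e₁) fun k => φ ⟨k, k.2.1⟩ e₂) := by
    rintro ⟨_ | (k | k), z⟩
    · exact congrArg Additive.ofMul (hπZ _ z.2.1)
    · rw [← hy₁e]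
      show _ = Additive.ofMul (π (cQ _ y₁))
      refine congrArg Additive.ofMul (QuotientGroup.eq.2 ?_)
      show ((k : G) * y₁ * (k : G)⁻¹ * z)⁻¹ * ((k : G) * y₁ * (k : G)⁻¹) ∈ S.Z
      rw [mul_inv_rev, inv_mul_cancel_right]
      exact S.Z.inv_mem z.2.1
    · rw [← hy₂e]
      show _ = Additive.ofMul (π (cQ _ y₂))
      refine congrArg Additive.ofMul (QuotientGroup.eq.2 ?_)
      show ((k : G) * y₂ * (k : G)⁻¹ * z)⁻¹ * ((k : G) * y₂ * (k : G)⁻¹) ∈ S.Z
      rw [mul_inv_rev, inv_mul_cancel_right]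
      exact S.Z.inv_mem z.2.1
  have hφinj : ∀ (k k' : S.K) (e : Additive (Q ⧸ Zq)), e ≠ 0 → φ k e = φ k' e → k = k' := by
    intro k k' e he h
    have h1 : φ (k'⁻¹ * k) e = e := by
      rw [map_mul, show (φ k'⁻¹ * φ k) e = φ k'⁻¹ (φ k e) from rfl, h,
        show φ k'⁻¹ (φ k' e) = (φ k'⁻¹ * φ k') e from rfl, ← map_mul, inv_mul_cancel, map_one]
      rfl
    exact (inv_mul_eq_one.1 ((hfree _ _ h1).resolve_right he)).symm
  have hφ0 : ∀ (k : S.K) (e : Additive (Q ⧸ Zq)), φ k e = 0 → e = 0 := by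
    intro k e h
    rw [show e = (φ k⁻¹ * φ k) e by rw [← map_mul, inv_mul_cancel, map_one]; rfl]
    show φ k⁻¹ (φ k e) = 0
    rw [h, map_zero]
  have hne12' : ∀ k k' : S.K, φ k e₁ ≠ φ k' e₂ := fun k k' h => hne12 (k'⁻¹ * k) (by
    rw [map_mul, show (φ k'⁻¹ * φ k) e₁ = φ k'⁻¹ (φ k e₁) from rfl, h,
      show φ k'⁻¹ (φ k' e₂) = (φ k'⁻¹ * φ k') e₂ from rfl, ← map_mul, inv_mul_cancel, map_one]
    rfl)
  have hginj : Function.Injective g := by
    rintro ⟨o, z⟩ ⟨o', z'⟩ h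
    have h1 := hcls (o, z)
    rw [show π ⟨(g (o, z) : G), (g (o, z)).2.1⟩ = π ⟨(g (o', z') : G), (g (o', z')).2.1⟩ by
      rw [h], hcls (o', z')] at h1
    obtain rfl : o = o' := by
      rcases o with _ | (k | k) <;> rcases o' with _ | (k' | k') <;>
        simp only [Option.elim_none, Option.elim_some, Sum.elim_inl, Sum.elim_inr] at h1
      · rfl
      · exact absurd (hφ0 _ _ h1) he₁
      · exact absurd (hφ0 _ _ h1) he₂
      · exact absurd (hφ0 _ _ h1.symm) he₁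
      · exact congrArg (fun k => some (Sum.inl k))
          (Subtype.ext (congrArg Subtype.val (hφinj _ _ _ he₁ h1).symm :))
      · exact absurd h1.symm (hne12' _ _)
      · exact absurd (hφ0 _ _ h1.symm) he₂
      · exact absurd h1 (hne12' _ _)
      · exact congrArg (fun k => some (Sum.inr k))
          (Subtype.ext (congrArg Subtype.val (hφinj _ _ _ he₂ h1).symm :))
    rcases o with _ | (k | k)
    · exact Prod.ext rfl (Subtype.ext (congrArg Subtype.val h :))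
    · exact Prod.ext rfl (Subtype.ext (mul_left_cancel (congrArg Subtype.val h :)))
    · exact Prod.ext rfl (Subtype.ext (mul_left_cancel (congrArg Subtype.val h :)))
  have hlow : (2 * k₀ + 1) * z₀ ≤ Nat.card ↥(Q ⊓ Cent(X)) := by
    refine le_of_eq_of_le ?_ (Nat.card_le_card_of_injective g hginj)
    rw [Nat.card_prod, Finite.card_option, Nat.card_sum, two_mul]
  have hcardQ' := S.centImage_inj (Ω := Ω) hXX (H := Q) le_rfl
  have hcardZ' := S.centImage_inj (Ω := Ω) hXX (H := S.Z) S.Z_le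
  have hDcent : ∀ d ∈ D[a, t], d ∈ Cent(X) → ∃ k ∈ S.K, ∃ x ∈ X, d = k * x := fun d hd hdC => by
    obtain ⟨v, hv, -, k, hk, -, rfl⟩ := S.cent_D_split hXX hd hdC
    exact ⟨v * k * v⁻¹, S.K_normal v (S.mem_V.1 hv).1 k hk, v, hv, (inv_mul_cancel_right _ _).symm⟩
  by_cases h4 : 4 ≤ z₀
  · have hh := (S.centData (Ω := Ω) hXX h4).card_of_split (S.centData_isSplit hXX h4 hDcent)
    rw [hcardQ', show Nat.card (S.centData (Ω := Ω) hXX h4).Z = z₀ from hcardZ'] at hh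
    rcases hh with hh | hh <;> rw [hh] at hlow <;> nlinarith
  -- only one centralised involution
  have hz2 : z₀ = 2 := by
    have h1 : z₀ ∣ 2 ^ n := hn ▸ Subgroup.card_dvd_of_le (inf_le_left : S.Z ⊓ Cent(X) ≤ S.Z)
    obtain ⟨i, -, hi⟩ := (Nat.dvd_prime_pow Nat.prime_two).1 h1
    have hk1 : 1 ≤ k₀ := Nat.card_pos
    rcases i with _ | _ | i
    · rw [pow_zero] at hi; omega
    · simpa using hi
    · have : 4 ≤ z₀ := by rw [hi, pow_succ, pow_succ]; nlinarith [Nat.one_le_two_pow (n := i)]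
      omega
  set U : Subgroup G := Q ⊓ Cent(X) with hU
  have hone : ∀ z ∈ S.Z, z ∈ Cent(X) → z = 1 ∨ z = S.s := by
    intro z hz hzC
    by_contra hcon
    rw [not_or] at hcon
    have h3 : Function.Injective (![1, ⟨S.s, S.s_mem, S.s_mem_cent hXX⟩, ⟨z, hz, hzC⟩] :
        Fin 3 → ↥(S.Z ⊓ Cent(X))) := by
      intro i j h
      have h' := congrArg Subtype.val h
      fin_cases i <;> fin_cases j <;>
        first
          | rfl
          | simp [S.s_ne, hcon.1, hcon.2, Ne.symm S.s_ne, Ne.symm hcon.1, Ne.symm hcon.2] at h'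
    have := Nat.card_le_card_of_injective _ h3
    rw [Nat.card_fin, ← hz₀, hz2] at this
    omega
  have hsqU : ∀ u ∈ U, u = 1 ∨ u = S.s ∨ u * u = S.s := by
    intro u hu
    rcases hone _ (hsq u hu.1) (Subgroup.mul_mem _ hu.2 hu.2) with h | h
    · exact (hone u ((S.mem_Z u).2 ⟨hu.1, h⟩) hu.2).imp id Or.inl
    · exact Or.inr (Or.inr h)
  have hcU : Nat.card U = 8 := cube_card_eight U S.s_ne (S.Z_sq S.s_mem)
    (fun u hu => S.central _ S.s_mem u hu.1)
    hsqU (by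
      have h1 : k₀ = 1 := by omega
      rw [h1, hz2] at hlow
      have h2 : Nat.card U ∣ 2 ^ (n * 3) := by
        rw [pow_mul, ← hn, ← hQ]; exact Subgroup.card_dvd_of_le (inf_le_left : U ≤ Q)
      obtain ⟨i, -, hi⟩ := (Nat.dvd_prime_pow Nat.prime_two).1 h2
      rw [hi] at hlow ⊢
      rcases i with _ | _ | _ | i
      · simp at hlow
      · simp at hlow
      · simp at hlow
      · rw [pow_succ, pow_succ, pow_succ]
        nlinarith [Nat.one_le_two_pow (n := i)])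
  -- the induced group has order `72` and an element with an orbit of length five
  have hbot : stabilizer (centGroup Ω X) (S.fixPt hXX) ⊓
      stabilizer (centGroup Ω X) (S.centT hXX • S.fixPt hXX) = ⊥ := by
    rw [eq_bot_iff]
    intro y hy
    obtain ⟨⟨d, hdC⟩, hd, rfl⟩ := S.cent_D hXX hy
    obtain ⟨k, hk, v, hv, rfl⟩ := hDcent d hd hdC
    rw [Subgroup.mem_bot]
    refine (QuotientGroup.eq_one_iff _).2 (MonoidHom.mem_ker.2 (Equiv.ext fun c => Subtype.ext ?_))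
    show (k * v) • (c : Ω) = c
    rw [mul_smul, c.2 v hv]
    have hkC : k ∈ Cent(X) := Subgroup.mem_centralizer_iff.2 fun w hw => by
      have hwv : (k * v) * w = w * (k * v) :=
        (Subgroup.mem_centralizer_iff.1 hdC w hw).symm
      obtain ⟨hwD, -⟩ := S.mem_V.1 (hXX hw)
      have h1 : k⁻¹ * (w * k * w⁻¹) = v * w * v⁻¹ * w⁻¹ := by
        calc k⁻¹ * (w * k * w⁻¹) = k⁻¹ * (w * (k * v)) * v⁻¹ * w⁻¹ := by group
          _ = _ := by rw [← hwv]; group
      have h2 : k⁻¹ * (w * k * w⁻¹) = 1 := S.eq_one_of_K_V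
        (S.K.mul_mem (S.K.inv_mem hk) (S.K_normal w hwD k hk)) (by
          rw [h1]
          exact S.V.mul_mem (S.V.mul_mem (S.V.mul_mem hv hw) (S.V.inv_mem hv)) (S.V.inv_mem hw))
      exact mul_inv_eq_iff_eq_mul.1 (inv_mul_eq_one.1 h2).symm
    haveI : Subsingleton ↥(S.K ⊓ Cent(X)) :=
      (Nat.card_eq_one_iff_unique.1 (show k₀ = 1 by omega)).1
    rw [show k = 1 from congrArg Subtype.val
      (Subsingleton.elim (⟨k, hk, hkC⟩ : ↥(S.K ⊓ Cent(X))) 1), one_smul]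
  have hG : Nat.card (centGroup Ω X) = 72 := by
    rw [card_group (S.cent_setup hXX), hbot, Subgroup.card_bot, hcardQ', hcU]
  have hr2 : S.r * S.r = S.s :=
    ((hsqU S.r ⟨S.r_mem, S.r_mem_cent hXX⟩).resolve_left S.r_ne_one).resolve_left
      fun h => hrZ (h ▸ S.s_mem)
  set gg : centGroup Ω X := toCent Ω X ⟨S.s, S.s_mem_cent hXX⟩ * S.centT hXX with hgg
  have hact : ∀ c : fixSub Ω X, ((gg • c : fixSub Ω X) : Ω) = S.s • t • (c : Ω) := fun c => by
    rw [hgg, mul_smul]; rfl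
  have hsa := fix_a S.setup (S.Z_le S.s_mem)
  have e1 : S.s • t • (S.s • t • a) = S.r • t • a := by
    rw [← mul_smul t S.s, ← mul_smul (t * S.s) t, S.special, mul_smul, mul_smul,
      fix_a S.setup S.r_mem, ← mul_smul, show S.s * S.r⁻¹ = S.r by
      rw [← hr2, mul_inv_cancel_right]]
  have e2 : S.s • t • (S.r • t • a) = S.r⁻¹ • t • a := by
    rw [← mul_smul t S.r, ← mul_smul (t * S.r) t, S.special_r, mul_smul, mul_smul, hsa,
      ← mul_smul, show S.s * S.r = S.r⁻¹ by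
      refine eq_inv_of_mul_eq_one_left ?_
      rw [mul_assoc, hr2, S.Z_sq S.s_mem]]
  have e3 : S.s • t • (S.r⁻¹ • t • a) = t • a := by
    rw [← mul_smul t S.r⁻¹, ← mul_smul (t * S.r⁻¹) t, S.special_r_inv, mul_smul, mul_smul,
      inv_smul_eq_iff.2 (fix_a S.setup S.r_mem).symm, ← mul_smul, S.Z_sq S.s_mem, one_smul]
  have h5 : gg ^ 5 • S.fixPt hXX = S.fixPt hXX := by
    apply Subtype.ext
    rw [show gg ^ 5 = gg * gg * gg * gg * gg by simp [pow_succ, mul_assoc]]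
    simp only [mul_smul, hact]
    show S.s • t • S.s • t • S.s • t • S.s • t • S.s • t • a = a
    rw [e1, e2, e3, t_b S.setup, hsa]
  have h1 : gg • S.fixPt hXX ≠ S.fixPt hXX := fun h => by
    have h' := congrArg Subtype.val h
    rw [hact] at h'
    exact smul_ne_a S.setup (S.Z_le S.s_mem) (b_ne S.setup) h'
  have hmin : MulAction.period gg (S.fixPt hXX) = 5 := by
    rcases (Nat.dvd_prime (by norm_num)).1 (MulAction.pow_smul_eq_iff_period_dvd.1 h5) with h | h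
    · exfalso
      have h' := MulAction.pow_period_smul gg (S.fixPt hXX)
      rw [h, pow_one] at h'
      exact h1 h'
    · exact h
  have h72 : 5 ∣ 72 := by
    rw [← hG, ← hmin]
    exact (MulAction.period_dvd_orderOf gg _).trans (orderOf_dvd_natCard gg)
  norm_num at h72

/-- If `|Q| = q ^ 3` and `Q` is not abelian then `r` is an involution. -/
theorem r_mem_Z_of_cube (hQ : Nat.card Q = Nat.card S.Z ^ 3)
    (hna : ∃ x ∈ Q, ∃ y ∈ Q, x * y ≠ y * x) : S.r ∈ S.Z := by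
  by_contra hrZ
  obtain ⟨hsq, hcomm⟩ := S.cube_structure S.isPGroup_Q hna
  rcases S.card_cubeQ0 hrZ hQ with h0 | h0
  · exact S.false_of_cubeQ0_eq hrZ hsq hcomm hQ h0
  · exact S.false_of_cubeQ0_sq hrZ hsq hQ h0

end Data

end CfsgLib.Recog.RankOneSuzuki
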