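import Cfsg.Agent.Recog.RankOneSuzuki.Special

/-!
# Suzuki's rank one theorem: a simple subgroup generated by `Q` and `t` is normal of odd index
-/

set_option autoImplicit false
set_option linter.unusedSectionVars false
set_option linter.style.haveILetI false

namespace CfsgLib.Recog.RankOneSuzuki

open MulAction CfsgLib.Recog.RankOne

variable {G Ω : Type*} [Group G] [MulAction G Ω]

namespace Data

variable {a : Ω} {t : G} {Q : Subgroup G}

theorem closure_pair_trans (S : Data a t Q) (p : Ω) :
    ∃ l ∈ Subgroup.closure ((Q : Set G) ∪ {t}), l • p = a := by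
  by_cases hp : p = a
  · exact ⟨1, Subgroup.one_mem _, by rw [one_smul, hp]⟩
  obtain ⟨q, hq, hqp⟩ := exists_mem_smul S.setup hp
  exact ⟨t * q⁻¹, Subgroup.mul_mem _ (Subgroup.subset_closure (Or.inr rfl))
    (Subgroup.inv_mem _ (Subgroup.subset_closure (Or.inl hq))), by
      rw [mul_smul, ← hqp, inv_smul_smul, t_b S.setup]⟩

theorem invol_mem_closure_pair [Finite G] (S : Data a t Q) {u : G} (hu : u * u = 1) :
    u ∈ Subgroup.closure ((Q : Set G) ∪ {t}) := by
  set L := Subgroup.closure ((Q : Set G) ∪ {t}) with hL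
  obtain ⟨p, hp⟩ := exists_fix S.setup hu
  obtain ⟨l, hl, hlp⟩ := S.closure_pair_trans p
  have h1 : l * u * l⁻¹ * (l * u * l⁻¹) = 1 := by
    rw [show l * u * l⁻¹ * (l * u * l⁻¹) = l * (u * u) * l⁻¹ by group, hu]; group
  have h2 : l * u * l⁻¹ ∈ L := Subgroup.subset_closure (Or.inl (mem_Q S.setup (by
    rw [mul_smul, mul_smul, ← hlp, inv_smul_smul, hp]) h1))
  have := L.mul_mem (L.mul_mem (L.inv_mem hl) h2) hl
  simpa [mul_assoc] using this

theorem normal_of_simple [Finite G] (S : Data a t Q)
    (hs : IsSimpleGroup (Subgroup.closure ((Q : Set G) ∪ {t}))) :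
    (Subgroup.closure ((Q : Set G) ∪ {t})).Normal ∧
      Odd (Subgroup.closure ((Q : Set G) ∪ {t})).index := by
  set L := Subgroup.closure ((Q : Set G) ∪ {t}) with hL
  haveI := hs
  set I : Set G := {u | u * u = 1} with hI
  have hle : Subgroup.closure I ≤ L :=
    (Subgroup.closure_le _).2 fun u hu => S.invol_mem_closure_pair hu
  haveI hn : (Subgroup.closure I).Normal := ⟨fun x hx g => by
    induction hx using Subgroup.closure_induction with
    | mem u hu =>
      refine Subgroup.subset_closure ?_
      show g * u * g⁻¹ * (g * u * g⁻¹) = 1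
      rw [show g * u * g⁻¹ * (g * u * g⁻¹) = g * (u * u) * g⁻¹ by group, show u * u = 1 from hu]
      group
    | one => simp
    | mul x y _ _ h1 h2 => simpa [mul_assoc] using mul_mem h1 h2
    | inv x _ h => simpa [mul_assoc] using inv_mem h⟩
  refine ⟨?_, ?_⟩
  · have htL : t ∈ L := Subgroup.subset_closure (Or.inr rfl)
    rcases IsSimpleGroup.eq_bot_or_eq_top_of_normal ((Subgroup.closure I).subgroupOf L)
      inferInstance with h | h
    · have : (⟨t, htL⟩ : L) ∈ (Subgroup.closure I).subgroupOf L :=
        Subgroup.subset_closure S.setup.mul_self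
      rw [h] at this
      exact absurd (congrArg Subtype.val (Subgroup.mem_bot.1 this)) S.setup.ne_one
    · rw [← le_antisymm hle (Subgroup.subgroupOf_eq_top.1 h)]
      exact hn
  · refine Odd.of_dvd_nat ?_ (Subgroup.index_dvd_of_le
      (show Q ≤ L from fun x hx => Subgroup.subset_closure (Or.inl hx)))
    have h : Q.index = Nat.card ↥(stabilizer G a ⊓ stabilizer G (t • a)) * (Nat.card Q + 1) := by
      refine Nat.eq_of_mul_eq_mul_left (show 0 < Nat.card Q from Nat.card_pos) ?_
      rw [Subgroup.card_mul_index, card_group S.setup, mul_assoc]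
    rw [h]
    exact S.setup.odd_card.mul S.setup.even_card.add_one

end Data

end CfsgLib.Recog.RankOneSuzuki
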