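import Cfsg.Agent.Recog.RankOneSuzuki.Unitary
import Cfsg.Agent.Recog.RankOneSuzuki.TwoGroup
import Cfsg.Agent.Recog.RankOneSuzuki.Abelian
import Cfsg.Agent.Recog.RankOneSuzuki.MixedCube
import Cfsg.Agent.Recog.RankOneSuzuki.Block
import Cfsg.Agent.Recog.RankOneSuzuki.Cardinal
import Cfsg.Agent.Recog.RankOneSuzuki.Normal
import Cfsg.Agent.Recog.RankOneSuzuki.FormEquiv
import Cfsg.Prelude.Def_LieRecognition

/-!
# Suzuki's rank one theorem
-/

set_option autoImplicit false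
set_option linter.style.haveILetI false

namespace CfsgLib.Recog.RankOneSuzuki

open MulAction CfsgLib.Recog.RankOne

universe u v

variable {G : Type u} {Ω : Type v} [Group G] [MulAction G Ω] {a : Ω} {t : G} {Q : Subgroup G}


/-- A simple group with a rank one set-up is generated by the kernel and the involution. -/
theorem closure_eq_top [Finite G] [IsSimpleGroup G] (S : Data a t Q) :
    Subgroup.closure ((Q : Set G) ∪ {t}) = ⊤ := by
  set H := Subgroup.closure ((Q : Set G) ∪ {t}) with hH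
  have hQ : ∀ x ∈ Q, x ∈ H := fun x hx => Subgroup.subset_closure (Or.inl hx)
  have ht : t ∈ H := Subgroup.subset_closure (Or.inr rfl)
  have htrans : ∀ p : Ω, ∃ h ∈ H, h • p = a := by
    intro p
    by_cases hp : p = a
    · exact ⟨1, H.one_mem, by rw [one_smul, hp]⟩
    · obtain ⟨q, hq, rfl⟩ := exists_mem_smul S.setup hp
      exact ⟨t * q⁻¹, H.mul_mem ht (H.inv_mem (hQ q hq)),
        by rw [mul_smul, inv_smul_smul, t_b S.setup]⟩
  have hconj : ∀ g : G, g * t * g⁻¹ ∈ H := by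
    intro g
    have h1 : g * t * g⁻¹ * (g * t * g⁻¹) = 1 := by
      rw [show g * t * g⁻¹ * (g * t * g⁻¹) = g * (t * t) * g⁻¹ by group, S.tt]; group
    set u := g * t * g⁻¹
    obtain ⟨p, hp⟩ := exists_fix S.setup h1
    obtain ⟨l, hl, hlp⟩ := htrans p
    have h2 : l * u * l⁻¹ ∈ H := hQ _ (mem_Q S.setup
      (by rw [mul_smul, mul_smul, ← hlp, inv_smul_smul, hp])
      (by rw [show l * u * l⁻¹ * (l * u * l⁻¹) = l * (u * u) * l⁻¹ by group, h1]; group))
    simpa [mul_assoc] using H.mul_mem (H.mul_mem (H.inv_mem hl) h2) hl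
  have hle : Subgroup.normalClosure ({t} : Set G) ≤ H := by
    refine (Subgroup.closure_le _).2 ?_
    intro x hx
    obtain ⟨z, hz, hzx⟩ := Group.mem_conjugatesOfSet_iff.1 hx
    rw [Set.mem_singleton_iff.1 hz] at hzx
    obtain ⟨g, rfl⟩ := isConj_iff.1 hzx
    exact hconj g
  rcases IsSimpleGroup.eq_bot_or_eq_top_of_normal _ (Subgroup.normalClosure_normal (s := {t})) with
    h | h
  · have h1 : t ∈ Subgroup.normalClosure ({t} : Set G) :=
      Subgroup.subset_normalClosure (Set.mem_singleton t)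
    rw [h] at h1
    exact absurd (Subgroup.mem_bot.1 h1) S.setup.ne_one
  · exact top_le_iff.1 (h ▸ hle)

set_option maxHeartbeats 1000000 in
/-- The unitary case. -/
theorem unitary_case [Finite G] [FaithfulSMul G Ω] (S : Data a t Q)
    (hna : ∃ x ∈ Q, ∃ y ∈ Q, x * y ≠ y * x) (hQ : Nat.card Q = Nat.card S.Z ^ 3) :
    ∃ L : Subgroup G, L.Normal ∧ Odd L.index ∧
      ∃ (F : Type) (_ : Field F) (_ : Fintype F) (n : ℕ), 2 ≤ n ∧ Fintype.card F = (2 ^ n) ^ 2 ∧
          Nonempty (L ≃* Cfsg.PSU 3 F (2 ^ n)) := by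
  have hr := S.r_mem_Z_of_cube hQ hna
  obtain ⟨F, _, _, _, n, X, hn, hF, hZ, hreg⟩ := S.exists_block hr
  -- the model
  haveI : Fact (Nat.Prime 2) := ⟨Nat.prime_two⟩
  letI := Fintype.ofFinite (GaloisField 2 (n * 2))
  have hK : Fintype.card (GaloisField 2 (n * 2)) = (2 ^ n) ^ 2 := by
    rw [← Nat.card_eq_fintype_card, GaloisField.card 2 _ (by omega), pow_mul]
  obtain ⟨Om, _, _, a', t', Q', hS', h2', hQ', hna', hsimp, hle'⟩ :=
    exists_psu_setup (F := GaloisField 2 (n * 2)) hn hK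
  obtain ⟨S'⟩ := exists_data hS' h2'
  have hQZ : Nat.card Q' = Nat.card S'.Z ^ 3 := by
    rcases S'.card_cases hna' with h | h
    · exfalso
      have h1 := hle' S'.Z fun x hx => ⟨S'.Z_le hx, S'.Z_sq hx⟩
      rw [hQ'] at h
      have h2 := Nat.pow_le_pow_left h1 2
      rw [← h] at h2
      exact absurd h2 (not_le.2 (Nat.pow_lt_pow_right (Nat.one_lt_two_pow (by omega)) (by norm_num)))
    · exact h
  have hr' := S'.r_mem_Z_of_cube hQZ hna'
  obtain ⟨F', _, _, _, n', X', hn', hF', hZ', hreg'⟩ := S'.exists_block hr'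
  have hnn : n' = n := by
    rw [hQ', hZ'] at hQZ
    exact (Nat.pow_right_injective le_rfl (Nat.pow_left_injective (by norm_num) hQZ)).symm
  subst hnn
  obtain ⟨e⟩ := exists_equiv_cube S S' hn hF hF' (by rw [hQ, hZ]) hQ' X (hreg hQ) X' (hreg' hQZ)
    (S.r_eq_s hr) (S'.r_eq_s hr') (S.sq_mem_Z hna) (S'.sq_mem_Z hna')
    (fun qf qf' h h' => exists_app_form h h')
  rw [closure_eq_top S'] at e
  have E := e.trans Subgroup.topEquiv
  haveI : Nontrivial (Subgroup.closure ((Q : Set G) ∪ {t})) := E.toEquiv.nontrivial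
  haveI : IsSimpleGroup (Subgroup.closure ((Q : Set G) ∪ {t})) :=
    IsSimpleGroup.isSimpleGroup_of_surjective E.symm.toMonoidHom E.symm.surjective
  obtain ⟨hn1, hodd⟩ := S.normal_of_simple inferInstance
  exact ⟨_, hn1, hodd, _, inferInstance, inferInstance, _, hn, hK, ⟨E⟩⟩

/-- Suzuki's rank one theorem. -/
theorem rank_one_theorem [Finite G] [FaithfulSMul G Ω]
    (hS : Cfsg.IsRankOneSetup G Ω a t Q)
    (h2 : ∃ x y : G, x ≠ 1 ∧ y ≠ 1 ∧ x ≠ y ∧ x * x = 1 ∧ y * y = 1 ∧ x * y = y * x) :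
    ∃ L : Subgroup G, L.Normal ∧ Odd L.index ∧
      ((∃ (F : Type) (_ : Field F) (_ : Fintype F), (∃ n : ℕ, 2 ≤ n ∧ Fintype.card F = 2 ^ n) ∧
          Nonempty (L ≃* Matrix.ProjectiveSpecialLinearGroup (Fin 2) F)) ∨
        Cfsg.Lie.IsoSuzuki L ∨
        (∃ (F : Type) (_ : Field F) (_ : Fintype F) (n : ℕ), 2 ≤ n ∧ Fintype.card F = (2 ^ n) ^ 2 ∧
          Nonempty (L ≃* Cfsg.PSU 3 F (2 ^ n)))) := by
  obtain ⟨S⟩ := exists_data hS h2
  by_cases hcomm : ∀ x ∈ Q, ∀ y ∈ Q, x * y = y * x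
  · have hle := S.le_Z_of_abelian hcomm
    exact ⟨S.L, S.L_normal, S.L_index_odd, Or.inl (S.psl_of_le hle)⟩
  push Not at hcomm
  rcases S.card_cases hcomm with h | h
  · have hr := S.r_not_mem_Z_of_sq h
    exact ⟨S.L, S.L_normal, S.L_index_odd,
      Or.inr (Or.inl (S.isoSuzuki_L (S.isSplit_of_card hr h) S.isPGroup_Q hcomm))⟩
  · obtain ⟨L, hL, hodd, hU⟩ := unitary_case S hcomm h
    exact ⟨L, hL, hodd, Or.inr (Or.inr hU)⟩

end CfsgLib.Recog.RankOneSuzuki
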