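import Cfsg.Agent.Recog.RankOneSuzuki.Sl

/-!
# Suzuki's rank one theorem: transporting a block along a field isomorphism
-/

set_option autoImplicit false

namespace CfsgLib.Recog.RankOneSuzuki

open MulAction

section Field

variable {F F' : Type} [Field F] [Field F'] (e : F' ≃+* F)

/-- A vector over the other field. -/
def mapVec : (F' × F') ≃+ (F × F) := e.toAddEquiv.prodCongr e.toAddEquiv

/-- A matrix over the other field. -/
def mapSL : Matrix.SpecialLinearGroup (Fin 2) F' →* Matrix.SpecialLinearGroup (Fin 2) F :=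
  Matrix.SpecialLinearGroup.map e.toRingHom

theorem mapVec_apply (w : F' × F') : mapVec e w = (e w.1, e w.2) := rfl

theorem mapVec_smul (l : F') (w : F' × F') : mapVec e (l • w) = e l • mapVec e w := by
  simp [mapVec_apply]

theorem mapVec_br (w z : F' × F') : br (mapVec e w) (mapVec e z) = e (br w z) := by
  simp [mapVec_apply, br]

theorem mapSL_coe (g : Matrix.SpecialLinearGroup (Fin 2) F') :
    (mapSL e g : Matrix (Fin 2) (Fin 2) F) = (g : Matrix (Fin 2) (Fin 2) F').map e := rfl

theorem mapSL_app (g : Matrix.SpecialLinearGroup (Fin 2) F') (w : F' × F') :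
    app (mapSL e g) (mapVec e w) = mapVec e (app g w) := by
  simp [mapVec_apply, app, mapSL_coe]

theorem mapSL_injective : Function.Injective (mapSL e) := fun g h hgh => by
  ext i j
  have := congrArg (fun M : Matrix.SpecialLinearGroup (Fin 2) F => (M : Matrix (Fin 2) (Fin 2) F) i j) hgh
  exact e.injective this

theorem mapSL_symm (g : Matrix.SpecialLinearGroup (Fin 2) F) : mapSL e (mapSL e.symm g) = g := by
  ext i j
  exact e.apply_symm_apply _

theorem map_two (p q r s : F') :
    (!![p, q; r, s] : Matrix (Fin 2) (Fin 2) F').map e = !![e p, e q; e r, e s] := by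
  ext i j
  fin_cases i <;> fin_cases j <;> rfl

theorem eq_of_map {g : Matrix.SpecialLinearGroup (Fin 2) F'} {p q r s : F'}
    (h : (mapSL e g : Matrix (Fin 2) (Fin 2) F) = !![e p, e q; e r, e s]) :
    (g : Matrix (Fin 2) (Fin 2) F') = !![p, q; r, s] := by
  ext i j
  apply e.injective
  rw [mapSL_coe, ← map_two] at h
  exact congrArg (fun M : Matrix (Fin 2) (Fin 2) F => M i j) h

end Field

variable {G Ω : Type*} [Group G] [MulAction G Ω] {a : Ω} {t : G} {Q : Subgroup G}
variable {S : Data a t Q} {F F' : Type} [Field F] [Field F']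

/-- A block over an isomorphic field. -/
noncomputable def Block.map (X : Block S F) (e : F' ≃+* F) : Block S F' where
  P w := X.P (mapVec e w)
  el := X.el.comp (mapSL e)
  el_inj := X.el_inj.comp (mapSL_injective e)
  P_a := by
    show X.P (e 1, e 0) = a
    rw [map_one, map_zero]; exact X.P_a
  P_b := by
    show X.P (e 0, e 1) = t • a
    rw [map_one, map_zero]; exact X.P_b
  P_eq w w' hw hw' := by
    rw [X.P_eq _ _ ((mapVec e).map_ne_zero_iff.2 hw) ((mapVec e).map_ne_zero_iff.2 hw'), mapVec_br,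
      map_eq_zero_iff e e.injective]
  el_P g w hw := by
    show X.el (mapSL e g) • X.P (mapVec e w) = X.P (mapVec e (app g w))
    rw [X.el_P _ _ ((mapVec e).map_ne_zero_iff.2 hw), mapSL_app]
  el_t g hg := X.el_t _ (by rw [mapSL_coe, hg, map_two, map_one, map_zero])
  el_s g hg := X.el_s _ (by rw [mapSL_coe, hg, map_two, map_one, map_zero])
  mem_Z x := by
    rw [X.mem_Z]
    constructor
    · rintro ⟨g, rfl, c, hc⟩
      refine ⟨mapSL e.symm g, congrArg X.el (mapSL_symm e g), e.symm c, eq_of_map e ?_⟩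
      rw [mapSL_symm, hc, map_one, map_zero, e.apply_symm_apply]
    · rintro ⟨g, rfl, c, hc⟩
      exact ⟨mapSL e g, rfl, e c, by rw [mapSL_coe, hc, map_two, map_one, map_zero]⟩
  mem_K x := by
    rw [X.mem_K]
    constructor
    · rintro ⟨g, rfl, m, hm, hg⟩
      refine ⟨mapSL e.symm g, congrArg X.el (mapSL_symm e g), e.symm m,
        fun h => hm (by rw [← e.apply_symm_apply m, h, map_zero]), eq_of_map e ?_⟩
      rw [mapSL_symm, hg, map_inv₀, map_zero, e.apply_symm_apply]
    · rintro ⟨g, rfl, m, hm, hg⟩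
      exact ⟨mapSL e g, rfl, e m, (map_ne_zero e).2 hm,
        by rw [mapSL_coe, hg, map_two, map_inv₀, map_zero]⟩
  invol u hu hf := by
    obtain ⟨w, hw, hwu⟩ := hf
    obtain ⟨g, hg⟩ := X.invol u hu ⟨mapVec e w, (mapVec e).map_ne_zero_iff.2 hw, hwu⟩
    exact ⟨mapSL e.symm g, (congrArg X.el (mapSL_symm e g)).trans hg⟩
  free g c hc he := by
    refine mapSL_injective e ((X.free _ c (fun w hw h => ?_) he).trans (map_one _).symm)
    exact hc ((mapVec e).symm w) ((mapVec e).symm.map_ne_zero_iff.2 hw)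
      (by show X.P (mapVec e ((mapVec e).symm w)) = c; rw [AddEquiv.apply_symm_apply]; exact h)
  semilinear γ hγ := by
    obtain ⟨τ, M, hs, hb, hP, hc⟩ := X.semilinear γ fun w hw => by
      obtain ⟨w', hw', h⟩ := hγ ((mapVec e).symm w) ((mapVec e).symm.map_ne_zero_iff.2 hw)
      rw [AddEquiv.apply_symm_apply] at h
      exact ⟨mapVec e w', (mapVec e).map_ne_zero_iff.2 hw', h⟩
    let τ' : F' ≃+* F' := (e.trans τ).trans e.symm
    let M' : (F' × F') →+ (F' × F') :=
      (mapVec e).symm.toAddMonoidHom.comp (M.comp (mapVec e).toAddMonoidHom)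
    have hM : ∀ w, mapVec e (M' w) = M (mapVec e w) := fun w => (mapVec e).apply_symm_apply _
    refine ⟨τ', M', fun l w => (mapVec e).injective ?_, fun w z => e.injective ?_,
      fun w hw => ?_, fun g => ?_⟩
    · rw [hM, mapVec_smul, hs, mapVec_smul, hM]
      simp [τ']
    · rw [← mapVec_br, hM, hM, hb, mapVec_br]
      simp [τ']
    · rw [hP _ ((mapVec e).map_ne_zero_iff.2 hw), hM]
    · obtain ⟨g', hg', hM'⟩ := hc (mapSL e g)
      refine ⟨mapSL e.symm g', ?_, fun w => (mapVec e).injective ?_⟩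
      · show γ * X.el (mapSL e g) * γ⁻¹ = X.el (mapSL e (mapSL e.symm g'))
        rw [mapSL_symm, hg']
      · rw [← mapSL_app, mapSL_symm, hM, hM', hM, mapSL_app]

theorem Block.map_isRegular {X : Block S F} (h : X.IsRegular) (e : F' ≃+* F) :
    (X.map e).IsRegular := by
  intro c d hc hd
  have key : ∀ p : Ω, (∀ w : F' × F', w ≠ 0 → (X.map e).P w ≠ p) →
      ∀ w : F × F, w ≠ 0 → X.P w ≠ p := fun p hp w hw h =>
    hp ((mapVec e).symm w) ((mapVec e).symm.map_ne_zero_iff.2 hw)
      (by show X.P (mapVec e ((mapVec e).symm w)) = p; rw [AddEquiv.apply_symm_apply]; exact h)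
  obtain ⟨g, hg⟩ := h c d (key c hc) (key d hd)
  refine ⟨mapSL e.symm g, ?_⟩
  show X.el (mapSL e (mapSL e.symm g)) • c = d
  rw [mapSL_symm, hg]

end CfsgLib.Recog.RankOneSuzuki
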