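import Cfsg.Agent.Recog.RankOneSuzuki.Product

/-!
# Suzuki's rank one theorem: two charts with the same form give isomorphic groups
-/

set_option autoImplicit false
set_option linter.unusedSectionVars false
set_option linter.style.haveILetI false

namespace CfsgLib.Recog.RankOneSuzuki

open MulAction CfsgLib.Recog.RankOne

/-- Groups generated by sets acting alike on equivalent sets are isomorphic. -/
theorem exists_closure_equiv {G G' Ω Ω' : Type*} [Group G] [Group G'] [MulAction G Ω]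
    [MulAction G' Ω'] [FaithfulSMul G Ω] [FaithfulSMul G' Ω'] (A : Set G) (A' : Set G')
    (e : Ω ≃ Ω') (h : ∀ x ∈ A, ∃ x' ∈ A', ∀ p, e (x • p) = x' • e p)
    (h' : ∀ x' ∈ A', ∃ x ∈ A, ∀ p, e (x • p) = x' • e p) :
    Nonempty (Subgroup.closure A ≃* Subgroup.closure A') := by
  let φ : G →* Equiv.Perm Ω' := e.permCongrHom.toMonoidHom.comp (MulAction.toPermHom G Ω)
  let φ' : G' →* Equiv.Perm Ω' := MulAction.toPermHom G' Ω'
  have hφ : Function.Injective φ :=
    e.permCongrHom.injective.comp MulAction.toPerm_injective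
  have hφ' : Function.Injective φ' := MulAction.toPerm_injective
  have hval : ∀ x : G, ∀ x' : G', (∀ p, e (x • p) = x' • e p) → φ x = φ' x' := fun x x' hx =>
    Equiv.ext fun q => by
      show e (x • e.symm q) = x' • q
      rw [hx, e.apply_symm_apply]
  have himg : φ '' A = φ' '' A' := by
    ext z
    constructor
    · rintro ⟨x, hx, rfl⟩
      obtain ⟨x', hx', he⟩ := h x hx
      exact ⟨x', hx', (hval x x' he).symm⟩
    · rintro ⟨x', hx', rfl⟩
      obtain ⟨x, hx, he⟩ := h' x' hx'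
      exact ⟨x, hx, hval x x' he⟩
  have hmap : (Subgroup.closure A).map φ = (Subgroup.closure A').map φ' := by
    rw [MonoidHom.map_closure, MonoidHom.map_closure, himg]
  exact ⟨((Subgroup.closure A).equivMapOfInjective φ hφ).trans
    ((MulEquiv.subgroupCongr hmap).trans
      ((Subgroup.closure A').equivMapOfInjective φ' hφ').symm)⟩

variable {G G' Ω Ω' : Type*} [Group G] [Group G'] [MulAction G Ω] [MulAction G' Ω']
  {a : Ω} {t : G} {Q : Subgroup G} {a' : Ω'} {t' : G'} {Q' : Subgroup G'}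
  {S : Data a t Q} {S' : Data a' t' Q'}
  {F : Type} [Field F] [CharP F 2]

local notation "SL₂" => Matrix.SpecialLinearGroup (Fin 2) F

/-- The map between the point sets of two charts. -/
noncomputable def ptMap (C : Chart S F) (C' : Chart S' F) (p : Ω) : Ω' :=
  open scoped Classical in
    if h : C.OnB p then C'.X.P h.choose else C'.X.el (C.exists_el_of_off h).choose • C'.c

theorem ptMap_P (C : Chart S F) (C' : Chart S' F) {w : F × F} (hw : w ≠ 0) :
    ptMap C C' (C.X.P w) = C'.X.P w := by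
  have h : C.OnB (C.X.P w) := ⟨w, hw, rfl⟩
  rw [ptMap, dif_pos h]
  exact (C'.X.P_eq _ _ h.choose_spec.1 hw).2
    ((C.X.P_eq _ _ h.choose_spec.1 hw).1 h.choose_spec.2)

theorem ptMap_el (C : Chart S F) (C' : Chart S' F) (g : SL₂) :
    ptMap C C' (C.X.el g • C.c) = C'.X.el g • C'.c := by
  rw [ptMap, dif_neg (C.off_el g)]
  rw [C.el_c_injective (C.exists_el_of_off (C.off_el g)).choose_spec]

theorem ptMap_cases (C : Chart S F) (p : Ω) :
    (∃ w : F × F, w ≠ 0 ∧ C.X.P w = p) ∨ ∃ g : SL₂, C.X.el g • C.c = p := by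
  by_cases h : C.OnB p
  · exact Or.inl h
  · exact Or.inr (C.exists_el_of_off h)

theorem ptMap_ptMap (C : Chart S F) (C' : Chart S' F) (p : Ω) :
    ptMap C' C (ptMap C C' p) = p := by
  rcases ptMap_cases C p with ⟨w, hw, rfl⟩ | ⟨g, rfl⟩
  · rw [ptMap_P C C' hw, ptMap_P C' C hw]
  · rw [ptMap_el, ptMap_el]

/-- The bijection between the point sets of two charts. -/
noncomputable def ptEquiv (C : Chart S F) (C' : Chart S' F) : Ω ≃ Ω' :=
  ⟨ptMap C C', ptMap C' C, ptMap_ptMap C C', ptMap_ptMap C' C⟩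

theorem ptMap_el_smul (C : Chart S F) (C' : Chart S' F) (g : SL₂) (p : Ω) :
    ptMap C C' (C.X.el g • p) = C'.X.el g • ptMap C C' p := by
  rcases ptMap_cases C p with ⟨w, hw, rfl⟩ | ⟨h, rfl⟩
  · rw [C.X.el_P g w hw, ptMap_P C C' (app_ne_zero g hw), ptMap_P C C' hw, C'.X.el_P g w hw]
  · rw [← mul_smul, ← map_mul, ptMap_el, ptMap_el, map_mul, mul_smul]

theorem ptMap_a (C : Chart S F) (C' : Chart S' F) : ptMap C C' a = a' :=
  (congrArg (ptMap C C') C.X.P_a).symm.trans ((ptMap_P C C' e1_ne).trans C'.X.P_a)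

theorem ptMap_b (C : Chart S F) (C' : Chart S' F) : ptMap C C' (t • a) = t' • a' :=
  (congrArg (ptMap C C') C.X.P_b).symm.trans ((ptMap_P C C' e2_ne).trans C'.X.P_b)

variable [Finite F] [Finite G] [Finite G']

theorem product_pair (C : Chart S F) (C' : Chart S' F) (hθ : ∀ l, C.θ l = 1) (hθ' : ∀ l, C'.θ l = 1)
    {qf : F × F → F} (hq : IsForm qf) (hcc : ∀ l, C.cc l * qf (app l⁻¹ (1, 0)) = 1)
    (heq : C'.cc = C.cc) (l L : SL₂) :
    (∃ d : F, C.yy l * C.yy L = C.X.el (uni d) ∧ C'.yy l * C'.yy L = C'.X.el (uni d)) ∨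
      ∃ M : SL₂, C.yy l * C.yy L = C.yy M ∧ C'.yy l * C'.yy L = C'.yy M := by
  by_cases h : lowC l L ≠ 0
  · exact Or.inr ⟨mulC C.cc l L, C.product_eq hθ l L h, by rw [C'.product_eq hθ' l L h, heq]⟩
  rw [not_not, lowC_eq] at h
  obtain ⟨s, hs⟩ := eq_smul_of_br (app_ne_zero _ e1_ne) ((br_comm _ _).trans h)
  by_cases hj : C.jv l = C.jv L
  · -- the two elements differ by a central one
    have hc : C.cc l = C.cc L := by
      have e := congrArg qf hj
      rw [Chart.jv, Chart.jv, hq.smul, hq.smul, mul_assoc, mul_assoc, hcc, hcc, mul_one, mul_one] at e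
      exact e
    have hv : app L⁻¹ (1, 0) = app l⁻¹ (1, 0) := by
      rw [Chart.jv, Chart.jv, ← hc] at hj
      exact (smul_right_injective _ (C.cc_ne l) hj).symm
    have hp : C.pt₀ L = C.pt₀ l := by rw [Chart.pt₀, Chart.pt₀, hv]
    obtain ⟨d, m, hm, hL⟩ := C.exists_of_pt₀ hp
    have hm1 : m = 1 := by
      have e := congrArg (app L) hv
      rw [app_app_inv] at e
      conv_rhs at e => rw [hL, app_mul, app_app_inv, app_mul, app_dia, app_uni]
      simpa using (congrArg Prod.fst e).symm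
    subst hm1
    have hdia : dia (1 : F) hm = 1 :=
      ext_app (by simp [app_dia, app_one]) (by simp [app_dia, app_one])
    rw [hdia, mul_one] at hL
    subst hL
    refine Or.inl ⟨d + C.cc l, ?_, ?_⟩
    · rw [C.yy_uni, ← mul_assoc, ← S.central _ (C.el_uni_mem d) _ (C.yy_mem l), mul_assoc,
        ← C.el_cc, ← map_mul, uni_mul]
    · rw [C'.yy_uni, ← mul_assoc, ← S'.central _ (C'.el_uni_mem d) _ (C'.yy_mem l), mul_assoc,
        ← C'.el_cc, ← map_mul, uni_mul, heq]
  · -- split the second element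
    set L₁ := swp * l with hL₁
    set L₁' := uni (C.cc L₁) * L₁ with hL₁'
    have h1 : lowC l L₁ ≠ 0 := by
      rw [lowC, hL₁, mul_inv_cancel_right, app_swp]
      exact one_ne_zero
    have hb1 : br (app L₁'⁻¹ (1, 0)) (app l⁻¹ (1, 0)) ≠ 0 := by
      have e : app L₁'⁻¹ (1, 0) = app L₁⁻¹ (1, 0) := by
        rw [hL₁', mul_inv_rev, app_mul, uni_inv, app_uni]; simp
      rw [e, ← lowC_eq]
      exact h1
    have h2 : lowC L₁' L ≠ 0 := by
      rw [lowC_eq, hs, br_smul_left, br_comm]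
      refine mul_ne_zero (fun h0 => app_ne_zero (L⁻¹) e1_ne ?_) hb1
      rw [hs, h0, zero_smul]
    set L₂ := mulC C.cc L₁' L with hL₂
    have hjv₂ : C.jv L₂ = C.jv L₁ + C.jv L := by
      rw [hL₂, C.jv_mul hq hcc _ _ h2, hL₁', C.jv_uni]
    have h3 : lowC (mulC C.cc l L₁) L₂ ≠ 0 := by
      intro h0
      rw [lowC_eq] at h0
      have e : br (C.jv L₂) (C.jv (mulC C.cc l L₁)) = 0 := by
        rw [Chart.jv, Chart.jv, br_smul_left, br_smul_right, h0, mul_zero, mul_zero]
      rw [hjv₂, C.jv_mul hq hcc _ _ h1] at e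
      have hJ : C.jv L = (C.cc L * s * (C.cc l)⁻¹) • C.jv l := by
        rw [Chart.jv, Chart.jv, hs, smul_smul, smul_smul, inv_mul_cancel_right₀ (C.cc_ne l)]
      have hne : 1 + C.cc L * s * (C.cc l)⁻¹ ≠ 0 := fun h0 => hj (by
        rw [hJ, ← CharTwo.add_eq_zero.1 h0, one_smul])
      have hbr : br (C.jv L₁) (C.jv l) ≠ 0 := by
        rw [Chart.jv, Chart.jv, br_smul_left, br_smul_right, ← lowC_eq]
        exact mul_ne_zero (C.cc_ne _) (mul_ne_zero (C.cc_ne _) h1)
      refine mul_ne_zero hne hbr ?_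
      rw [← e, hJ, br_add_left, br_add_right, br_add_right, br_smul_left, br_smul_left, br_self,
        br_self, br_comm (C.jv l) (C.jv L₁)]
      ring
    refine Or.inr ⟨mulC C.cc (mulC C.cc l L₁) L₂, ?_, ?_⟩
    · rw [← C.product_eq hθ _ _ h3, ← C.product_eq hθ _ _ h1, hL₂, ← C.product_eq hθ _ _ h2, hL₁',
        C.yy_inv, mul_assoc, mul_inv_cancel_left]
    · have e1 := C'.product_eq hθ' _ _ h3
      have e2 := C'.product_eq hθ' _ _ h1
      have e3 := C'.product_eq hθ' _ _ h2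
      rw [heq] at e1 e2 e3
      rw [← e1, ← e2, hL₂, ← e3, hL₁', ← heq, C'.yy_inv, mul_assoc, mul_inv_cancel_left]

theorem ptMap_yy_smul (C : Chart S F) (C' : Chart S' F) (hθ : ∀ l, C.θ l = 1)
    (hθ' : ∀ l, C'.θ l = 1) {qf : F × F → F} (hq : IsForm qf)
    (hcc : ∀ l, C.cc l * qf (app l⁻¹ (1, 0)) = 1) (heq : C'.cc = C.cc) (l : SL₂) (p : Ω) :
    ptMap C C' (C.yy l • p) = C'.yy l • ptMap C C' p := by
  rcases ptMap_cases C p with hp | ⟨L, rfl⟩
  · rcases C.onB_iff.1 hp with rfl | ⟨z, hz, rfl⟩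
    · rw [fix_a S.setup (C.yy_mem l), ptMap_a, fix_a S'.setup (C'.yy_mem l)]
    · obtain ⟨d, rfl⟩ := C.exists_uni hz
      rw [← mul_smul, ← S.central _ hz _ (C.yy_mem l), mul_smul, C.smul_b_yy, ← mul_smul, ← map_mul,
        ptMap_el, ptMap_el_smul, ptMap_b, ← mul_smul (C'.yy l),
        ← S'.central _ (C'.el_uni_mem d) _ (C'.yy_mem l), mul_smul, C'.smul_b_yy, ← mul_smul,
        ← map_mul]
  · rw [← C.smul_b_yy, ← mul_smul]
    conv_rhs => rw [C.smul_b_yy, ptMap_el, ← C'.smul_b_yy, ← mul_smul]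
    rcases product_pair C C' hθ hθ' hq hcc heq l L with ⟨d, h, h'⟩ | ⟨M, h, h'⟩
    · rw [h, h', ptMap_el_smul, ptMap_b]
    · rw [h, h', C.smul_b_yy, ptMap_el, ← C'.smul_b_yy]

/-- Two charts with the same form generate isomorphic groups. -/
theorem exists_equiv_of_cc [FaithfulSMul G Ω] [FaithfulSMul G' Ω'] (C : Chart S F) (C' : Chart S' F)
    (hθ : ∀ l, C.θ l = 1) (hθ' : ∀ l, C'.θ l = 1) {qf : F × F → F} (hq : IsForm qf)
    (hcc : ∀ l, C.cc l * qf (app l⁻¹ (1, 0)) = 1) (heq : C'.cc = C.cc) :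
    Nonempty (Subgroup.closure ((Q : Set G) ∪ {t}) ≃*
      Subgroup.closure ((Q' : Set G') ∪ {t'})) := by
  refine exists_closure_equiv _ _ (ptEquiv C C') ?_ ?_
  · rintro x (hx | hx)
    · by_cases hxZ : x ∈ S.Z
      · obtain ⟨d, rfl⟩ := C.exists_uni hxZ
        exact ⟨_, Or.inl (S'.Z_le (C'.el_uni_mem d)), ptMap_el_smul C C' _⟩
      · refine ⟨_, Or.inl (C'.yy_mem (C.ell x)), fun p => ?_⟩
        have := ptMap_yy_smul C C' hθ hθ' hq hcc heq (C.ell x) p
        rwa [C.yy_eq hx hxZ rfl] at this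
    · refine ⟨t', Or.inr rfl, fun p => ?_⟩
      obtain rfl : x = t := hx
      have h1 := ptMap_el_smul C C' swp p
      rw [C.el_swp, C'.el_swp] at h1
      exact h1
  · rintro x (hx | hx)
    · by_cases hxZ : x ∈ S'.Z
      · obtain ⟨d, rfl⟩ := C'.exists_uni hxZ
        exact ⟨_, Or.inl (S.Z_le (C.el_uni_mem d)), ptMap_el_smul C C' _⟩
      · refine ⟨_, Or.inl (C.yy_mem (C'.ell x)), fun p => ?_⟩
        have := ptMap_yy_smul C C' hθ hθ' hq hcc heq (C'.ell x) p
        rwa [C'.yy_eq hx hxZ rfl] at this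
    · refine ⟨t, Or.inr rfl, fun p => ?_⟩
      obtain rfl : x = t' := hx
      have h1 := ptMap_el_smul C C' swp p
      rw [C.el_swp, C'.el_swp] at h1
      exact h1

end CfsgLib.Recog.RankOneSuzuki
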