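import Cfsg.Agent.Recog.RankOneSuzuki.Form
import Cfsg.Agent.Recog.RankOneSuzuki.Match
import Cfsg.Agent.Recog.RankOneSuzuki.BlockMap
import Cfsg.Agent.Recog.RankOneSuzuki.Model
import Cfsg.Agent.Recog.RankOneSuzuki.Cases

/-!
# Suzuki's rank one theorem: the unitary case
-/

set_option autoImplicit false
set_option linter.unusedSectionVars false
set_option linter.style.haveILetI false

namespace CfsgLib.Recog.RankOneSuzuki

open MulAction CfsgLib.Recog.RankOne

variable {G Ω : Type*} [Group G] [MulAction G Ω] {a : Ω} {t : G} {Q : Subgroup G}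

namespace Data

/-- A chart from a block with regular group when `|Q| = q³`. -/
theorem exists_chart [Finite G] (S : Data a t Q) {F : Type} [Field F] [Fintype F] [CharP F 2]
    {n : ℕ} (hn : 2 ≤ n) (hF : Fintype.card F = 2 ^ n) (hQ : Nat.card Q = (2 ^ n) ^ 3)
    (X : Block S F) (hreg : X.IsRegular) (hr : S.r = S.s) (hsq : ∀ y ∈ Q, y * y ∈ S.Z) :
    Nonempty (Chart S F) := by
  haveI := finite_points S.setup
  by_contra hne
  have hall : ∀ p : Ω, ∃ w : F × F, w ≠ 0 ∧ X.P w = p := by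
    intro p
    by_contra hp
    exact hne ⟨⟨X, p, fun w hw h => hp ⟨w, hw, h⟩, hreg, hr, hsq⟩⟩
  choose f hf0 hf using hall
  have hinj : Function.Injective f := fun p q h => by rw [← hf p, ← hf q, h]
  have hle : Nat.card Ω ≤ Nat.card (F × F) := Nat.card_le_card_of_injective f hinj
  rw [card_points S.setup, hQ, Nat.card_prod, Nat.card_eq_fintype_card, hF] at hle
  have h2 : 2 ≤ 2 ^ n := Nat.le_self_pow (by omega) 2
  nlinarith [Nat.mul_le_mul h2 (le_refl (2 ^ n * 2 ^ n))]

end Data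

variable {G' Ω' : Type*} [Group G'] [MulAction G' Ω'] {a' : Ω'} {t' : G'} {Q' : Subgroup G'}

/-- Two set-ups with the same `q` in the unitary case generate isomorphic groups. -/
theorem exists_equiv_cube [Finite G] [Finite G'] [FaithfulSMul G Ω] [FaithfulSMul G' Ω']
    (S : Data a t Q) (S' : Data a' t' Q') {F F' : Type} [Field F] [Fintype F] [CharP F 2]
    [Field F'] [Fintype F'] [CharP F' 2] {n : ℕ} (hn : 2 ≤ n) (hF : Fintype.card F = 2 ^ n)
    (hF' : Fintype.card F' = 2 ^ n) (hQ : Nat.card Q = (2 ^ n) ^ 3) (hQ' : Nat.card Q' = (2 ^ n) ^ 3)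
    (X : Block S F) (hX : X.IsRegular) (X' : Block S' F') (hX' : X'.IsRegular)
    (hr : S.r = S.s) (hr' : S'.r = S'.s)
    (hsq : ∀ y ∈ Q, y * y ∈ S.Z) (hsq' : ∀ y ∈ Q', y * y ∈ S'.Z)
    (hform : ∀ qf qf' : F × F → F, IsForm qf → IsForm qf' →
      ∃ g : Matrix.SpecialLinearGroup (Fin 2) F, ∀ w, qf' w = qf (app g w)) :
    Nonempty (Subgroup.closure ((Q : Set G) ∪ {t}) ≃*
      Subgroup.closure ((Q' : Set G') ∪ {t'})) := by
  haveI := finite_points S.setup
  haveI := finite_points S'.setup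
  let e : F ≃+* F' := FiniteField.ringEquivOfCardEq (hF.trans hF'.symm)
  obtain ⟨C⟩ := S.exists_chart hn hF hQ X hX hr hsq
  obtain ⟨C'⟩ := S'.exists_chart hn hF hQ' (X'.map e) (Block.map_isRegular hX' e) hr' hsq'
  have hcard : Nat.card F = 2 ^ n := by rw [Nat.card_eq_fintype_card, hF]
  obtain ⟨qf, hq, hcc, hθ⟩ := C.exists_form hn hcard
  obtain ⟨qf', hq', hcc', hθ'⟩ := C'.exists_form hn hcard
  obtain ⟨g, hg⟩ := hform qf' qf hq' hq
  refine exists_equiv_of_cc C (C'.change g⁻¹) hθ (fun l => ?_) hq hcc (funext fun l => ?_)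
  · rw [C'.θ_change]; exact hθ' _
  · rw [C'.cc_change]
    have h1 := hcc' (l * g⁻¹)
    have h2 := hcc l
    rw [mul_inv_rev, inv_inv, app_mul, ← hg] at h1
    exact mul_right_cancel₀ (fun h => by rw [h, mul_zero] at h2; exact zero_ne_one h2)
      (h1.trans h2.symm)

end CfsgLib.Recog.RankOneSuzuki
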