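import Mathlib
import Cfsg.Agent.Invol.FocalTransfer

/-!
# Auxiliary facts for the abelian case of Suzuki's rank one theorem
-/

set_option autoImplicit false
set_option linter.unusedSectionVars false
set_option linter.style.haveILetI false

namespace CfsgLib.Recog.RankOneSuzuki.AbelianAux

/-- A conjugation of prime order permuting a set of size prime to it fixes one of its elements. -/
theorem exists_fixed {G : Type*} [Group G] [Finite G] {p : ℕ} [Fact p.Prime] {v : G} (hv : v ^ p = 1)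
    (T : Set G) (hT : ∀ x ∈ T, v * x * v⁻¹ ∈ T) (hcard : ¬ p ∣ Nat.card T) :
    ∃ x ∈ T, v * x = x * v := by
  classical
  haveI := Fintype.ofFinite G
  have hmem : ∀ x ∈ T, MulAut.conj v x ∈ T := fun x hx => by simpa using hT x hx
  let f : T → T := fun x => ⟨MulAut.conj v x, hmem x x.2⟩
  have hf : Function.Injective f := fun x y h =>
    Subtype.ext ((MulAut.conj v).injective (congrArg Subtype.val h))
  let σ : Equiv.Perm T := Equiv.ofBijective f (Finite.injective_iff_bijective.1 hf)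
  have hpow : ∀ (i : ℕ) (x : T), ((σ ^ i) x : G) = v ^ i * (x : G) * (v ^ i)⁻¹ := by
    intro i
    induction i with
    | zero => simp
    | succ i ih =>
      intro x
      rw [pow_succ', Equiv.Perm.mul_apply]
      show MulAut.conj v ((σ ^ i) x : G) = _
      rw [ih, MulAut.conj_apply, pow_succ']
      group
  have hσ : σ ^ p ^ 1 = 1 := by
    ext x
    rw [pow_one, hpow, hv]; simp
  obtain ⟨x, hx⟩ := Equiv.Perm.exists_fixed_point_of_prime (p := p) (n := 1)
    (by rwa [← Nat.card_eq_fintype_card]) hσ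
  refine ⟨x, x.2, ?_⟩
  have h0 : ((σ x : T) : G) = v * (x : G) * v⁻¹ := rfl
  have h : v * (x : G) * v⁻¹ = x := by rw [← h0, hx]
  exact mul_inv_eq_iff_eq_mul.1 h

/-- A set of permuted elements with free action of a group has size divisible by the order. -/
theorem card_dvd_of_free {H α : Type*} [Group H] [MulAction H α] [Finite H] [Finite α] (T : Set α)
    (hT : ∀ h : H, ∀ x ∈ T, h • x ∈ T) (hfree : ∀ h : H, ∀ x ∈ T, h • x = x → h = 1) :
    Nat.card H ∣ Nat.card T := by
  classical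
  letI : MulAction H T :=
    { smul := fun h x => ⟨h • (x : α), hT h x x.2⟩
      one_smul := fun x => Subtype.ext (one_smul H (x : α))
      mul_smul := fun h h' x => Subtype.ext (mul_smul h h' (x : α)) }
  have hst : ∀ x : T, MulAction.stabilizer H x = ⊥ := fun x => (Subgroup.eq_bot_iff_forall _).2
    fun h hh => hfree h x x.2 (congrArg Subtype.val (MulAction.mem_stabilizer_iff.1 hh))
  let e := MulAction.selfEquivSigmaOrbitsQuotientStabilizer H T
  rw [Nat.card_congr e]
  haveI : Finite (Σ ω : MulAction.orbitRel.Quotient H T, H ⧸ MulAction.stabilizer H ω.out) :=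
    Finite.of_equiv _ e
  haveI := Fintype.ofFinite (MulAction.orbitRel.Quotient H T)
  rw [Nat.card_sigma]
  refine Finset.dvd_sum fun ω _ => dvd_of_eq ?_
  rw [hst]
  exact Nat.card_congr QuotientGroup.quotientBot.toEquiv.symm

/-- `(p-1)^p + 1` is `p²` modulo `p³`. -/
theorem pred_pow_add_one {p : ℕ} (hp : p.Prime) (hp2 : p ≠ 2) :
    ∃ z : ℕ, (p - 1) ^ p + 1 = p ^ 2 * (1 + p * z) := by
  have key : ∀ k : ℕ, ∃ c z : ℤ, (1 - (p : ℤ)) ^ k = 1 - k * p + c * (p : ℤ) ^ 2 + (p : ℤ) ^ 3 * z ∧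
      2 * c = (k : ℤ) * (k - 1) := by
    intro k
    induction k with
    | zero => exact ⟨0, 0, by simp, by simp⟩
    | succ k ih =>
      obtain ⟨c, z, h1, h2⟩ := ih
      refine ⟨c + k, z - z * p - c, ?_, ?_⟩
      · rw [pow_succ, h1]; push_cast; ring
      · push_cast; linarith
  obtain ⟨c, z, h1, h2⟩ := key p
  have hodd := hp.odd_of_ne_two hp2
  have hc : (p : ℤ) ∣ c := by
    have hd : (p : ℤ) ∣ 2 * c := ⟨(p : ℤ) - 1, h2⟩
    refine ((Nat.prime_iff_prime_int.1 hp).dvd_mul.1 hd).resolve_left fun h => ?_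
    have h' : p ∣ 2 := by exact_mod_cast h
    exact hp2 ((Nat.prime_dvd_prime_iff_eq hp Nat.prime_two).1 h')
  obtain ⟨c', rfl⟩ := hc
  have h3 : (((p - 1) ^ p + 1 : ℕ) : ℤ) = (p : ℤ) ^ 2 * (1 + (p : ℤ) * (-c' - z)) := by
    push_cast [Nat.cast_sub hp.one_le]
    rw [show ((p : ℤ) - 1) = -(1 - (p : ℤ)) by ring, hodd.neg_pow, h1]
    ring
  have hnn : (0 : ℤ) ≤ -c' - z := by
    by_contra h
    have hp' : (2 : ℤ) ≤ p := by exact_mod_cast hp.two_le
    have : 1 + (p : ℤ) * (-c' - z) ≤ 0 := by nlinarith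
    have hpos : (0 : ℤ) < (((p - 1) ^ p + 1 : ℕ) : ℤ) := by positivity
    rw [h3] at hpos
    nlinarith [sq_nonneg (p : ℤ)]
  refine ⟨(-c' - z).toNat, ?_⟩
  have : (((p - 1) ^ p + 1 : ℕ) : ℤ) = ((p ^ 2 * (1 + p * (-c' - z).toNat) : ℕ) : ℤ) := by
    rw [h3]; push_cast [Int.toNat_of_nonneg hnn]; ring
  exact_mod_cast this

/-- A group of automorphisms of a finite field with fixed field of two elements. -/
theorem card_field_eq {F : Type*} [Field F] [Finite F] (H : Subgroup (F ≃+* F))
    (h : ∀ x : F, (∀ f ∈ H, f x = x) → x = 0 ∨ x = 1) : Nat.card F = 2 ^ Nat.card H := by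
  classical
  haveI := Fintype.ofFinite F
  haveI : Finite (F ≃+* F) := Finite.of_injective (fun f => (f : F → F)) DFunLike.coe_injective
  haveI := Fintype.ofFinite H
  letI : MulSemiringAction H F :=
    { smul := fun f x => (f : F ≃+* F) x
      one_smul := fun _ => rfl
      mul_smul := fun _ _ _ => rfl
      smul_zero := fun f => map_zero (f : F ≃+* F)
      smul_add := fun f => map_add (f : F ≃+* F)
      smul_one := fun f => map_one (f : F ≃+* F)
      smul_mul := fun f => map_mul (f : F ≃+* F) }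
  haveI : FaithfulSMul H F := ⟨fun {f g} hfg => Subtype.ext (RingEquiv.ext hfg)⟩
  have hsub : Nat.card (FixedPoints.subfield H F) = 2 := by
    have hset : ((FixedPoints.subfield H F : Subfield F) : Set F) = {0, 1} := by
      ext x
      refine ⟨fun hx => h x fun f hf => hx ⟨f, hf⟩, ?_⟩
      rintro (rfl | rfl)
      · exact zero_mem _
      · exact one_mem _
    calc Nat.card (FixedPoints.subfield H F)
        = ((FixedPoints.subfield H F : Subfield F) : Set F).ncard := Nat.card_coe_set_eq _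
      _ = 2 := by rw [hset, Set.ncard_pair zero_ne_one]
  rw [Module.natCard_eq_pow_finrank (K := FixedPoints.subfield H F) (V := F), hsub,
    FixedPoints.finrank_eq_card, Nat.card_eq_fintype_card]

/-- Transfer into a quotient of prime order. -/
theorem exists_hom {G : Type*} [Group G] [Finite G] {p : ℕ} [hp : Fact p.Prime] (H N : Subgroup G)
    (hNH : N ≤ H) (hN : (N.subgroupOf H).Normal) (hcard : Nat.card H = p * Nat.card N)
    (hidx : ¬ p ∣ H.index) {v : G} (hv : v ∈ H) (hvp : v ^ p = 1) (hvN : v ∉ N)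
    (hfus : ∀ (k : ℕ) (g : G), ¬ p ∣ k → g⁻¹ * v ^ k * g ∈ H → g⁻¹ * v ^ k * g * (v ^ k)⁻¹ ∈ N) :
    ∃ L : Subgroup G, L.Normal ∧ v ∉ L ∧ ∀ x : G, (orderOf x).Coprime p → x ∈ L := by
  haveI := hN
  have hA : Nat.card (H ⧸ N.subgroupOf H) = p := by
    have h1 := Subgroup.card_eq_card_quotient_mul_card_subgroup (N.subgroupOf H)
    rw [Nat.card_congr (Subgroup.subgroupOfEquivOfLe hNH).toEquiv, hcard] at h1
    exact (Nat.eq_of_mul_eq_mul_right Nat.card_pos h1).symm
  letI : CommGroup (H ⧸ N.subgroupOf H) :=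
    { (inferInstance : Group (H ⧸ N.subgroupOf H)) with
      mul_comm := fun x y => by
        haveI := isCyclic_of_prime_card hA
        exact IsCyclic.commGroup.mul_comm x y }
  let φ := QuotientGroup.mk' (N.subgroupOf H)
  have hord : orderOf v = p := orderOf_eq_prime hvp fun h => hvN (h ▸ N.one_mem)
  have hne : φ ⟨v, hv⟩ ≠ 1 := fun h =>
    hvN (Subgroup.mem_subgroupOf.1 ((QuotientGroup.eq_one_iff _).1 h))
  have key : ∀ (k : ℕ) (g : G) (h : g⁻¹ * v ^ k * g ∈ H), φ ⟨_, h⟩ = φ ⟨v, hv⟩ ^ k := by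
    intro k g h
    rw [← map_pow, ← mul_inv_eq_one, ← map_inv, ← map_mul]
    refine (QuotientGroup.eq_one_iff _).2 (Subgroup.mem_subgroupOf.2 ?_)
    by_cases hk : p ∣ k
    · obtain ⟨j, rfl⟩ := hk
      simp [pow_mul, hvp]
    · simpa using hfus k g hk h
  have ht : MonoidHom.transfer φ v ≠ 1 := CfsgLib.FocalTransfer.transfer_ne_one φ
    (hp.out.coprime_iff_not_dvd.2 hidx) hv ⟨1, by rw [hord, pow_one]⟩ hne key
  refine ⟨(MonoidHom.transfer φ).ker, inferInstance, fun h => ht h, fun x hx => ?_⟩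
  refine MonoidHom.mem_ker.2 (orderOf_eq_one_iff.1 (Nat.eq_one_of_dvd_coprimes hx
    (orderOf_map_dvd _ x) ?_))
  rw [← hA]
  exact orderOf_dvd_natCard _

end CfsgLib.Recog.RankOneSuzuki.AbelianAux
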