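import Cfsg.Agent.Recog.RankOneSuzuki.Field
import Cfsg.Agent.Recog.RankOneSuzuki.AbelianAux

/-!
# Suzuki's rank one theorem: the centraliser of a generator of `V`

When `V = ⟨v⟩` has prime order and centralises no nontrivial element of `K`, the centraliser of `v`
acts on the fixed points of `v` with point stabiliser `C_Q(v) × V`.
-/

set_option autoImplicit false
set_option linter.unusedSectionVars false
set_option linter.style.haveILetI false

namespace CfsgLib.Recog.RankOneSuzuki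

open MulAction CfsgLib.Recog.RankOne

variable {G Ω : Type*} [Group G] [MulAction G Ω]

local notation "D[" a "," t "]" => stabilizer G a ⊓ stabilizer G (t • a)

namespace Data

variable {a : Ω} {t : G} {Q : Subgroup G}

local notation "CQ(" v ")" => Q ⊓ Subgroup.centralizer {v}

/-- The elements of the centraliser of `v` moving all fixed points of `v`. -/
def derangements' (_S : Data a t Q) (v : G) : Set G :=
  {x | x ∈ Subgroup.centralizer {v} ∧ ∀ c : Ω, v • c = c → x • c ≠ c}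

variable (S : Data a t Q)
include S

variable [Finite G]

/-- `v` fixes the point `q b` exactly when it centralises `q`. -/
theorem fix_iff {v q : G} (hv : v ∈ S.V) (hq : q ∈ Q) :
    v • q • t • a = q • t • a ↔ v * q = q * v := by
  refine ⟨fun h => ?_, fun h => by rw [← mul_smul, h, mul_smul, (S.V_mem_D hv).2]⟩
  exact commute_of_fix S.setup (S.V_mem_D hv).1 hq (b_ne S.setup) (S.V_mem_D hv).2 h

/-- The number of fixed points of `v`. -/
theorem card_fix {v : G} (hv : v ∈ S.V) :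
    Nat.card {c : Ω // v • c = c} = Nat.card ↥(CQ(v)) + 1 := by
  classical
  have := CfsgLib.Recog.RankOne.finite_points S.setup
  rw [← Finite.card_option (α := ↥(CQ(v)))]
  refine (Nat.card_congr (Equiv.ofBijective (fun o : Option ↥(CQ(v)) =>
    match o with
    | none => (⟨a, (S.V_mem_D hv).1⟩ : {c : Ω // v • c = c})
    | some q => ⟨(q : G) • t • a, (S.fix_iff hv q.2.1).2
        (Subgroup.mem_centralizer_singleton_iff.1 q.2.2).symm⟩) ⟨?_, ?_⟩)).symm
  · rintro (_ | x) (_ | y) h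
    · rfl
    · exact absurd (congrArg Subtype.val h).symm (smul_ne_a S.setup y.2.1 (b_ne S.setup))
    · exact absurd (congrArg Subtype.val h) (smul_ne_a S.setup x.2.1 (b_ne S.setup))
    · exact congrArg some (Subtype.ext (eq_of_smul_eq S.setup x.2.1 y.2.1 (b_ne S.setup)
        (congrArg Subtype.val h)))
  · rintro ⟨c, hc⟩
    by_cases hca : c = a
    · exact ⟨none, Subtype.ext hca.symm⟩
    obtain ⟨q, hq, rfl⟩ := exists_mem_smul S.setup hca
    exact ⟨some ⟨q, hq, Subgroup.mem_centralizer_singleton_iff.2 ((S.fix_iff hv hq).1 hc).symm⟩, rfl⟩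

/-- The centraliser of `v` is transitive on the fixed points of `v`. -/
theorem exists_to_fix {v : G} (hv : v ∈ S.V) {c : Ω} (hc : v • c = c) :
    ∃ g ∈ Subgroup.centralizer {v}, g • a = c := by
  by_cases hca : c = a
  · exact ⟨1, Subgroup.one_mem _, by rw [one_smul, hca]⟩
  obtain ⟨q, hq, rfl⟩ := exists_mem_smul S.setup hca
  refine ⟨q * t, Subgroup.mul_mem _
    (Subgroup.mem_centralizer_singleton_iff.2 ((S.fix_iff hv hq).1 hc).symm)
    (Subgroup.mem_centralizer_singleton_iff.2 (S.V_comm_t hv).symm), by rw [mul_smul]⟩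

variable {v : G} (hv : v ∈ S.V) (hV : S.V = Subgroup.zpowers v)
include hv hV

theorem V_comm_cent {x w : G} (hx : x ∈ Subgroup.centralizer {v}) (hw : w ∈ S.V) :
    x * w = w * x := by
  rw [hV] at hw
  obtain ⟨i, rfl⟩ := Subgroup.mem_zpowers_iff.1 hw
  exact (Commute.zpow_right (Subgroup.mem_centralizer_singleton_iff.1 hx) i)

theorem V_le_cent : S.V ≤ Subgroup.centralizer {v} := fun w hw =>
  Subgroup.mem_centralizer_singleton_iff.2
    (S.V_comm_cent hv hV (Subgroup.mem_centralizer_singleton_iff.2 rfl) hw).symm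

theorem V_fix {w : G} (hw : w ∈ S.V) {c : Ω} (hc : v • c = c) : w • c = c := by
  rw [hV] at hw
  have : Subgroup.zpowers v ≤ stabilizer G c := Subgroup.zpowers_le.2 hc
  exact this hw

/-- An element `q w` with `q ≠ 1` fixes only `a` among the fixed points of `v`. -/
theorem mul_fix {q w : G} (hq : q ∈ Q) (hq1 : q ≠ 1) (hw : w ∈ S.V) {c : Ω} (hc : v • c = c)
    (h : (q * w) • c = c) : c = a := by
  rw [mul_smul, S.V_fix hv hV hw hc] at h
  exact fix_only_a S.setup hq hq1 h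

variable (hKv : ∀ k ∈ S.K, v * k = k * v → k = 1)
include hKv

theorem cent_stab {x : G} (hx : x ∈ Subgroup.centralizer {v}) (hxa : x • a = a) :
    ∃ q ∈ CQ(v), ∃ w ∈ S.V, x = q * w := by
  obtain ⟨q, hq, d, hd, rfl⟩ := exists_mul S.setup hxa
  have hvD := S.V_mem_D hv
  have hx' : v * (q * d) = q * d * v := (Subgroup.mem_centralizer_singleton_iff.1 hx).symm
  obtain ⟨h1, h2⟩ := mul_unique S.setup (S.setup.conj_mem v hvD.1 q hq) hq
    ((D[a, t]).mul_mem ((D[a, t]).mul_mem hvD hd) ((D[a, t]).inv_mem hvD)) hd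
    (by rw [show v * q * v⁻¹ * (v * d * v⁻¹) = v * (q * d) * v⁻¹ by group, hx',
      mul_inv_cancel_right])
  obtain ⟨w, hw, hwt, k, hk, rfl⟩ := S.exists_K_mul_V hd
  have hwV : w ∈ S.V := ⟨hw, Subgroup.mem_centralizer_singleton_iff.2 hwt⟩
  have hk1 : k = 1 := by
    refine hKv k hk ?_
    have h3 := mul_inv_eq_iff_eq_mul.1 h2
    rw [← mul_assoc, ← S.V_comm_cent hv hV (Subgroup.mem_centralizer_singleton_iff.2 rfl) hwV |>.symm]
      at h3
    simpa [mul_assoc] using h3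
  refine ⟨q, ⟨hq, Subgroup.mem_centralizer_singleton_iff.2 (mul_inv_eq_iff_eq_mul.1 h1).symm⟩, w,
    hwV, by rw [hk1, mul_one]⟩

theorem card_cent : Nat.card ↥(Subgroup.centralizer ({v} : Set G)) =
    Nat.card {c : Ω // v • c = c} * (Nat.card ↥(CQ(v)) * Nat.card S.V) := by
  classical
  have hrep : ∀ c : {c : Ω // v • c = c}, ∃ g ∈ Subgroup.centralizer {v}, g • a = (c : Ω) :=
    fun c => S.exists_to_fix hv c.2
  choose rep hrepC hrepa using hrep
  rw [← Nat.card_prod, ← Nat.card_prod]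
  refine (Nat.card_congr (Equiv.ofBijective
    (fun p : {c : Ω // v • c = c} × ↥(CQ(v)) × S.V =>
      (⟨rep p.1 * ((p.2.1 : G) * p.2.2), Subgroup.mul_mem _ (hrepC _)
        (Subgroup.mul_mem _ p.2.1.2.2 (S.V_le_cent hv hV p.2.2.2))⟩ :
        ↥(Subgroup.centralizer ({v} : Set G)))) ⟨?_, ?_⟩)).symm
  · rintro ⟨c, q, w⟩ ⟨c', q', w'⟩ h
    have h' : rep c * ((q : G) * w) = rep c' * (q' * w') := congrArg Subtype.val h
    have hc : c = c' := by
      have := congrArg (· • a) h'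
      simp only [mul_smul, fix_a S.setup q.2.1, fix_a S.setup q'.2.1,
        mem_stabilizer_iff.1 (S.V_mem_D w.2).1,
        mem_stabilizer_iff.1 (S.V_mem_D w'.2).1, hrepa] at this
      exact Subtype.ext this
    subst hc
    obtain ⟨e1, e2⟩ := mul_unique S.setup q.2.1 q'.2.1 (S.V_mem_D w.2) (S.V_mem_D w'.2)
      (mul_left_cancel h')
    exact Prod.ext rfl (Prod.ext (Subtype.ext e1) (Subtype.ext e2))
  · rintro ⟨x, hx⟩
    have hxc : v • x • a = x • a := by
      rw [← mul_smul, (Subgroup.mem_centralizer_singleton_iff.1 hx).symm, mul_smul,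
        (S.V_mem_D hv).1]
    obtain ⟨q, hq, w, hw, he⟩ := S.cent_stab hv hV hKv
      (x := (rep ⟨_, hxc⟩)⁻¹ * x) (Subgroup.mul_mem _ (Subgroup.inv_mem _ (hrepC _)) hx)
      (by rw [mul_smul, inv_smul_eq_iff, hrepa])
    exact ⟨⟨⟨_, hxc⟩, ⟨q, hq⟩, ⟨w, hw⟩⟩, Subtype.ext (by
      show rep ⟨_, hxc⟩ * (q * w) = x
      rw [← he, mul_inv_cancel_left])⟩

theorem card_not_der :
    Nat.card ↥({x | x ∈ Subgroup.centralizer {v} ∧ x ∉ S.derangements' v ∧ x ∉ S.V} : Set G) =
      Nat.card {c : Ω // v • c = c} * ((Nat.card ↥(CQ(v)) - 1) * Nat.card S.V) := by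
  classical
  have hrep : ∀ c : {c : Ω // v • c = c}, ∃ g ∈ Subgroup.centralizer {v}, g • a = (c : Ω) :=
    fun c => S.exists_to_fix hv c.2
  choose rep hrepC hrepa using hrep
  have hone : Nat.card {q : ↥(CQ(v)) // (q : G) ≠ 1} = Nat.card ↥(CQ(v)) - 1 := by
    haveI := Fintype.ofFinite ↥(CQ(v))
    rw [Nat.card_congr (Equiv.subtypeEquivRight (q := fun q : ↥(CQ(v)) => q ≠ 1)
      fun q => by rw [ne_eq, OneMemClass.coe_eq_one]), Nat.card_eq_fintype_card,
      Fintype.card_subtype_compl, Fintype.card_subtype_eq, Nat.card_eq_fintype_card]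
  rw [← hone, ← Nat.card_prod, ← Nat.card_prod]
  have hfix : ∀ c : {c : Ω // v • c = c}, ∀ q : {q : ↥(CQ(v)) // (q : G) ≠ 1}, ∀ w : S.V,
      ∀ d : Ω, v • d = d → (rep c * (((q : ↥(CQ(v))) : G) * w) * (rep c)⁻¹) • d = d → d = c := by
    intro c q w d hd h
    rw [mul_smul, mul_smul] at h
    have hd' : v • (rep c)⁻¹ • d = (rep c)⁻¹ • d := by
      rw [← mul_smul, (Subgroup.mem_centralizer_singleton_iff.1
        (Subgroup.inv_mem _ (hrepC c))).symm, mul_smul, hd]
    have := S.mul_fix hv hV q.1.2.1 q.2 w.2 hd' (eq_inv_smul_iff.2 h).symm.symm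
    rw [← hrepa c, ← this, smul_inv_smul]
  refine (Nat.card_congr (Equiv.ofBijective
    (fun p : {c : Ω // v • c = c} × {q : ↥(CQ(v)) // (q : G) ≠ 1} × S.V =>
      (⟨rep p.1 * (((p.2.1 : ↥(CQ(v))) : G) * p.2.2) * (rep p.1)⁻¹, ?_, ?_, ?_⟩ :
        ↥({x | x ∈ Subgroup.centralizer {v} ∧ x ∉ S.derangements' v ∧ x ∉ S.V} : Set G)))
    ⟨?_, ?_⟩)).symm
  · exact Subgroup.mul_mem _ (Subgroup.mul_mem _ (hrepC _)
      (Subgroup.mul_mem _ p.2.1.1.2.2 (S.V_le_cent hv hV p.2.2.2))) (Subgroup.inv_mem _ (hrepC _))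
  · intro h
    refine h.2 p.1 p.1.2 ?_
    rw [mul_smul, mul_smul, ← hrepa p.1, inv_smul_smul, mul_smul,
      (S.V_mem_D p.2.2.2).1, fix_a S.setup p.2.1.1.2.1]
  · intro h
    have h' : ((p.2.1 : ↥(CQ(v))) : G) * p.2.2 ∈ S.V := by
      have e := S.V_comm_cent hv hV (Subgroup.inv_mem _ (hrepC p.1)) h
      have e' : ((p.2.1 : ↥(CQ(v))) : G) * p.2.2 =
          (rep p.1)⁻¹ * (rep p.1 * (((p.2.1 : ↥(CQ(v))) : G) * p.2.2) * (rep p.1)⁻¹) *
            rep p.1 := by group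
      rw [e', e, inv_mul_cancel_right]
      exact h
    have := S.V.mul_mem h' (S.V.inv_mem p.2.2.2)
    rw [mul_inv_cancel_right] at this
    exact p.2.1.2 (eq_one_of_mem_D S.setup p.2.1.1.2.1 (S.V_mem_D this).2)
  · rintro ⟨c, q, w⟩ ⟨c', q', w'⟩ h
    have h' : rep c * (((q : ↥(CQ(v))) : G) * w) * (rep c)⁻¹ =
        rep c' * (((q' : ↥(CQ(v))) : G) * w') * (rep c')⁻¹ := congrArg Subtype.val h
    have hc : c = c' := Subtype.ext <| hfix c' q' w' c c.2 (by
      rw [← h', mul_smul, mul_smul, ← hrepa c, inv_smul_smul, mul_smul, (S.V_mem_D w.2).1,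
        fix_a S.setup q.1.2.1])
    subst hc
    obtain ⟨e1, e2⟩ := mul_unique S.setup q.1.2.1 q'.1.2.1 (S.V_mem_D w.2) (S.V_mem_D w'.2)
      (mul_left_cancel (mul_right_cancel h'))
    exact Prod.ext rfl (Prod.ext (Subtype.ext (Subtype.ext e1)) (Subtype.ext e2))
  · rintro ⟨x, hx, hxD, hxV⟩
    obtain ⟨c, hc, hxc⟩ : ∃ c : Ω, v • c = c ∧ x • c = c := by
      by_contra h
      push Not at h
      exact hxD ⟨hx, h⟩
    obtain ⟨q, hq, w, hw, he⟩ := S.cent_stab hv hV hKv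
      (x := (rep ⟨c, hc⟩)⁻¹ * x * rep ⟨c, hc⟩)
      (Subgroup.mul_mem _ (Subgroup.mul_mem _ (Subgroup.inv_mem _ (hrepC _)) hx) (hrepC _))
      (by rw [mul_smul, mul_smul, hrepa, inv_smul_eq_iff]; exact hxc.trans (hrepa ⟨c, hc⟩).symm)
    have hq1 : q ≠ 1 := by
      intro h
      rw [h, one_mul] at he
      refine hxV ?_
      rw [show x = rep ⟨c, hc⟩ * w * (rep ⟨c, hc⟩)⁻¹ by rw [← he]; group,
        S.V_comm_cent hv hV (hrepC _) hw, mul_inv_cancel_right]
      exact hw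
    exact ⟨⟨⟨c, hc⟩, ⟨⟨q, hq⟩, hq1⟩, ⟨w, hw⟩⟩, Subtype.ext (by
      show rep ⟨c, hc⟩ * (q * w) * (rep ⟨c, hc⟩)⁻¹ = x
      rw [← he]; group)⟩

/-- The number of derangements. -/
theorem card_der :
    Nat.card (S.derangements' v) = Nat.card ↥(CQ(v)) * Nat.card S.V := by
  classical
  set C : Set G := ((Subgroup.centralizer {v} : Subgroup G) : Set G)
  set A : Set G := {x | x ∈ Subgroup.centralizer {v} ∧ x ∉ S.derangements' v ∧ x ∉ S.V}
  have hsplit : C = (A ∪ (S.V : Set G)) ∪ S.derangements' v := by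
    ext x
    constructor
    · intro hx
      by_cases h : x ∈ S.derangements' v
      · exact Or.inr h
      by_cases h' : x ∈ S.V
      · exact Or.inl (Or.inr h')
      · exact Or.inl (Or.inl ⟨hx, h, h'⟩)
    · rintro ((h | h) | h)
      · exact h.1
      · exact S.V_le_cent hv hV h
      · exact h.1
  have hd1 : Disjoint A (S.V : Set G) := Set.disjoint_left.2 fun x hx hxV => hx.2.2 hxV
  have hd2 : Disjoint (A ∪ (S.V : Set G)) (S.derangements' v) := by
    refine Set.disjoint_left.2 fun x hx hxD => ?_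
    rcases hx with h | h
    · exact h.2.1 hxD
    · exact hxD.2 a (S.V_mem_D hv).1 (S.V_mem_D h).1
  have h := congrArg Set.ncard hsplit
  rw [Set.ncard_union_eq hd2, Set.ncard_union_eq hd1, ← Nat.card_coe_set_eq C,
    ← Nat.card_coe_set_eq A, ← Nat.card_coe_set_eq (S.V : Set G),
    ← Nat.card_coe_set_eq (S.derangements' v)] at h
  change Nat.card ↥(Subgroup.centralizer ({v} : Set G)) = _ + Nat.card S.V + _ at h
  rw [S.card_cent hv hV hKv, S.card_not_der hv hV hKv, S.card_fix hv] at h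
  obtain ⟨n, hn⟩ : ∃ n, Nat.card ↥(CQ(v)) = n + 1 :=
    ⟨Nat.card ↥(CQ(v)) - 1, (Nat.sub_add_cancel Nat.card_pos).symm⟩
  rw [hn, Nat.add_sub_cancel] at h
  rw [hn]
  nlinarith

/-- The conjugation action is free. -/
theorem der_free {q x w : G} (hq : q ∈ CQ(v)) (hx : x ∈ S.derangements' v) (hw : w ∈ S.V)
    (h : q * x * q⁻¹ = x * w) : q = 1 := by
  by_contra hq1
  have hva : v • a = a := (S.V_mem_D hv).1
  refine hx.2 a hva (fix_only_a S.setup hq.1 hq1 ?_)
  have := congrArg (· • a) h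
  simpa [mul_smul, inv_smul_eq_iff.2 (fix_a S.setup hq.1).symm, S.V_fix hv hV hw hva] using this

/-- All derangements are conjugate modulo `V`. -/
theorem der_trans {x y : G} (hx : x ∈ S.derangements' v) (hy : y ∈ S.derangements' v) :
    ∃ q ∈ CQ(v), ∃ w ∈ S.V, y = q * x * q⁻¹ * w := by
  classical
  have hmem : ∀ p : ↥(CQ(v)) × S.V,
      (p.1 : G) * x * (p.1 : G)⁻¹ * p.2 ∈ S.derangements' v := by
    intro p
    have hqC : (p.1 : G) ∈ Subgroup.centralizer {v} := p.1.2.2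
    refine ⟨Subgroup.mul_mem _ (Subgroup.mul_mem _ (Subgroup.mul_mem _ hqC hx.1)
      (Subgroup.inv_mem _ hqC)) (S.V_le_cent hv hV p.2.2), fun c hc he => ?_⟩
    rw [mul_smul, S.V_fix hv hV p.2.2 hc, mul_smul, mul_smul, ← eq_inv_smul_iff] at he
    refine hx.2 _ ?_ he
    rw [← mul_smul, ← (Subgroup.mem_centralizer_singleton_iff.1 (Subgroup.inv_mem _ hqC)),
      mul_smul, hc]
  let f : ↥(CQ(v)) × S.V → S.derangements' v := fun p => ⟨_, hmem p⟩
  have hinj : Function.Injective f := by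
    rintro ⟨q, w⟩ ⟨q', w'⟩ h
    have h' : (q : G) * x * (q : G)⁻¹ * w = q' * x * (q' : G)⁻¹ * w' := congrArg Subtype.val h
    have hc : ((q' : G)⁻¹ * q) * x * ((q' : G)⁻¹ * q)⁻¹ = x * ((w' : G) * (w : G)⁻¹) := by
      have e := S.V_comm_cent hv hV (x := (q' : G)) q'.2.2 (S.V.mul_mem w'.2 (S.V.inv_mem w.2))
      calc ((q' : G)⁻¹ * q) * x * ((q' : G)⁻¹ * q)⁻¹
          = (q' : G)⁻¹ * ((q : G) * x * (q : G)⁻¹ * w) * (w : G)⁻¹ * q' := by group
        _ = (q' : G)⁻¹ * (q' * x * (q' : G)⁻¹ * w') * (w : G)⁻¹ * q' := by rw [h']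
        _ = x * (q' : G)⁻¹ * (((w' : G) * (w : G)⁻¹) * q') := by group
        _ = _ := by rw [← e]; group
    have hq : (q : G) = q' := (inv_mul_eq_one.1 (S.der_free hv hV hKv
      ((CQ(v)).mul_mem ((CQ(v)).inv_mem q'.2) q.2) hx (S.V.mul_mem w'.2 (S.V.inv_mem w.2)) hc)).symm
    rw [hq] at h'
    exact Prod.ext (Subtype.ext hq) (Subtype.ext (mul_left_cancel h'))
  have hsurj := (Nat.bijective_iff_injective_and_card f).2
    ⟨hinj, by rw [Nat.card_prod, S.card_der hv hV hKv]⟩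
  obtain ⟨⟨q, w⟩, hqw⟩ := hsurj.2 ⟨y, hy⟩
  exact ⟨q, q.2, w, w.2, (congrArg Subtype.val hqw).symm⟩

/-- If `p` divides the number of fixed points, that number is a power of `p` and the derangements
form with `V` a normal `p`-subgroup of the centraliser. -/
theorem exists_regular {p : ℕ} [hp : Fact p.Prime] (hvp : orderOf v = p) (hp2 : p ≠ 2)
    (hQ : IsPGroup 2 Q) (hdvd : p ∣ Nat.card ↥(CQ(v)) + 1) :
    ∃ d : ℕ, 0 < d ∧ Nat.card ↥(CQ(v)) + 1 = p ^ d ∧
      ∃ E : Subgroup G, (∀ x, x ∈ E ↔ x ∈ S.V ∨ x ∈ S.derangements' v) ∧ IsPGroup p E ∧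
        Nat.card E = p ^ (d + 1) := by
  classical
  set C := Subgroup.centralizer ({v} : Set G) with hC
  set n := Nat.card ↥(CQ(v)) with hn
  have hVp : Nat.card S.V = p := by rw [hV, Nat.card_zpowers, hvp]
  have hcard : Nat.card C = (n + 1) * (n * p) := by
    rw [S.card_cent hv hV hKv, S.card_fix hv, hVp]
  -- an element of `C` with a fixed point and odd order is in `V`
  have hodd : ∀ x ∈ C, Odd (orderOf x) → (∃ c : Ω, v • c = c ∧ x • c = c) → x ∈ S.V := by
    rintro x hx ho ⟨c, hc, hxc⟩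
    obtain ⟨g, hg, rfl⟩ := S.exists_to_fix hv hc
    obtain ⟨q, hq, w, hw, he⟩ := S.cent_stab hv hV hKv (x := g⁻¹ * x * g)
      (Subgroup.mul_mem _ (Subgroup.mul_mem _ (Subgroup.inv_mem _ hg) hx) hg)
      (by rw [mul_smul, mul_smul, inv_smul_eq_iff]; exact hxc)
    obtain ⟨i, hi⟩ := hQ ⟨q, hq.1⟩
    have hq2 : q ^ 2 ^ i = 1 := by simpa using congrArg Subtype.val hi
    have hqw : Commute q w := S.V_comm_cent hv hV hq.2 hw
    have h1 : (q * w) ^ orderOf x = 1 := by
      rw [← he, show g⁻¹ * x * g = MulAut.conj g⁻¹ x by simp, ← map_pow, pow_orderOf_eq_one,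
        map_one]
    rw [hqw.mul_pow] at h1
    have h2 : q ^ orderOf x = 1 :=
      eq_one_of_mem_D S.setup (Q.pow_mem hq.1 _) (by
        rw [eq_inv_of_mul_eq_one_left h1]
        exact (S.V_mem_D (S.V.inv_mem (S.V.pow_mem hw _))).2)
    have hq1 : q = 1 := orderOf_eq_one_iff.1 (Nat.eq_one_of_dvd_coprimes
      (((Nat.coprime_two_right.2 ho).symm).pow_left i) (orderOf_dvd_of_pow_eq_one hq2)
      (orderOf_dvd_of_pow_eq_one h2))
    rw [hq1, one_mul] at he
    rw [show x = g * w * g⁻¹ by rw [← he]; group, S.V_comm_cent hv hV hg hw, mul_inv_cancel_right]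
    exact hw
  -- a Sylow subgroup of the centraliser
  obtain ⟨P⟩ : Nonempty (Sylow p C) := inferInstance
  set E := (P : Subgroup C).map C.subtype with hE
  have hEp : IsPGroup p E := P.2.map _
  have hVE : S.V ≤ E := by
    obtain ⟨T, hT⟩ : ∃ T : Sylow p C, (S.V.subgroupOf C : Subgroup C) ≤ T := by
      refine IsPGroup.exists_le_sylow ?_
      refine IsPGroup.of_card (n := 1) ?_
      rw [pow_one, Nat.card_congr (Subgroup.subgroupOfEquivOfLe (S.V_le_cent hv hV)).toEquiv, hVp]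
    obtain ⟨g, rfl⟩ := MulAction.exists_smul_eq C T P
    intro w hw
    refine ⟨g * ⟨w, S.V_le_cent hv hV hw⟩ * g⁻¹, ?_, ?_⟩
    · rw [Sylow.coe_subgroup_smul]
      exact Subgroup.smul_mem_pointwise_smul _ (MulAut.conj g) _ (hT hw)
    · show (g : G) * w * (g : G)⁻¹ = w
      rw [S.V_comm_cent hv hV g.2 hw, mul_inv_cancel_right]
  have hEC : E ≤ C := Subgroup.map_subtype_le _
  have hEd : ∀ x ∈ E, x ∉ S.V → x ∈ S.derangements' v := by
    intro x hx hxV
    refine ⟨hEC hx, fun c hc hxc => hxV (hodd x (hEC hx) ?_ ⟨c, hc, hxc⟩)⟩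
    obtain ⟨k, hk⟩ := IsPGroup.iff_orderOf.1 hEp ⟨x, hx⟩
    rw [Subgroup.orderOf_mk] at hk
    rw [hk]
    exact (hp.out.odd_of_ne_two hp2).pow
  have hn2 : ∃ i, n = 2 ^ i := by
    haveI : Fact (Nat.Prime 2) := ⟨Nat.prime_two⟩
    exact IsPGroup.iff_card.1 (hQ.to_le inf_le_left)
  have hpn : ¬ p ∣ n := by
    obtain ⟨i, hi⟩ := hn2
    rw [hi]
    exact fun h => hp2 ((Nat.prime_dvd_prime_iff_eq hp.out Nat.prime_two).1
      (hp.out.dvd_of_dvd_pow h))
  have hEcard : Nat.card E = Nat.card (P : Subgroup C) :=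
    Nat.card_congr ((P : Subgroup C).equivMapOfInjective _ Subtype.val_injective).toEquiv.symm
  obtain ⟨x₀, hx₀, hx₀V⟩ : ∃ x ∈ E, x ∉ S.V := by
    by_contra h
    push Not at h
    have h1 : p ^ 2 ∣ Nat.card (P : Subgroup C) := P.pow_dvd_card_of_pow_dvd_card (by
      rw [hcard, pow_two]
      exact mul_dvd_mul hdvd (dvd_mul_left p n))
    rw [← hEcard] at h1
    have h2 := Nat.le_of_dvd (Nat.card_pos) h1
    have h3 : Nat.card E ≤ Nat.card S.V := Subgroup.card_le_of_le h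
    rw [hVp] at h3
    nlinarith [hp.out.two_le]
  have hMpow : ∀ ℓ : ℕ, ℓ.Prime → ℓ ∣ n + 1 → ℓ = p := by
    intro ℓ hℓ hℓd
    by_contra hne
    haveI := Fact.mk hℓ
    obtain ⟨y, hy⟩ := exists_prime_orderOf_dvd_card' (G := C) ℓ (hℓd.trans (hcard ▸ dvd_mul_right _ _))
    have hℓ2 : ℓ ≠ 2 := by
      rintro rfl
      obtain ⟨i, hi⟩ := hn2
      rcases Nat.eq_zero_or_pos i with rfl | hi0
      · rw [hi, pow_zero] at hdvd
        exact hne ((Nat.prime_dvd_prime_iff_eq hp.out Nat.prime_two).1 hdvd).symm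
      · have h2n : 2 ∣ n := hi ▸ dvd_pow_self 2 hi0.ne'
        omega
    rw [← Subgroup.orderOf_coe] at hy
    have hyV : (y : G) ∉ S.V := fun h => hne
      ((Nat.prime_dvd_prime_iff_eq hℓ hp.out).1 (by
        rw [← hy, ← hVp]; exact Subgroup.orderOf_dvd_natCard _ h))
    have hyd : (y : G) ∈ S.derangements' v :=
      ⟨y.2, fun c hc hyc => hyV (hodd y y.2 (hy ▸ hℓ.odd_of_ne_two hℓ2) ⟨c, hc, hyc⟩)⟩
    obtain ⟨q, hq, w, hw, he⟩ := S.der_trans hv hV hKv (hEd x₀ hx₀ hx₀V) hyd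
    obtain ⟨j, hj⟩ := IsPGroup.iff_orderOf.1 hEp ⟨x₀, hx₀⟩
    rw [Subgroup.orderOf_mk] at hj
    have hyp : (y : G) ^ p ^ (j + 1) = 1 := by
      have hcw : Commute (q * x₀ * q⁻¹) w := S.V_comm_cent hv hV
        (Subgroup.mul_mem _ (Subgroup.mul_mem _ hq.2 (hEC hx₀)) (Subgroup.inv_mem _ hq.2)) hw
      rw [he, hcw.mul_pow, ← MulAut.conj_apply, ← map_pow,
        orderOf_dvd_iff_pow_eq_one.1 (hj ▸ pow_dvd_pow p (Nat.le_succ j)), map_one, one_mul]
      exact orderOf_dvd_iff_pow_eq_one.1 ((Subgroup.orderOf_dvd_natCard _ hw).trans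
        (hVp ▸ dvd_pow_self p (Nat.succ_ne_zero j)))
    exact hne ((Nat.prime_dvd_prime_iff_eq hℓ hp.out).1
      (hℓ.dvd_of_dvd_pow (hy ▸ orderOf_dvd_of_pow_eq_one hyp)))
  have hM := Nat.eq_prime_pow_of_unique_prime_dvd (Nat.succ_ne_zero n) fun {l} hl hld => hMpow l hl hld
  set d := (n + 1).primeFactorsList.length
  have hd0 : 0 < d := Nat.pos_of_ne_zero fun h => by
    rw [Nat.succ_eq_add_one, h, pow_zero] at hM
    have : n = 0 := by omega
    exact Nat.card_pos.ne' this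
  have hEcard' : Nat.card E = p ^ (d + 1) := by
    rw [hEcard, P.card_eq_multiplicity, hcard]
    congr 1
    rw [Nat.factorization_mul (Nat.succ_ne_zero n) (Nat.mul_ne_zero Nat.card_pos.ne' hp.out.ne_zero),
      Finsupp.add_apply, Nat.factorization_mul Nat.card_pos.ne' hp.out.ne_zero, Finsupp.add_apply,
      Nat.factorization_eq_zero_of_not_dvd hpn, hp.out.factorization_self, hM,
      hp.out.factorization_pow, Finsupp.single_eq_same]
  refine ⟨d, hd0, hM, E, fun x => ⟨fun hx => ?_, ?_⟩, hEp, hEcard'⟩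
  · by_cases h : x ∈ S.V
    · exact Or.inl h
    · exact Or.inr (hEd x hx h)
  · have hsub : (E : Set G) ⊆ (S.V : Set G) ∪ S.derangements' v := fun z hz => by
      by_cases h : z ∈ S.V
      · exact Or.inl h
      · exact Or.inr (hEd z hz h)
    have hle : ((S.V : Set G) ∪ S.derangements' v).ncard ≤ (E : Set G).ncard := by
      refine (Set.ncard_union_le _ _).trans (le_of_eq ?_)
      rw [← Nat.card_coe_set_eq, ← Nat.card_coe_set_eq, ← Nat.card_coe_set_eq]
      show Nat.card S.V + _ = Nat.card E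
      rw [S.card_der hv hV hKv, hVp, hEcard', pow_succ, ← hM, ← hn, Nat.succ_eq_add_one]
      ring
    have := Set.eq_of_subset_of_ncard_le hsub hle (Set.toFinite _)
    intro hx
    show x ∈ (E : Set G)
    rw [this]
    exact hx

end Data

end CfsgLib.Recog.RankOneSuzuki
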