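import Cfsg.Agent.Recog.RankOneSuzuki.TwoGroup
import Cfsg.Agent.Recog.RankOneSuzuki.Field
import Cfsg.Agent.Recog.RankOneSuzuki.AbelianAux

/-!
# Suzuki's rank one theorem: the layers of an abelian `Q` under an element of `V`
-/

set_option autoImplicit false
set_option linter.unusedSectionVars false
set_option linter.style.haveILetI false

namespace CfsgLib.Recog.RankOneSuzuki

open MulAction CfsgLib.Recog.RankOne

variable {G Ω : Type*} [Group G] [MulAction G Ω]

namespace Data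

variable {a : Ω} {t : G} {Q : Subgroup G} (S : Data a t Q)
include S

theorem V_conj_Q {v x : G} (hv : v ∈ S.V) (hx : x ∈ Q) : v * x * v⁻¹ ∈ Q :=
  S.setup.conj_mem v (S.V_mem_D hv).1 x hx

variable [Finite G] [FaithfulSMul G Ω]

theorem orderOf_odd_V {v : G} (hv : v ∈ S.V) : Odd (orderOf v) :=
  S.setup.odd_card.of_dvd_nat (Subgroup.orderOf_dvd_natCard _ (S.V_mem_D hv))

variable (hcomm : ∀ x ∈ Q, ∀ y ∈ Q, x * y = y * x)
include hcomm

/-- With `Q` abelian an element of `V` centralising all involutions at `a` is trivial. -/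
theorem eq_one_of_centralizes {v : G} (hv : v ∈ S.V) (hZ : ∀ z ∈ S.Z, v * z = z * v) : v = 1 := by
  have key : ∀ (k : ℕ) (x : G), x ∈ Q → x ^ 2 ^ k = 1 → v * x = x * v := by
    intro k
    induction k with
    | zero =>
      intro x _ hx
      rw [pow_zero, pow_one] at hx
      rw [hx, mul_one, one_mul]
    | succ k ih =>
      intro x hx hxk
      set z := v * x * v⁻¹ * x⁻¹ with hz
      have hzQ : z ∈ Q := Q.mul_mem (S.V_conj_Q hv hx) (Q.inv_mem hx)
      have h2 : v * (x * x) = x * x * v :=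
        ih _ (Q.mul_mem hx hx) (by rw [← pow_two, ← pow_mul, ← pow_succ', hxk])
      have hzx : z * x = v * x * v⁻¹ := by rw [hz, inv_mul_cancel_right]
      have hc := hcomm x hx z hzQ
      have hz2 : z * z = 1 := by
        have h3 : z * x * (z * x) = x * x := by
          rw [hzx, show v * x * v⁻¹ * (v * x * v⁻¹) = v * (x * x) * v⁻¹ by group, h2,
            mul_inv_cancel_right]
        have h4 : z * z * (x * x) = x * x := by
          rw [show z * z * (x * x) = z * (z * x) * x by group, ← hc,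
            show z * (x * z) * x = z * x * (z * x) by group, h3]
        exact mul_eq_right.1 h4
      have hvz : v * z * v⁻¹ = z := by
        rw [hZ z ((S.mem_Z z).2 ⟨hzQ, hz2⟩), mul_inv_cancel_right]
      have hpow : ∀ i : ℕ, v ^ i * x * (v ^ i)⁻¹ = z ^ i * x := by
        intro i
        induction i with
        | zero => simp
        | succ i ihi =>
          rw [pow_succ' v, show v * v ^ i * x * (v * v ^ i)⁻¹ = v * (v ^ i * x * (v ^ i)⁻¹) * v⁻¹ by
            group, ihi, show v * (z ^ i * x) * v⁻¹ = (v * z * v⁻¹) ^ i * (v * x * v⁻¹) by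
              rw [conj_pow]; group, hvz, pow_succ z, mul_assoc (z ^ i) z x, hzx]
      have hz1 : z = 1 := by
        have h5 := hpow (orderOf v)
        rw [pow_orderOf_eq_one, one_mul, inv_one, mul_one] at h5
        have h6 : z ^ orderOf v = 1 := mul_eq_right.1 h5.symm
        obtain ⟨i, hi⟩ := S.orderOf_odd_V hv
        rw [hi, pow_succ, pow_mul, pow_two, hz2, one_pow, one_mul] at h6
        exact h6
      rw [hz1, one_mul] at hzx
      exact (mul_inv_eq_iff_eq_mul.1 hzx.symm)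
  obtain hP := S.isPGroup_Q
  refine FaithfulSMul.eq_of_smul_eq_smul fun c : Ω => ?_
  rw [one_smul]
  by_cases hc : c = a
  · rw [hc]; exact (S.V_mem_D hv).1
  obtain ⟨q, hq, rfl⟩ := exists_mem_smul S.setup hc
  obtain ⟨k, hk⟩ := hP ⟨q, hq⟩
  rw [← mul_smul, key k q hq (by simpa using congrArg Subtype.val hk), mul_smul,
    (S.V_mem_D hv).2]

omit hcomm in
omit [FaithfulSMul G Ω] in
/-- If every nontrivial element of `V` fixes only `1` and `s` in `Z`, each of them generates `V`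
and `|Z| = 2^|V|`. -/
theorem card_Z_eq (hker : ∀ v ∈ S.V, (∀ z ∈ S.Z, v * z = z * v) → v = 1)
    {F : Type} [Field F] [Fintype F] [CharP F 2] (M : FieldModel S F)
    (hF : Fintype.card F = Nat.card S.Z)
    (hsmall : ∀ v ∈ S.V, v ≠ 1 → ∀ z ∈ S.Z, v * z = z * v → z = 1 ∨ z = S.s) :
    ∀ v ∈ S.V, v ≠ 1 → orderOf v = Nat.card S.V ∧ Nat.card S.Z = 2 ^ Nat.card S.V := by
  classical
  intro v hv hv1
  have hinj : Function.Injective M.σ := by
    refine (injective_iff_map_eq_one _).2 fun w hw => ?_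
    have hW := (M.ker_σ w).1 hw
    refine Subtype.ext (hker w w.2 fun z hz => ?_)
    exact (Subgroup.mem_centralizer_iff.1 (Subgroup.mem_inf.1 hW).2 z hz).symm
  have hι1 : M.ι 1 = 0 := by
    have h := M.ι_mul 1 1
    rw [mul_one] at h
    exact left_eq_add.1 h
  have hfix : ∀ x : F, M.σ ⟨v, hv⟩ x = x → x = 0 ∨ x = 1 := by
    intro x hx
    obtain ⟨⟨z, hz⟩, rfl⟩ := M.ι.surjective x
    have hmem := S.V_conj_Z hv hz
    have h1 : (⟨v * z * v⁻¹, hmem⟩ : S.Z) = ⟨z, hz⟩ :=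
      M.ι.injective ((M.ι_V ⟨v, hv⟩ ⟨z, hz⟩ hmem).trans hx)
    have h2 : v * z = z * v := mul_inv_eq_iff_eq_mul.1 (congrArg Subtype.val h1)
    rcases hsmall v hv hv1 z hz h2 with h | h
    · left
      rw [show (⟨z, hz⟩ : S.Z) = 1 from Subtype.ext h, hι1]
    · right
      subst h
      exact M.ι_s
  let φ := M.σ
  have e1 : Nat.card F = 2 ^ Nat.card (Subgroup.zpowers (φ ⟨v, hv⟩)) :=
    AbelianAux.card_field_eq _ fun x hx => hfix x (hx _ (Subgroup.mem_zpowers _))
  have e2 : Nat.card F = 2 ^ Nat.card φ.range :=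
    AbelianAux.card_field_eq _ fun x hx => hfix x (hx _ ⟨⟨v, hv⟩, rfl⟩)
  rw [Nat.card_zpowers, orderOf_injective φ hinj, Subgroup.orderOf_mk] at e1
  rw [Nat.card_congr (MonoidHom.ofInjective hinj).symm.toEquiv] at e2
  rw [Nat.card_eq_fintype_card] at e1 e2
  exact ⟨Nat.pow_right_injective le_rfl (e1.symm.trans e2), hF ▸ e2⟩

/-- An element of square `s`. -/
theorem exists_sq (hQ : ¬ Q ≤ S.Z) : ∃ y ∈ Q, y * y = S.s := by
  obtain ⟨x, hx, hxZ⟩ := SetLike.not_le_iff_exists.1 hQ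
  obtain ⟨k, hk⟩ := S.isPGroup_Q ⟨x, hx⟩
  have hk' : x ^ 2 ^ k = 1 := by simpa using congrArg Subtype.val hk
  clear hk
  induction k generalizing x with
  | zero =>
    rw [pow_zero, pow_one] at hk'
    exact absurd (hk' ▸ S.Z.one_mem) hxZ
  | succ k ih =>
    by_cases h : x * x ∈ S.Z
    · have hne : x * x ≠ 1 := fun h' => hxZ ((S.mem_Z x).2 ⟨hx, h'⟩)
      obtain ⟨c, hc, hce⟩ := S.trans _ h hne S.s S.s_mem S.s_ne
      exact ⟨c⁻¹ * x * c, S.conj_Q' hc hx, by rw [← hce]; group⟩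
    · exact ih (x * x) (Q.mul_mem hx hx) h (by rw [← pow_two, ← pow_mul, ← pow_succ', hk'])

/-- Squaring into the next layer has a fixed preimage for a fixed value. -/
theorem exists_fixed_sqrt {p : ℕ} [Fact p.Prime] (hp2 : p ≠ 2) {v : G} (hvp : v ^ p = 1) (A : Subgroup G) (hA : A ≤ Q) (hZA : S.Z ≤ A)
    (hAv : ∀ x ∈ A, v * x * v⁻¹ ∈ A) {x₀ : G} (hx₀ : x₀ ∈ A)
    (hfix : v * (x₀ * x₀) = x₀ * x₀ * v) :
    ∃ y ∈ A, v * y = y * v ∧ y * y = x₀ * x₀ := by
  classical
  set T : Set G := {x | x ∈ A ∧ x * x = x₀ * x₀} with hT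
  have hc : ∀ z : S.Z, x₀ * (z : G) ∈ T := by
    intro z
    refine ⟨A.mul_mem hx₀ (hZA z.2), ?_⟩
    rw [show x₀ * (z : G) * (x₀ * z) = x₀ * ((z : G) * x₀) * z by group,
      S.central z z.2 x₀ (hA hx₀), show x₀ * (x₀ * (z : G)) * z = x₀ * x₀ * ((z : G) * z) by group,
      S.Z_sq z.2, mul_one]
  have hcard : Nat.card T = Nat.card S.Z := by
    refine (Nat.card_congr (Equiv.ofBijective (fun z : S.Z => (⟨x₀ * z, hc z⟩ : T)) ⟨?_, ?_⟩)).symm
    · exact fun z z' h => Subtype.ext (mul_left_cancel (congrArg Subtype.val h))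
    · rintro ⟨x, hx, hx2⟩
      refine ⟨⟨x₀⁻¹ * x, (S.mem_Z _).2 ⟨Q.mul_mem (Q.inv_mem (hA hx₀)) (hA hx), ?_⟩⟩,
        Subtype.ext (mul_inv_cancel_left x₀ x)⟩
      rw [show x₀⁻¹ * x * (x₀⁻¹ * x) = x₀⁻¹ * (x * x₀⁻¹) * x by group,
        hcomm x (hA hx) x₀⁻¹ (Q.inv_mem (hA hx₀)),
        show x₀⁻¹ * (x₀⁻¹ * x) * x = x₀⁻¹ * x₀⁻¹ * (x * x) by group, hx2]
      group
  have hndvd : ¬ p ∣ Nat.card T := by
    rw [hcard]
    obtain ⟨i, hi⟩ : ∃ i, Nat.card S.Z = 2 ^ i := by
      haveI : Fact (Nat.Prime 2) := ⟨Nat.prime_two⟩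
      exact IsPGroup.iff_card.1 fun z : S.Z => ⟨1, by
        rw [pow_one, pow_two]; exact Subtype.ext (S.Z_sq z.2)⟩
    rw [hi]
    exact fun h => hp2 ((Nat.prime_dvd_prime_iff_eq Fact.out Nat.prime_two).1
      ((Fact.out : p.Prime).dvd_of_dvd_pow h))
  have hTv : ∀ x ∈ T, v * x * v⁻¹ ∈ T := by
    rintro x ⟨hx, hx2⟩
    refine ⟨hAv x hx, ?_⟩
    rw [show v * x * v⁻¹ * (v * x * v⁻¹) = v * (x * x) * v⁻¹ by group, hx2, hfix,
      mul_inv_cancel_right]
  obtain ⟨y, ⟨hy, hy2⟩, hvy⟩ := AbelianAux.exists_fixed hvp T hTv hndvd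
  exact ⟨y, hy, hvy, hy2⟩

/-- In an abelian `Q` invariant subgroups have `p`-th power order of their fixed points. -/
theorem card_eq_pow_of_invariant {p : ℕ} [Fact p.Prime] (hp2 : p ≠ 2) {v : G} (hv : v ∈ S.V)
    (hvp : v ^ p = 1) (hZ : Nat.card S.Z = 2 ^ p)
    (hsmall : ∀ z ∈ S.Z, v * z = z * v → z = 1 ∨ z = S.s) :
    ∀ (n : ℕ) (A : Subgroup G), Nat.card A = n → A ≤ Q →
      (∀ k ∈ S.K, ∀ x ∈ A, k⁻¹ * x * k ∈ A) → (∀ x ∈ A, v * x * v⁻¹ ∈ A) →
      Nat.card A = Nat.card ↥(A ⊓ Subgroup.centralizer {v}) ^ p := by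
  intro n
  induction n using Nat.strong_induction_on with
  | _ n ih =>
    intro A hn hAQ hAK hAv
    by_cases hA : A = ⊥
    · subst hA
      rw [bot_inf_eq, Subgroup.card_bot, one_pow]
    have hf : ∀ x y : A, (((x * y : A) : G)) * (x * y : A) = x * (x : G) * (y * y) := by
      intro x y
      push_cast
      rw [show (x : G) * y * (x * y) = x * (y * x) * y by group, hcomm y (hAQ y.2) x (hAQ x.2)]
      group
    let f : A →* G :=
      { toFun := fun x => (x : G) * x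
        map_one' := mul_one 1
        map_mul' := hf }
    have hmemf : ∀ y : G, y ∈ f.range ↔ ∃ x ∈ A, x * x = y := fun y =>
      ⟨fun ⟨x, hx⟩ => ⟨x, x.2, hx⟩, fun ⟨x, hx, he⟩ => ⟨⟨x, hx⟩, he⟩⟩
    have hZA : S.Z ≤ A := by
      obtain ⟨x, hx, hx1⟩ : ∃ x ∈ A, x ≠ 1 := by
        by_contra h
        push Not at h
        exact hA ((Subgroup.eq_bot_iff_forall A).2 h)
      haveI : Fact (Nat.Prime 2) := ⟨Nat.prime_two⟩
      have hP : IsPGroup 2 A := S.isPGroup_Q.to_le hAQ
      haveI : Nontrivial A := ⟨⟨⟨x, hx⟩, 1, fun h => hx1 (congrArg Subtype.val h)⟩⟩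
      obtain ⟨j, hj0, hj⟩ := hP.nontrivial_iff_card.1 inferInstance
      obtain ⟨u, hu⟩ := exists_prime_orderOf_dvd_card' (G := A) 2 (hj ▸ dvd_pow_self 2 hj0.ne')
      have hu1 : (u : G) ≠ 1 := fun h => by
        rw [show u = 1 from Subtype.ext h, orderOf_one] at hu; omega
      have huZ : (u : G) ∈ S.Z := (S.mem_Z _).2 ⟨hAQ u.2, by
        have := pow_orderOf_eq_one u
        rw [hu, pow_two] at this
        exact congrArg Subtype.val this⟩
      intro z hz
      by_cases hz1 : z = 1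
      · rw [hz1]; exact A.one_mem
      obtain ⟨k, hk, rfl⟩ := S.trans u huZ hu1 z hz hz1
      exact hAK k hk u u.2
    have hker : Nat.card f.ker = Nat.card S.Z := Nat.card_congr
      { toFun := fun x => ⟨((x : A) : G), (S.mem_Z _).2 ⟨hAQ (x : A).2, x.2⟩⟩
        invFun := fun z => ⟨⟨z, hZA z.2⟩, S.Z_sq z.2⟩
        left_inv := fun _ => rfl
        right_inv := fun _ => rfl }
    have h1 : Nat.card A = Nat.card f.range * Nat.card S.Z := by
      rw [← hker, ← Subgroup.index_ker f, mul_comm, Subgroup.card_mul_index]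
    -- the fixed points
    let g : ↥(A ⊓ Subgroup.centralizer {v}) →* G :=
      f.comp (Subgroup.inclusion inf_le_left)
    have hgr : g.range = f.range ⊓ Subgroup.centralizer {v} := by
      apply le_antisymm
      · rintro _ ⟨x, rfl⟩
        refine ⟨⟨⟨x, x.2.1⟩, rfl⟩, ?_⟩
        exact Subgroup.mul_mem _ x.2.2 x.2.2
      · rintro y ⟨hy, hyv⟩
        obtain ⟨x₀, hx₀, rfl⟩ := (hmemf y).1 hy
        obtain ⟨w, hw, hvw, hw2⟩ := S.exists_fixed_sqrt hcomm hp2 hvp A hAQ hZA hAv hx₀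
          (Subgroup.mem_centralizer_singleton_iff.1 hyv).symm
        exact ⟨⟨w, hw, Subgroup.mem_centralizer_singleton_iff.2 hvw.symm⟩, hw2⟩
    have hgk : Nat.card g.ker = 2 := by
      have h := Nat.card_congr (α := g.ker) (β := ({1, S.s} : Set G))
        { toFun := fun x => ⟨((x : ↥(A ⊓ Subgroup.centralizer {v})) : G), by
            rcases hsmall _ ((S.mem_Z _).2 ⟨hAQ x.1.2.1, x.2⟩)
              (Subgroup.mem_centralizer_singleton_iff.1 x.1.2.2).symm with h | h
            · exact Or.inl h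
            · exact Or.inr h⟩
          invFun := fun z => ⟨⟨z.1, by
            rcases z.2 with h | h
            · rw [h]; exact Subgroup.one_mem _
            · rw [Set.mem_singleton_iff.1 h]
              exact ⟨hZA S.s_mem,
                Subgroup.mem_centralizer_singleton_iff.2 (S.V_comm_s hv).symm⟩⟩, by
            show (z.1 : G) * z.1 = 1
            rcases z.2 with h | h
            · rw [h, one_mul]
            · rw [Set.mem_singleton_iff.1 h]; exact S.Z_sq S.s_mem⟩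
          left_inv := fun _ => rfl
          right_inv := fun _ => rfl }
      rw [h, Nat.card_coe_set_eq, Set.ncard_pair (fun h => S.s_ne h.symm)]
    have h2 : Nat.card ↥(A ⊓ Subgroup.centralizer {v}) =
        Nat.card ↥(f.range ⊓ Subgroup.centralizer {v}) * 2 := by
      rw [← hgr, ← hgk, ← Subgroup.index_ker g, mul_comm, Subgroup.card_mul_index]
    have hlt : Nat.card f.range < n := by
      rw [← hn, h1]
      exact lt_mul_of_one_lt_right Nat.card_pos (lt_of_lt_of_le (by norm_num) S.four_le)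
    have h3 := ih _ hlt f.range rfl
      (fun y hy => by
        obtain ⟨x, hx, rfl⟩ := (hmemf y).1 hy
        exact Q.mul_mem (hAQ hx) (hAQ hx))
      (fun k hk y hy => by
        obtain ⟨x, hx, rfl⟩ := (hmemf y).1 hy
        exact (hmemf _).2 ⟨k⁻¹ * x * k, hAK k hk x hx, by group⟩)
      (fun y hy => by
        obtain ⟨x, hx, rfl⟩ := (hmemf y).1 hy
        exact (hmemf _).2 ⟨v * x * v⁻¹, hAv x hx, by group⟩)
    rw [h1, h2, hZ, h3, mul_pow]

end Data

end CfsgLib.Recog.RankOneSuzuki
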