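import Cfsg.Agent.Recog.RankOneSuzuki.AbelianSplit

/-!
# Suzuki's rank one theorem: the abelian case with `p` fixed points

With `p` fixed points a Sylow `p`-subgroup `P` has order `p³`, it contains an abelian subgroup
`P₀` of order `p²` inverted by the special involution, and the transfer into `P/P₀` is nontrivial
at `v`.
-/

set_option autoImplicit false
set_option linter.unusedSectionVars false
set_option linter.style.haveILetI false

namespace CfsgLib.Recog.RankOneSuzuki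

open MulAction CfsgLib.Recog.RankOne

variable {G Ω : Type*} [Group G] [MulAction G Ω]

local notation "D[" a "," t "]" => stabilizer G a ⊓ stabilizer G (t • a)

namespace Data

variable {a : Ω} {t : G} {Q : Subgroup G} {S : Data a t Q}

local notation "CQ(" v ")" => Q ⊓ Subgroup.centralizer {v}

variable [Finite G] [FaithfulSMul G Ω] {v : G} {p : ℕ} [hp : Fact p.Prime] (hg : S.Gen v p)
include hg

/-- An element of a `p`-subgroup fixing a point is conjugate into `V`. -/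
theorem Gen.conj_into_V {R : Subgroup G} (hR : IsPGroup p R) {x : G} (hx : x ∈ R) {c : Ω}
    (hxc : x • c = c) : ∃ g : G, g * x * g⁻¹ ∈ S.V := by
  classical
  haveI := pretransitive S.setup
  obtain ⟨g, hgc⟩ := exists_smul_eq G c a
  have hmem : g * x * g⁻¹ ∈ stabilizer G a := by
    show (g * x * g⁻¹) • a = a
    rw [mul_smul, mul_smul, ← hgc, inv_smul_smul, hxc]
  set A := stabilizer G a with hA
  have hVA : S.V ≤ A := fun w hw => (S.V_mem_D hw).1
  have hVp : IsPGroup p ↥(S.V.subgroupOf A) := IsPGroup.of_card (n := 1) (by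
    rw [pow_one, Nat.card_congr (Subgroup.subgroupOfEquivOfLe hVA).toEquiv, hg.card_V])
  obtain ⟨T, hT⟩ := hVp.exists_le_sylow
  have hcardA : Nat.card A = p ^ 1 * (Nat.card Q * Nat.card S.K) := by
    rw [card_stab S.setup, S.card_D, hg.card_V]; ring
  have hnd : ¬ p ∣ Nat.card Q * Nat.card S.K := by
    intro h
    rcases hp.out.dvd_mul.1 h with h | h
    · haveI : Fact (Nat.Prime 2) := ⟨Nat.prime_two⟩
      obtain ⟨i, hi⟩ := IsPGroup.iff_card.1 S.isPGroup_Q
      rw [hi] at h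
      exact hg.odd ((Nat.prime_dvd_prime_iff_eq hp.out Nat.prime_two).1 (hp.out.dvd_of_dvd_pow h))
    · exact hg.not_dvd_K h
  have hTV : (T : Subgroup A) = S.V.subgroupOf A := (Subgroup.eq_of_le_of_card_ge hT (by
    rw [sylow_card_of_eq T hcardA hnd, pow_one,
      Nat.card_congr (Subgroup.subgroupOfEquivOfLe hVA).toEquiv, hg.card_V])).symm
  have hxp : IsPGroup p ↥(Subgroup.zpowers (⟨g * x * g⁻¹, hmem⟩ : A)) := by
    obtain ⟨j, hj⟩ := IsPGroup.iff_orderOf.1 hR ⟨x, hx⟩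
    refine IsPGroup.of_card (n := j) ?_
    rw [Nat.card_zpowers, Subgroup.orderOf_mk, ← hj, Subgroup.orderOf_mk,
      ← MulAut.conj_apply, MulEquiv.orderOf_eq]
  obtain ⟨T', hT'⟩ := hxp.exists_le_sylow
  obtain ⟨h, rfl⟩ := MulAction.exists_smul_eq A T T'
  have h1 := hT' (Subgroup.mem_zpowers (⟨g * x * g⁻¹, hmem⟩ : A))
  rw [Sylow.coe_subgroup_smul, Subgroup.mem_smul_pointwise_iff_exists] at h1
  obtain ⟨w, hw, he⟩ := h1
  rw [hTV, Subgroup.mem_subgroupOf] at hw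
  refine ⟨(h : G)⁻¹ * g, ?_⟩
  have he' : (h : G) * w * (h : G)⁻¹ = g * x * g⁻¹ := congrArg Subtype.val he
  rw [show (h : G)⁻¹ * g * x * ((h : G)⁻¹ * g)⁻¹ = (h : G)⁻¹ * (g * x * g⁻¹) * h by group, ← he',
    show (h : G)⁻¹ * ((h : G) * w * (h : G)⁻¹) * h = (w : G) by group]
  exact hw

/-- The points fixed by a conjugate of a generator of `V`. -/
theorem Gen.card_fix_conj {x g : G} (hx : g * x * g⁻¹ ∈ S.V) (hx1 : x ≠ 1) :
    Nat.card {c : Ω // x • c = c} = Nat.card ↥(CQ(v)) + 1 := by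
  rw [← S.card_fix hg.mem]
  have hw1 : g * x * g⁻¹ ≠ 1 := fun h => hx1 (conj_eq_one_iff.1 h)
  obtain ⟨m, hm⟩ := mem_powers_of_prime_card hg.card_V (g := (⟨g * x * g⁻¹, hx⟩ : S.V))
    (g' := ⟨v, hg.mem⟩) fun h => hw1 (congrArg Subtype.val h)
  have hm' : (g * x * g⁻¹) ^ m = v := congrArg Subtype.val hm
  refine Nat.card_congr ((MulAction.toPerm g).subtypeEquiv fun c => ?_)
  show x • c = c ↔ v • g • c = g • c
  constructor
  · intro h
    rw [← hm']
    refine (pow_mem (show g * x * g⁻¹ ∈ stabilizer G (g • c) from ?_) m : _ ∈ stabilizer G (g • c))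
    show (g * x * g⁻¹) • g • c = g • c
    rw [mul_smul, mul_smul, inv_smul_smul, h]
  · intro h
    have := S.V_fix hg.mem hg.eq hx h
    rw [mul_smul, mul_smul, inv_smul_smul] at this
    exact smul_left_cancel g this

variable {E : Subgroup G}

set_option maxHeartbeats 1000000 in
/-- A prime number of fixed points is impossible. -/
theorem Gen.not_prime (hcomm : ∀ x ∈ Q, ∀ y ∈ Q, x * y = y * x)
    (hn : Nat.card ↥(CQ(v)) + 1 = p) (hE : ∀ x, x ∈ E ↔ x ∈ S.V ∨ x ∈ S.derangements' v)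
    (hEp : IsPGroup p E) (hEcard : Nat.card E = p ^ 2) : False := by
  classical
  haveI := CfsgLib.Recog.RankOne.finite_points S.setup
  have hn1 : Nat.card ↥(CQ(v)) = p - 1 := by omega
  -- orders
  obtain ⟨z₀, hz₀⟩ := AbelianAux.pred_pow_add_one hp.out hg.odd
  have hΩ : Nat.card Ω = p ^ 2 * (1 + p * z₀) := by
    rw [card_points S.setup, hg.card_Q hcomm, hn1, hz₀]
  have hGR : Nat.card G = p ^ 3 * ((p - 1) ^ p * Nat.card S.K * (1 + p * z₀)) := by
    rw [hg.card_G, hg.card_Q hcomm, hn1, hz₀]; ring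
  have hR : ¬ p ∣ (p - 1) ^ p * Nat.card S.K * (1 + p * z₀) := by
    intro h
    rcases hp.out.dvd_mul.1 h with h | h
    · rcases hp.out.dvd_mul.1 h with h | h
      · have := Nat.le_of_dvd (by have := hp.out.two_le; omega) (hp.out.dvd_of_dvd_pow h)
        have := hp.out.two_le
        omega
      · exact hg.not_dvd_K h
    · rw [Nat.dvd_add_left (dvd_mul_right p z₀)] at h
      exact hp.out.one_lt.ne' (Nat.dvd_one.1 h)
  obtain ⟨P, hEP, hPC⟩ := hg.exists_sylow (d := 1) hE hEp hEcard (by rw [pow_one, hn])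
  have hPcard : Nat.card (P : Subgroup G) = p ^ 3 := sylow_card_of_eq P hGR hR
  obtain ⟨g₀, hg₀P, hg₀E⟩ : ∃ g ∈ (P : Subgroup G), g ∉ E := by
    by_contra h
    push Not at h
    have h1 := Subgroup.card_le_of_le (show (P : Subgroup G) ≤ E from h)
    rw [hPcard, hEcard] at h1
    nlinarith [hp.out.two_le, pow_succ p 2]
  have hvE : v ∈ E := (hE v).2 (Or.inl hg.mem)
  have hvP : v ∈ (P : Subgroup G) := hEP hvE
  have hvV : ∀ w ∈ S.V, w ≠ 1 → v ∈ Subgroup.zpowers w := fun w hw hw1 => by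
    obtain ⟨m, hm⟩ := mem_powers_of_prime_card hg.card_V (g := (⟨w, hw⟩ : S.V))
      (g' := ⟨v, hg.mem⟩) fun h => hw1 (congrArg Subtype.val h)
    have hm' : w ^ m = v := congrArg Subtype.val hm
    exact hm' ▸ pow_mem (Subgroup.mem_zpowers w) m
  have hcomm_E : ∀ g ∈ (P : Subgroup G), g * v = v * g → g ∈ E := fun g hgP h => by
    rw [← hPC]; exact ⟨hgP, Subgroup.mem_centralizer_singleton_iff.2 h⟩
  -- the centre of `P`
  set Z₀ := (Subgroup.center (P : Subgroup G)).map (P : Subgroup G).subtype with hZ₀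
  have hmemZ : ∀ x : G, x ∈ Z₀ ↔ x ∈ (P : Subgroup G) ∧ ∀ g ∈ (P : Subgroup G), g * x = x * g := by
    intro x
    rw [hZ₀, Subgroup.mem_map]
    constructor
    · rintro ⟨⟨y, hy⟩, hyc, rfl⟩
      exact ⟨hy, fun g hgP => congrArg Subtype.val (Subgroup.mem_center_iff.1 hyc ⟨g, hgP⟩)⟩
    · rintro ⟨hx, hxc⟩
      exact ⟨⟨x, hx⟩, Subgroup.mem_center_iff.2 fun g => Subtype.ext (hxc g g.2), rfl⟩
  have hZP : Z₀ ≤ (P : Subgroup G) := fun x hx => ((hmemZ x).1 hx).1
  have hZE : Z₀ ≤ E := fun x hx =>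
    hcomm_E x (hZP hx) (((hmemZ x).1 hx).2 v hvP).symm
  have hZV : ∀ x ∈ Z₀, x ∈ S.V → x = 1 := by
    intro x hx hxV
    by_contra hx1
    obtain ⟨i, hi⟩ := Subgroup.mem_zpowers_iff.1 (hvV x hxV hx1)
    refine hg₀E (hcomm_E g₀ hg₀P ?_)
    rw [← hi]
    exact Commute.zpow_right (((hmemZ x).1 hx).2 g₀ hg₀P) i
  have hv1 : v ≠ 1 := fun h => hp.out.ne_one (by rw [← hg.order, h, orderOf_one])
  have hZcard : Nat.card Z₀ = p := by
    haveI : Nontrivial (P : Subgroup G) := ⟨⟨⟨v, hvP⟩, 1, fun h => hv1 (congrArg Subtype.val h)⟩⟩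
    haveI := P.2.center_nontrivial
    have h1 : Nat.card Z₀ = Nat.card (Subgroup.center (P : Subgroup G)) :=
      Nat.card_congr ((Subgroup.center (P : Subgroup G)).equivMapOfInjective
        (P : Subgroup G).subtype Subtype.val_injective).toEquiv.symm
    have h2 : Nat.card Z₀ ∣ p ^ 2 := hEcard ▸ Subgroup.card_dvd_of_le hZE
    obtain ⟨j, hj, hjc⟩ := (Nat.dvd_prime_pow hp.out).1 h2
    have hj0 : j ≠ 0 := fun h0 => by
      have := Finite.one_lt_card (α := Subgroup.center (P : Subgroup G))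
      rw [← h1, hjc, h0, pow_zero] at this
      omega
    have hj2 : j ≠ 2 := fun h2 => by
      have hEZ : E = Z₀ := (Subgroup.eq_of_le_of_card_ge hZE (by rw [hjc, h2, hEcard])).symm
      exact hv1 (hZV v (hEZ ▸ hvE) hg.mem)
    rw [hjc, show j = 1 by omega, pow_one]
  have hcomZ : ∀ x ∈ (P : Subgroup G), ∀ y ∈ (P : Subgroup G), x * y * x⁻¹ * y⁻¹ ∈ Z₀ := by
    intro x hx y hy
    have hq : Nat.card ((P : Subgroup G) ⧸ Subgroup.center (P : Subgroup G)) = p ^ 2 := by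
      have h := Subgroup.card_eq_card_quotient_mul_card_subgroup
        (Subgroup.center (P : Subgroup G))
      rw [hPcard, ← Nat.card_congr ((Subgroup.center (P : Subgroup G)).equivMapOfInjective
        (P : Subgroup G).subtype Subtype.val_injective).toEquiv.symm] at h
      change p ^ 3 = _ * Nat.card Z₀ at h
      rw [hZcard, pow_succ] at h
      exact (Nat.eq_of_mul_eq_mul_right hp.out.pos h).symm
    have := IsPGroup.commutative_of_card_eq_prime_sq hq
      (QuotientGroup.mk (⟨x, hx⟩ : (P : Subgroup G))) (QuotientGroup.mk ⟨y, hy⟩)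
    rw [← mul_inv_eq_one, mul_inv_rev, ← mul_assoc, ← QuotientGroup.mk_inv, ← QuotientGroup.mk_inv,
      ← QuotientGroup.mk_mul, ← QuotientGroup.mk_mul, ← QuotientGroup.mk_mul,
      QuotientGroup.eq_one_iff] at this
    exact ⟨_, this, rfl⟩
  have hEdec : ∀ e ∈ E, ∃ w ∈ S.V, ∃ z ∈ Z₀, e = w * z := by
    intro e he
    let f : S.V × Z₀ → E := fun x =>
      ⟨x.1 * x.2, E.mul_mem ((hE _).2 (Or.inl x.1.2)) (hZE x.2.2)⟩
    have hinj : Function.Injective f := by
      rintro ⟨w, z⟩ ⟨w', z'⟩ h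
      have h' : (w : G) * z = w' * z' := congrArg Subtype.val h
      have h1 : (w' : G)⁻¹ * w = z' * (z : G)⁻¹ := by
        rw [eq_mul_inv_iff_mul_eq, mul_assoc, h', inv_mul_cancel_left]
      have h2 := hZV _ (h1 ▸ Z₀.mul_mem z'.2 (Z₀.inv_mem z.2))
        (S.V.mul_mem (S.V.inv_mem w'.2) w.2)
      have hw : (w : G) = w' := (inv_mul_eq_one.1 h2).symm
      rw [hw] at h'
      exact Prod.ext (Subtype.ext hw) (Subtype.ext (mul_left_cancel h'))
    obtain ⟨⟨w, z⟩, hwz⟩ := ((Nat.bijective_iff_injective_and_card f).2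
      ⟨hinj, by rw [Nat.card_prod, hg.card_V, hZcard, hEcard, pow_two]⟩).2 ⟨e, he⟩
    exact ⟨w, w.2, z, z.2, (congrArg Subtype.val hwz).symm⟩
  have hZcomm : ∀ z ∈ Z₀, ∀ g ∈ (P : Subgroup G), g * z = z * g := fun z hz => ((hmemZ z).1 hz).2
  -- the orbit of a power of `v` under `P`
  set w₀ := g₀ * v * g₀⁻¹ * v⁻¹ with hw₀
  have hw₀Z : w₀ ∈ Z₀ := hcomZ g₀ hg₀P v hvP
  have hw₀1 : w₀ ≠ 1 := fun h => hg₀E (hcomm_E g₀ hg₀P
    (mul_inv_eq_iff_eq_mul.1 (mul_inv_eq_one.1 h)))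
  have hg₀v : g₀ * v * g₀⁻¹ = v * w₀ := by
    rw [← hZcomm w₀ hw₀Z v hvP |>.symm, hw₀, inv_mul_cancel_right]
  have hpowg : ∀ m : ℕ, g₀ ^ m * v * (g₀ ^ m)⁻¹ = v * w₀ ^ m := by
    intro m
    induction m with
    | zero => simp
    | succ m ih =>
      rw [pow_succ' g₀, show g₀ * g₀ ^ m * v * (g₀ * g₀ ^ m)⁻¹ =
        g₀ * (g₀ ^ m * v * (g₀ ^ m)⁻¹) * g₀⁻¹ by group, ih,
        show g₀ * (v * w₀ ^ m) * g₀⁻¹ = g₀ * v * g₀⁻¹ * (g₀ * w₀ ^ m * g₀⁻¹) by group, hg₀v,
        hZcomm _ (Z₀.pow_mem hw₀Z m) g₀ hg₀P, mul_inv_cancel_right, pow_succ', mul_assoc]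
  have hconj : ∀ w ∈ S.V, w ≠ 1 → ∀ z ∈ Z₀, ∃ g ∈ (P : Subgroup G), g * w * g⁻¹ = w * z := by
    intro w hw hw1 z hz
    rw [hg.eq] at hw
    obtain ⟨i, rfl⟩ := Subgroup.mem_zpowers_iff.1 hw
    obtain ⟨m, hm⟩ := mem_powers_of_prime_card hZcard
      (g := (⟨w₀ ^ i, Z₀.zpow_mem hw₀Z i⟩ : Z₀)) (g' := ⟨z, hz⟩) fun h => by
        have h' : w₀ ^ i = 1 := congrArg Subtype.val h
        have hord : orderOf w₀ = p := orderOf_eq_prime
          (by rw [← hZcard]; exact congrArg Subtype.val (pow_card_eq_one' (x := (⟨w₀, hw₀Z⟩ : Z₀))))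
          hw₀1
        refine hw1 (orderOf_dvd_iff_zpow_eq_one.1 ?_)
        rw [hg.order, ← hord]
        exact orderOf_dvd_iff_zpow_eq_one.2 h'
    have hm' : (w₀ ^ i) ^ m = z := congrArg Subtype.val hm
    refine ⟨g₀ ^ m, pow_mem hg₀P m, ?_⟩
    have hvw : Commute v (w₀ ^ m) := (hZcomm _ (Z₀.pow_mem hw₀Z m) v hvP)
    rw [← conj_zpow, hpowg, hvw.mul_zpow, ← hm', ← zpow_natCast w₀ m, ← zpow_mul,
      ← zpow_natCast (w₀ ^ i) m, ← zpow_mul, mul_comm (m : ℤ) i]
  -- the special involution inverts the centre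
  have hsC : S.s ∈ Subgroup.centralizer {v} :=
    Subgroup.mem_centralizer_singleton_iff.2 (S.V_comm_s hg.mem).symm
  have hsCQ : S.s ∈ CQ(v) := ⟨S.Z_le S.s_mem, hsC⟩
  have hss : S.s * S.s = 1 := S.Z_sq S.s_mem
  have hsi : S.s⁻¹ = S.s := S.s_inv
  have hsV : ∀ w ∈ S.V, S.s * w * S.s = w := fun w hw => by
    rw [← S.V_comm_s hw, mul_assoc, hss, mul_one]
  obtain ⟨x₀, hx₀E, hx₀V⟩ : ∃ x ∈ E, x ∉ S.V := by
    by_contra h
    push Not at h
    have h1 := Subgroup.card_le_of_le (show E ≤ S.V from h)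
    rw [hEcard, hg.card_V] at h1
    nlinarith [hp.out.two_le]
  set y := x₀⁻¹ * (S.s * x₀ * S.s) with hy
  have hyE : y ∈ E := E.mul_mem (E.inv_mem hx₀E) (by
    have := hg.conj_E hE hsC hx₀E
    rwa [hsi] at this)
  have hyinv : S.s * y * S.s = y⁻¹ := by
    rw [hy, show S.s * (x₀⁻¹ * (S.s * x₀ * S.s)) * S.s = S.s * x₀⁻¹ * S.s * x₀ * (S.s * S.s) by
      group, hss, mul_one, mul_inv_rev, inv_inv, mul_inv_rev, mul_inv_rev, hsi]
    group
  have hy1 : y ≠ 1 := by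
    intro h
    refine S.s_ne (S.der_free hg.mem hg.eq hg.kv hsCQ (((hE x₀).1 hx₀E).resolve_left hx₀V)
      S.V.one_mem ?_)
    rw [mul_one, hsi]
    exact (inv_mul_eq_one.1 h).symm
  have hreal : ∀ x : G, S.s * x * S.s = x⁻¹ → ∀ g : G, g * x * g⁻¹ ∈ S.V → x = 1 :=
    fun x hx g hgx => hg.eq_one_of_real (g := S.s) (by rw [hsi]; exact hx) hgx
  have hyZ : y ∈ Z₀ := by
    obtain ⟨w, hw, z, hz, hwz⟩ := hEdec y hyE
    by_cases hw1 : w = 1
    · rw [hwz, hw1, one_mul]; exact hz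
    · obtain ⟨g, -, hgw⟩ := hconj w hw hw1 z hz
      exact absurd (hreal y hyinv g⁻¹ (by
        rw [hwz, ← hgw, show g⁻¹ * (g * w * g⁻¹) * g⁻¹⁻¹ = w by group]; exact hw)) hy1
  have hZy : ∀ z ∈ Z₀, ∃ m : ℕ, y ^ m = z := fun z hz => by
    obtain ⟨m, hm⟩ := mem_powers_of_prime_card hZcard (g := (⟨y, hyZ⟩ : Z₀)) (g' := ⟨z, hz⟩)
      fun h => hy1 (congrArg Subtype.val h)
    exact ⟨m, congrArg Subtype.val hm⟩
  have hZinv : ∀ z ∈ Z₀, S.s * z * S.s = z⁻¹ := by
    intro z hz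
    obtain ⟨m, rfl⟩ := hZy z hz
    have : MulAut.conj S.s (y ^ m) = (y ^ m)⁻¹ := by
      rw [map_pow, MulAut.conj_apply, hsi, hyinv, inv_pow]
    rwa [MulAut.conj_apply, hsi] at this
  -- `P` is recognised by its action on `E`
  have hPmem : ∀ h : G, h * y = y * h → h * v * h⁻¹ * v⁻¹ ∈ Z₀ → h ∈ (P : Subgroup G) := by
    intro h hhy hhv
    obtain ⟨g, hgP, hgv⟩ := hconj v hg.mem hv1 _ hhv
    have hvh : g * v * g⁻¹ = h * v * h⁻¹ := by
      rw [hgv, hZcomm _ hhv v hvP, inv_mul_cancel_right]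
    have hc : g⁻¹ * h ∈ Subgroup.centralizer {v} := Subgroup.mem_centralizer_singleton_iff.2 (by
      calc g⁻¹ * h * v = g⁻¹ * (h * v * h⁻¹) * h := by group
        _ = g⁻¹ * (g * v * g⁻¹) * h := by rw [hvh]
        _ = _ := by group)
    have hgy : Commute (g⁻¹ * h) y :=
      (show Commute g y from hZcomm y hyZ g hgP).inv_left.mul_left hhy
    have hcE : g⁻¹ * h ∈ E := (hE _).2 (hg.cent_der
      (((hE y).1 hyE).resolve_left fun hyV => hy1 (hZV y hyZ hyV)) hc hgy)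
    simpa using mul_mem hgP (hEP hcE)
  have hsP : ∀ x ∈ (P : Subgroup G), S.s * x * S.s ∈ (P : Subgroup G) := by
    intro x hx
    have hsy : S.s * y = y⁻¹ * S.s := by
      rw [← hyinv, mul_assoc (S.s * y), hss, mul_one]
    have hsy' : S.s * y⁻¹ = y * S.s := by
      rw [show y * S.s = (S.s * y⁻¹)⁻¹⁻¹ by
        rw [← hyinv, show S.s * (S.s * y * S.s) = S.s * S.s * (y * S.s) by group, hss, one_mul,
          inv_inv], inv_inv]
    refine hPmem _ ?_ ?_
    · have hxy := hZcomm y⁻¹ (Z₀.inv_mem hyZ) x hx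
      calc S.s * x * S.s * y = S.s * x * (S.s * y) := by group
        _ = S.s * (x * y⁻¹) * S.s := by rw [hsy]; group
        _ = S.s * (y⁻¹ * x) * S.s := by rw [hxy]
        _ = (S.s * y⁻¹) * x * S.s := by group
        _ = _ := by rw [hsy']; group
    · have hu := hcomZ x hx v hvP
      have hux : x * v * x⁻¹ = x * v * x⁻¹ * v⁻¹ * v := by group
      have hsu := hZinv _ hu
      have : S.s * x * S.s * v * (S.s * x * S.s)⁻¹ * v⁻¹ = S.s * (x * v * x⁻¹ * v⁻¹) * S.s := by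
        rw [mul_inv_rev, mul_inv_rev, hsi]
        calc S.s * x * S.s * v * (S.s * (x⁻¹ * S.s)) * v⁻¹
            = S.s * x * (S.s * v * S.s) * x⁻¹ * (S.s * v⁻¹) := by group
          _ = S.s * x * v * x⁻¹ * (S.s * v⁻¹) := by rw [hsV v hg.mem]
          _ = S.s * x * v * x⁻¹ * (v⁻¹ * S.s) := by
              rw [← S.V_comm_s (S.V.inv_mem hg.mem)]
          _ = _ := by group
      rw [this, hsu]
      exact Z₀.inv_mem hu
  -- the inverted subgroup of index `p`
  set g₁ := g₀⁻¹ * (S.s * g₀ * S.s) with hg₁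
  have hg₁P : g₁ ∈ (P : Subgroup G) := mul_mem (inv_mem hg₀P) (hsP g₀ hg₀P)
  have hg₁inv : S.s * g₁ * S.s = g₁⁻¹ := by
    rw [hg₁, show S.s * (g₀⁻¹ * (S.s * g₀ * S.s)) * S.s = S.s * g₀⁻¹ * S.s * g₀ * (S.s * S.s) by
      group, hss, mul_one, mul_inv_rev, inv_inv, mul_inv_rev, mul_inv_rev, hsi]
    group
  have hg₁E : g₁ ∉ E := by
    intro h
    have hc : g₁ * v * g₁⁻¹ = v := by
      rw [Subgroup.mem_centralizer_singleton_iff.1 (hg.E_le hE h), mul_inv_cancel_right]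
    have h1 : S.s * g₀ * S.s * v * (S.s * g₀ * S.s)⁻¹ = v * w₀ := by
      calc S.s * g₀ * S.s * v * (S.s * g₀ * S.s)⁻¹ = g₀ * (g₁ * v * g₁⁻¹) * g₀⁻¹ := by
            rw [hg₁]; group
        _ = _ := by rw [hc, hg₀v]
    have h2 : S.s * g₀ * S.s * v * (S.s * g₀ * S.s)⁻¹ = v * w₀⁻¹ := by
      rw [mul_inv_rev, mul_inv_rev, hsi,
        show S.s * g₀ * S.s * v * (S.s * (g₀⁻¹ * S.s)) = S.s * g₀ * (S.s * v * S.s) * g₀⁻¹ * S.s by
          group, hsV v hg.mem,
        show S.s * g₀ * v * g₀⁻¹ * S.s = S.s * (g₀ * v * g₀⁻¹) * S.s by group, hg₀v,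
        show S.s * (v * w₀) * S.s = S.s * v * (S.s * S.s) * w₀ * S.s by rw [hss]; group,
        show S.s * v * (S.s * S.s) * w₀ * S.s = (S.s * v * S.s) * (S.s * w₀ * S.s) by group,
        hsV v hg.mem, hZinv w₀ hw₀Z]
    refine hw₀1 (orderOf_eq_one_iff.1 ?_)
    have h3 : w₀ ^ 2 = 1 := by
      rw [pow_two]; exact mul_eq_one_iff_eq_inv.2 (mul_left_cancel (h1.symm.trans h2))
    have h4 : orderOf w₀ ∣ p := hZcard ▸ Subgroup.orderOf_dvd_natCard _ hw₀Z
    exact Nat.eq_one_of_dvd_coprimes ((Nat.coprime_primes hp.out Nat.prime_two).2 hg.odd) h4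
      (orderOf_dvd_of_pow_eq_one h3)
  set P₀ := Subgroup.closure ({y, g₁} : Set G) with hP₀
  have hP₀P : P₀ ≤ (P : Subgroup G) := by
    rw [hP₀, Subgroup.closure_le]
    rintro x (rfl | rfl)
    · exact hZP hyZ
    · exact hg₁P
  have hP₀c : ∀ a ∈ P₀, ∀ b ∈ P₀, a * b = b * a := by
    have hgen : ∀ a ∈ ({y, g₁} : Set G), ∀ b ∈ ({y, g₁} : Set G), a * b = b * a := by
      rintro a (rfl | rfl) b (rfl | rfl)
      · rfl
      · exact (hZcomm y hyZ g₁ hg₁P).symm
      · exact hZcomm y hyZ g₁ hg₁P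
      · rfl
    intro a ha b hb
    have h1 : P₀ ≤ Subgroup.centralizer ({y, g₁} : Set G) :=
      (Subgroup.closure_le _).2 fun x hx => Subgroup.mem_centralizer_iff.2 fun z hz => hgen z hz x hx
    have h2 : P₀ ≤ Subgroup.centralizer (P₀ : Set G) :=
      (Subgroup.closure_le _).2 fun x hx => Subgroup.mem_centralizer_iff.2 fun z hz =>
        ((Subgroup.mem_centralizer_iff.1 (h1 hz)) x hx).symm
    exact (Subgroup.mem_centralizer_iff.1 (h2 hb) a ha)
  have hP₀inv : ∀ h ∈ P₀, S.s * h * S.s = h⁻¹ := by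
    intro h hh
    induction hh using Subgroup.closure_induction with
    | mem x hx =>
      rcases hx with rfl | rfl
      · exact hyinv
      · exact hg₁inv
    | one => rw [mul_one, hss, inv_one]
    | mul a b ha hb iha ihb =>
      rw [show S.s * (a * b) * S.s = S.s * a * (S.s * S.s) * b * S.s by rw [hss]; group,
        show S.s * a * (S.s * S.s) * b * S.s = (S.s * a * S.s) * (S.s * b * S.s) by group, iha, ihb,
        ← mul_inv_rev, hP₀c b hb a ha]
    | inv a ha iha =>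
      rw [show S.s * a⁻¹ * S.s = (S.s * a * S.s)⁻¹ by
        rw [mul_inv_rev, mul_inv_rev, hsi, mul_assoc], iha]
  have hP₀real : ∀ h ∈ P₀, h ≠ 1 → ∀ g : G, g * h * g⁻¹ ∉ S.V := fun h hh hh1 g hgV =>
    hh1 (hreal h (hP₀inv h hh) g hgV)
  have hvP₀ : v ∉ P₀ := fun h => hP₀real v h hv1 1 (by simpa using hg.mem)
  have hP₀card : Nat.card P₀ = p ^ 2 := by
    obtain ⟨j, hj, hjc⟩ := (Nat.dvd_prime_pow hp.out).1 (hPcard ▸ Subgroup.card_dvd_of_le hP₀P)
    have hyP₀ : Z₀ ≤ P₀ := fun z hz => by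
      obtain ⟨m, rfl⟩ := hZy z hz
      exact P₀.pow_mem (Subgroup.subset_closure (Set.mem_insert _ _)) m
    have hj3 : j ≠ 3 := fun h => hvP₀ (by
      rw [Subgroup.eq_of_le_of_card_ge hP₀P (by rw [hjc, h, hPcard])]
      exact hvP)
    have hj01 : 2 ≤ j := by
      by_contra hlt
      have hle : Nat.card P₀ ≤ Nat.card Z₀ := by
        rw [hjc, hZcard]
        exact (Nat.pow_le_pow_right hp.out.pos (show j ≤ 1 by omega)).trans (pow_one p).le
      have heq := Subgroup.eq_of_le_of_card_ge hyP₀ hle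
      exact hg₁E (hZE (heq ▸ Subgroup.subset_closure (Set.mem_insert_of_mem _ rfl)))
    rw [hjc, show j = 2 by omega]
  haveI hP₀n : (P₀.subgroupOf (P : Subgroup G)).Normal := by
    apply Subgroup.normal_of_index_eq_minFac_card
    have h := Subgroup.card_mul_index (P₀.subgroupOf (P : Subgroup G))
    rw [Nat.card_congr (Subgroup.subgroupOfEquivOfLe hP₀P).toEquiv, hP₀card, hPcard, pow_succ] at h
    rw [hPcard, hp.out.pow_minFac (by norm_num : 3 ≠ 0)]
    exact Nat.eq_of_mul_eq_mul_left (pow_pos hp.out.pos 2) h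
  have hquot : ∀ x ∈ (P : Subgroup G), x ∉ P₀ → ∃ j : ℕ, ∃ h ∈ P₀, x ^ j = v * h := by
    intro x hx hxP
    have hA : Nat.card ((P : Subgroup G) ⧸ P₀.subgroupOf (P : Subgroup G)) = p := by
      have h1 := Subgroup.card_eq_card_quotient_mul_card_subgroup (P₀.subgroupOf (P : Subgroup G))
      rw [Nat.card_congr (Subgroup.subgroupOfEquivOfLe hP₀P).toEquiv, hP₀card, hPcard,
        pow_succ' p 2] at h1
      exact (Nat.eq_of_mul_eq_mul_right (pow_pos hp.out.pos 2) h1).symm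
    obtain ⟨j, hj⟩ := mem_powers_of_prime_card hA
      (g := QuotientGroup.mk (⟨x, hx⟩ : (P : Subgroup G))) (g' := QuotientGroup.mk ⟨v, hvP⟩)
      fun h => hxP (Subgroup.mem_subgroupOf.1 ((QuotientGroup.eq_one_iff _).1 h))
    have hj' := QuotientGroup.eq.1 hj.symm
    exact ⟨j, v⁻¹ * x ^ j, by simpa [Subgroup.mem_subgroupOf] using hj', by group⟩
  -- an element of `P` fixing a point generates the stabiliser in `P`
  have hord : ∀ x ∈ (P : Subgroup G), x ≠ 1 → ∀ c : Ω, x • c = c →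
      (x ∉ P₀) ∧ Nat.card ↥((P : Subgroup G) ⊓ stabilizer G c) = p := by
    intro x hx hx1 c hc
    obtain ⟨g, hgx⟩ := hg.conj_into_V P.2 hx hc
    refine ⟨fun h => hP₀real x h hx1 g hgx, ?_⟩
    haveI := pretransitive S.setup
    have hd1 : Nat.card ↥((P : Subgroup G) ⊓ stabilizer G c) ∣ p ^ 3 :=
      hPcard ▸ Subgroup.card_dvd_of_le inf_le_left
    have hd2 : Nat.card ↥((P : Subgroup G) ⊓ stabilizer G c) ∣
        p * (Nat.card Q * Nat.card S.K) := by
      refine (Subgroup.card_dvd_of_le inf_le_right).trans (dvd_of_eq ?_)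
      obtain ⟨k, hk⟩ := exists_smul_eq G a c
      rw [Nat.card_congr (MulAction.stabilizerEquivStabilizer hk.symm).toEquiv.symm,
        card_stab S.setup, S.card_D, hg.card_V]
      ring
    obtain ⟨j, -, hjc⟩ := (Nat.dvd_prime_pow hp.out).1 hd1
    have hj0 : j ≠ 0 := fun h => by
      rw [h, pow_zero] at hjc
      have := Subgroup.eq_bot_of_card_eq _ hjc
      exact hx1 (Subgroup.mem_bot.1 (this ▸ (⟨hx, hc⟩ : x ∈ (P : Subgroup G) ⊓ stabilizer G c)))
    have hj1 : j ≤ 1 := by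
      by_contra h
      have h2 : p ^ 2 ∣ p * (Nat.card Q * Nat.card S.K) :=
        (pow_dvd_pow p (show 2 ≤ j by omega)).trans (hjc ▸ hd2)
      rw [pow_two] at h2
      rcases hp.out.dvd_mul.1 (Nat.dvd_of_mul_dvd_mul_left hp.out.pos h2) with h | h
      · rw [hg.card_Q hcomm, hn1] at h
        have := Nat.le_of_dvd (by have := hp.out.two_le; omega) (hp.out.dvd_of_dvd_pow h)
        have := hp.out.two_le
        omega
      · exact hg.not_dvd_K h
    rw [hjc, show j = 1 by omega, pow_one]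
  have huniq : ∀ h ∈ P₀, ∀ h' ∈ P₀, ∀ c : Ω, (v * h) • c = c → (v * h') • c = c → h = h' := by
    intro h hh h' hh' c hc hc'
    have hmem : (v * h)⁻¹ * (v * h') ∈ stabilizer G c :=
      (stabilizer G c).mul_mem ((stabilizer G c).inv_mem hc) hc'
    have hP₀m : (v * h)⁻¹ * (v * h') ∈ P₀ := by
      rw [show (v * h)⁻¹ * (v * h') = h⁻¹ * h' by group]
      exact P₀.mul_mem (P₀.inv_mem hh) hh'
    by_contra hne
    refine (hord _ (hP₀P hP₀m) (fun he => hne ?_) c hmem).1 hP₀m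
    exact mul_left_cancel (inv_mul_eq_one.1 he)
  -- the fixed points
  set T : Set G := {h | h ∈ P₀ ∧ ∃ c : Ω, (v * h) • c = c} with hT
  set F : Set Ω := {c | ∃ x ∈ (P : Subgroup G), x ≠ 1 ∧ x • c = c} with hF
  have hvh : ∀ h ∈ P₀, v * h ≠ 1 := fun h hh he =>
    hvP₀ (eq_inv_of_mul_eq_one_left he ▸ P₀.inv_mem hh)
  have hfix : ∀ h : T, Nat.card {c : Ω // (v * (h : G)) • c = c} = p := by
    rintro ⟨h, hh, c, hc⟩
    obtain ⟨g, hgx⟩ := hg.conj_into_V P.2 (mul_mem hvP (hP₀P hh)) hc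
    rw [hg.card_fix_conj hgx (hvh h hh), hn]
  have hFcard : Nat.card F = Nat.card T * p := by
    haveI := Fintype.ofFinite T
    have hs : Nat.card (Σ h : T, {c : Ω // (v * (h : G)) • c = c}) = Nat.card T * p := by
      rw [Nat.card_sigma, Finset.sum_congr rfl fun h _ => hfix h, Finset.sum_const,
        Finset.card_univ, smul_eq_mul, Nat.card_eq_fintype_card]
    rw [← hs]
    refine (Nat.card_congr (Equiv.ofBijective
      (fun x : Σ h : T, {c : Ω // (v * (h : G)) • c = c} => (⟨x.2.1, v * (x.1 : G),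
        mul_mem hvP (hP₀P x.1.2.1), hvh _ x.1.2.1, x.2.2⟩ : F)) ⟨?_, ?_⟩)).symm
    · rintro ⟨⟨h, hh⟩, ⟨c, hc⟩⟩ ⟨⟨h', hh'⟩, ⟨c', hc'⟩⟩ he
      have hcc : c = c' := congrArg Subtype.val he
      subst hcc
      have := huniq h hh.1 h' hh'.1 c hc hc'
      subst this
      rfl
    · rintro ⟨c, x, hx, hx1, hxc⟩
      obtain ⟨j, h, hh, hj⟩ := hquot x hx (hord x hx hx1 c hxc).1
      have hc' : (v * h) • c = c := hj ▸ pow_mem (show x ∈ stabilizer G c from hxc) j
      exact ⟨⟨⟨h, hh, c, hc'⟩, ⟨c, hc'⟩⟩, rfl⟩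
  have hfree : p ^ 3 ∣ Nat.card (Fᶜ : Set Ω) := by
    rw [← hPcard]
    refine AbelianAux.card_dvd_of_free _ (fun g c hc => ?_) fun g c hc he => ?_
    · rintro ⟨x, hx, hx1, hxc⟩
      refine hc ⟨(g : G)⁻¹ * x * g, mul_mem (mul_mem (inv_mem g.2) hx) g.2,
        fun h => hx1 (conj_eq_one_iff.1 (by rwa [inv_inv] : (g : G)⁻¹ * x * (g : G)⁻¹⁻¹ = 1)), ?_⟩
      rw [mul_smul, mul_smul, inv_smul_eq_iff]
      exact hxc
    · by_contra hne
      exact hc ⟨g, g.2, fun h => hne (Subtype.ext h), he⟩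
  have hTZ : (Z₀ : Set G) ⊆ T := by
    intro z hz
    obtain ⟨m, rfl⟩ := hZy z hz
    refine ⟨P₀.pow_mem (Subgroup.subset_closure (Set.mem_insert _ _)) m, ?_⟩
    obtain ⟨g, -, hgv⟩ := hconj v hg.mem hv1 _ hz
    exact ⟨g • a, by rw [← hgv, mul_smul, mul_smul, inv_smul_smul, (S.V_mem_D hg.mem).1]⟩
  have hTeq : T = (Z₀ : Set G) := by
    refine (Set.eq_of_subset_of_ncard_le hTZ ?_ (Set.toFinite _)).symm
    have hge : p ≤ Nat.card T := by
      rw [← hZcard, ← SetLike.coe_sort_coe, Nat.card_coe_set_eq, Nat.card_coe_set_eq]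
      exact Set.ncard_le_ncard hTZ (Set.toFinite _)
    have hle : Nat.card T ≤ p ^ 2 := by
      rw [← hP₀card, ← SetLike.coe_sort_coe, Nat.card_coe_set_eq, Nat.card_coe_set_eq]
      exact Set.ncard_le_ncard (fun x hx => hx.1) (Set.toFinite _)
    obtain ⟨r, hr⟩ := hfree
    have hsum : Nat.card T * p + p ^ 3 * r = p ^ 2 * (1 + p * z₀) := by
      rw [← hFcard, ← hr, ← hΩ, Nat.card_coe_set_eq, Nat.card_coe_set_eq, Set.ncard_add_ncard_compl]
    have hsum' : Nat.card T + p ^ 2 * r = p + p ^ 2 * z₀ :=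
      Nat.eq_of_mul_eq_mul_right hp.out.pos (by linarith)
    have hmod : Nat.card T % p ^ 2 = p % p ^ 2 := by
      have := congrArg (· % p ^ 2) hsum'
      simpa [Nat.add_mul_mod_self_left] using this
    have hlt : p < p ^ 2 := by nlinarith [hp.out.two_le]
    rw [Nat.mod_eq_of_lt hlt] at hmod
    have hT1 : Nat.card T = p := by
      rcases Nat.lt_or_eq_of_le hle with h | h
      · rwa [Nat.mod_eq_of_lt h] at hmod
      · rw [h, Nat.mod_self] at hmod
        exact absurd hmod.symm hp.out.ne_zero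
    rw [← Nat.card_coe_set_eq, ← Nat.card_coe_set_eq, hT1]
    exact hZcard.ge
  -- the transfer
  have hidx : ¬ p ∣ (P : Subgroup G).index := P.not_dvd_index
  obtain ⟨L, -, hvL, hL⟩ := AbelianAux.exists_hom (P : Subgroup G) P₀ hP₀P hP₀n
    (by rw [hPcard, hP₀card, pow_succ']) hidx hvP hg.pow_p hvP₀ (by
      intro k g hk hmem
      set x := g⁻¹ * v ^ k * g with hxdef
      have hvk1 : v ^ k ≠ 1 := fun h => hk (hg.order ▸ orderOf_dvd_of_pow_eq_one h)
      have hx1 : x ≠ 1 := fun h => hvk1 (by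
        rw [show v ^ k = g * x * g⁻¹ by rw [hxdef]; group, h]; group)
      have hxc : x • g⁻¹ • a = g⁻¹ • a := by
        rw [hxdef, mul_smul, mul_smul, smul_inv_smul,
          (S.V_mem_D (S.V.pow_mem hg.mem k)).1]
      obtain ⟨hxP, hcard⟩ := hord x hmem hx1 _ hxc
      obtain ⟨j, h, hh, hj⟩ := hquot x hmem hxP
      have hfix' : (v * h) • g⁻¹ • a = g⁻¹ • a :=
        hj ▸ pow_mem (show x ∈ stabilizer G (g⁻¹ • a) from hxc) j
      have hhZ : h ∈ Z₀ := by
        have : h ∈ T := ⟨hh, _, hfix'⟩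
        rw [hTeq] at this
        exact this
      obtain ⟨i, hi⟩ := mem_powers_of_prime_card hcard
        (g := (⟨v * h, mul_mem hvP (hP₀P hh), hfix'⟩ : ↥((P : Subgroup G) ⊓ stabilizer G (g⁻¹ • a))))
        (g' := ⟨x, hmem, hxc⟩) fun he => hvh h hh (congrArg Subtype.val he)
      have hi' : (v * h) ^ i = x := congrArg Subtype.val hi
      have hcv : Commute v h := hZcomm h hhZ v hvP
      rw [hcv.mul_pow] at hi'
      have hvi1 : v ^ i ≠ 1 := fun he => hxP (by rw [← hi', he, one_mul]; exact P₀.pow_mem hh i)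
      obtain ⟨u, -, hu⟩ := hconj _ (S.V.pow_mem hg.mem i) hvi1 _ (Z₀.pow_mem hhZ i)
      have hik : v ^ i = v ^ k := hg.fusion (S.V.pow_mem hg.mem i) (S.V.pow_mem hg.mem k)
        (g := g * u) (by
          rw [show g * u * v ^ i * (g * u)⁻¹ = g * (u * v ^ i * u⁻¹) * g⁻¹ by group, hu, hi', hxdef]
          group)
      rw [← hi', hik, ((Commute.pow_left hcv k).pow_right i).eq, mul_inv_cancel_right]
      exact P₀.pow_mem hh i)
  exact hg.false_of_normal hcomm L hvL hL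

end Data

end CfsgLib.Recog.RankOneSuzuki
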