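import Cfsg.Agent.Recog.RankOneSuzuki.Cases
import Cfsg.Agent.Recog.RankOneSuzuki.Field

/-!
# Suzuki's rank one theorem: the set-up of the centraliser of a subgroup of `V`

For `X ≤ V` the centraliser of `X` induces a rank one set-up on the fixed points of `X`, with the
images of `C_Q(X)`, `s` and `r`.
-/

set_option autoImplicit false
set_option linter.unusedSectionVars false
set_option linter.style.haveILetI false

namespace CfsgLib.Recog.RankOneSuzuki

open MulAction CfsgLib.Recog.RankOne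

variable {G : Type*} [Group G] (Ω : Type*) [MulAction G Ω]

local notation "D[" a "," t "]" => stabilizer G a ⊓ stabilizer G (t • a)

local notation "Cent(" X ")" => Subgroup.centralizer (SetLike.coe X)

/-- The fixed points of `X`, acted on by the centraliser of `X`. -/
def fixSub (X : Subgroup G) : SubMulAction Cent(X) Ω where
  carrier := {c | ∀ x ∈ X, x • c = c}
  smul_mem' := fun z _c hc x hx =>
    fix_smul_of_centralizing (X := (X : Set G)) z.2 hc x hx

/-- The group induced by the centraliser of `X` on the fixed points of `X`. -/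
abbrev centGroup (X : Subgroup G) :=
  Cent(X) ⧸ (MulAction.toPermHom Cent(X) (fixSub Ω X)).ker

instance centGroupAction (X : Subgroup G) : MulAction (centGroup Ω X) (fixSub Ω X) :=
  MulAction.compHom _ (QuotientGroup.kerLift (MulAction.toPermHom Cent(X) (fixSub Ω X)))

instance faithful_centGroup (X : Subgroup G) : FaithfulSMul (centGroup Ω X) (fixSub Ω X) :=
  ⟨fun h => QuotientGroup.kerLift_injective _ (Equiv.ext h)⟩

/-- The projection onto the induced group. -/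
def toCent (X : Subgroup G) : Cent(X) →* centGroup Ω X :=
  QuotientGroup.mk' _

theorem toCent_surjective (X : Subgroup G) : Function.Surjective (toCent Ω X) :=
  QuotientGroup.mk'_surjective _

variable {Ω}

instance finite_centGroup [Finite G] (X : Subgroup G) : Finite (centGroup Ω X) :=
  Finite.of_surjective _ (toCent_surjective Ω X)

theorem toCent_smul {X : Subgroup G} (g : Cent(X)) (c : fixSub Ω X) :
    ((toCent Ω X g • c : fixSub Ω X) : Ω) = (g : G) • (c : Ω) := rfl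

/-- The image in the induced group of a subgroup of `G`. -/
def centImage (X H : Subgroup G) : Subgroup (centGroup Ω X) :=
  (H.subgroupOf Cent(X)).map (toCent Ω X)

theorem mem_centImage {X H : Subgroup G} {y : centGroup Ω X} :
    y ∈ centImage X H ↔ ∃ g : Cent(X), (g : G) ∈ H ∧ toCent Ω X g = y := by
  simp [centImage, Subgroup.mem_map, Subgroup.mem_subgroupOf]

namespace Data

variable {a : Ω} {t : G} {Q : Subgroup G} (S : Data a t Q) {X : Subgroup G}

theorem mem_V {v : G} : v ∈ S.V ↔ v ∈ D[a, t] ∧ v * t = t * v := by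
  rw [Data.V, Subgroup.mem_inf, Subgroup.mem_centralizer_singleton_iff]

include S in
theorem r_fix : t • S.r • t • a = S.r • t • a := by
  rw [← mul_smul S.r, ← mul_smul t,
    show t * (S.r * t) = S.r * (S.r⁻¹ * t * S.r) * t by group, ← S.special,
    show S.r * (t * S.s * t) * t = S.r * t * S.s * (t * t) by group, S.tt, mul_one, mul_smul,
    fix_a S.setup (S.Z_le S.s_mem)]

theorem V_comm_r [Finite G] {v : G} (hv : v ∈ S.V) : v * S.r = S.r * v := by
  obtain ⟨hD, hvt⟩ := S.mem_V.1 hv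
  exact commute_of_fix S.setup hD.1 S.r_mem (b_ne S.setup) hD.2
    (fix_of_commute S.setup S.setup.ne_one S.tt S.r_fix hvt)

theorem r_ne_one : S.r ≠ 1 := by
  intro h
  have h1 := S.special
  rw [h] at h1
  simp only [inv_one, one_mul, mul_one] at h1
  have h2 : S.s = t := by
    calc S.s = t * (t * S.s * t) * t := by simp [mul_assoc, S.tt_cancel, S.tt]
      _ = t := by rw [h1, S.tt, one_mul]
  exact S.setup.not_mem (h2 ▸ S.setup.le (S.Z_le S.s_mem))

theorem eq_one_of_K_V [Finite G] {k : G} (hk : k ∈ S.K) (hv : k ∈ S.V) : k = 1 := by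
  obtain ⟨hD, hvt⟩ := S.mem_V.1 hv
  refine eq_one_of_sq S.setup.odd_card hD ?_
  have h := S.t_K hk
  rw [← hvt, mul_assoc, S.tt, mul_one] at h
  exact mul_eq_one_iff_eq_inv.2 h

theorem t_mem_cent (hX : X ≤ S.V) : t ∈ Cent(X) :=
  Subgroup.mem_centralizer_iff.2 fun _ hx => (S.mem_V.1 (hX hx)).2

theorem s_mem_cent [Finite G] (hX : X ≤ S.V) : S.s ∈ Cent(X) :=
  Subgroup.mem_centralizer_iff.2 fun _ hx => S.V_comm_s (hX hx)

theorem r_mem_cent [Finite G] (hX : X ≤ S.V) : S.r ∈ Cent(X) :=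
  Subgroup.mem_centralizer_iff.2 fun _ hx => S.V_comm_r (hX hx)

/-- The point `a` among the fixed points. -/
def fixPt (hX : X ≤ S.V) : fixSub Ω X := ⟨a, fun _ hx => (S.mem_V.1 (hX hx)).1.1⟩

/-- The involution `t` in the induced group. -/
def centT (hX : X ≤ S.V) : centGroup Ω X := toCent Ω X ⟨t, S.t_mem_cent hX⟩

theorem fix_three [Finite G] (hX : X ≤ S.V) : ∀ x ∈ (X : Set G),
    x • a = a ∧ x • t • a = t • a ∧ x • S.r • t • a = S.r • t • a := fun x hx =>
  ⟨(S.mem_V.1 (hX hx)).1.1, (S.mem_V.1 (hX hx)).1.2, by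
    rw [← mul_smul, S.V_comm_r (hX hx), mul_smul, (S.mem_V.1 (hX hx)).1.2]⟩

theorem eq_one_of_toCent (hX : X ≤ S.V) {q : Cent(X)} (hq : (q : G) ∈ Q)
    (h : toCent Ω X q = 1) : q = 1 := by
  have h1 := toCent_smul (Ω := Ω) q ⟨t • a, fun _ hx => (S.mem_V.1 (hX hx)).1.2⟩
  rw [h, one_smul] at h1
  exact Subtype.ext (eq_one_of_mem_D S.setup hq h1.symm)

theorem toCent_inj_Q (hX : X ≤ S.V) {q q' : Cent(X)} (hq : (q : G) ∈ Q) (hq' : (q' : G) ∈ Q)
    (h : toCent Ω X q = toCent Ω X q') : q = q' := by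
  refine (inv_mul_eq_one.1 (S.eq_one_of_toCent hX (q := q⁻¹ * q')
    (Q.mul_mem (Q.inv_mem hq) hq') ?_))
  rw [map_mul, map_inv, h, inv_mul_cancel]

theorem centImage_inj (hX : X ≤ S.V) {H : Subgroup G} (hH : H ≤ Q) :
    Nat.card (centImage (Ω := Ω) X H) = Nat.card ↥(H ⊓ Cent(X)) := by
  refine (Nat.card_congr (Equiv.ofBijective (fun g : ↥(H ⊓ Cent(X)) =>
    (⟨toCent Ω X ⟨g, g.2.2⟩, mem_centImage.2 ⟨⟨g, g.2.2⟩, g.2.1, rfl⟩⟩ : centImage (Ω := Ω) X H))
    ⟨?_, ?_⟩)).symm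
  · intro g g' h
    exact Subtype.ext (congrArg Subtype.val
      (S.toCent_inj_Q hX (hH g.2.1) (hH g'.2.1) (congrArg Subtype.val h)) :)
  · rintro ⟨y, hy⟩
    obtain ⟨g, hg, rfl⟩ := mem_centImage.1 hy
    exact ⟨⟨g, hg, g.2⟩, rfl⟩

/-- Decompositions of centralised elements are centralised. -/
theorem decomp_mem_cent [Finite G] (hX : X ≤ S.V) {y g h f : G} (hy : y ∈ Cent(X)) (hg : g ∈ Q)
    (hh : h ∈ D[a, t]) (hf : f ∈ Q) (he : t * y * t = g * h * t * f) :
    g ∈ Cent(X) ∧ h ∈ Cent(X) ∧ f ∈ Cent(X) := by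
  have key : ∀ x ∈ X, x * g * x⁻¹ = g ∧ x * h * x⁻¹ = h ∧ x * f * x⁻¹ = f := by
    intro x hx
    obtain ⟨hxD, hxt⟩ := S.mem_V.1 (hX hx)
    have h1 : x * (t * y * t) * x⁻¹ = t * y * t := by
      rw [show x * (t * y * t) * x⁻¹ = x * t * y * (t * x⁻¹) by group, hxt, mul_assoc t x,
        Subgroup.mem_centralizer_iff.1 hy x hx]
      have : t * x⁻¹ = x⁻¹ * t := by
        rw [eq_inv_mul_iff_mul_eq, ← mul_assoc, hxt, mul_inv_cancel_right]
      rw [this]; group
    have h2 : x * g * x⁻¹ * (x * h * x⁻¹) * t * (x * f * x⁻¹) = g * h * t * f := by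
      rw [← he, ← h1, he,
        show x * (g * h * t * f) * x⁻¹ = x * g * x⁻¹ * (x * h * x⁻¹) * (x * t) * f * x⁻¹ by group,
        hxt]
      group
    exact decomp_unique S.setup (S.setup.conj_mem x hxD.1 g hg)
      ((D[a, t]).mul_mem ((D[a, t]).mul_mem hxD hh) ((D[a, t]).inv_mem hxD))
      (S.setup.conj_mem x hxD.1 f hf) hg hh hf h2
  exact ⟨Subgroup.mem_centralizer_iff.2 fun x hx => mul_inv_eq_iff_eq_mul.1 (key x hx).1,
    Subgroup.mem_centralizer_iff.2 fun x hx => mul_inv_eq_iff_eq_mul.1 (key x hx).2.1,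
    Subgroup.mem_centralizer_iff.2 fun x hx => mul_inv_eq_iff_eq_mul.1 (key x hx).2.2⟩

variable [Finite G]

theorem exists_pair_fix (hX : X ≤ S.V) {p q p' q' : fixSub Ω X} (h : p ≠ q) (h' : p' ≠ q') :
    ∃ g : Cent(X), (g : G) • (p : Ω) = p' ∧ (g : G) • (q : Ω) = q' := by
  obtain ⟨g, hg, h1, h2⟩ := two_transitive_fixed S.setup (X := (X : Set G))
    (b_ne S.setup).symm
    (fun h => smul_ne_a S.setup S.r_mem (b_ne S.setup) h.symm)
    (fun h => S.r_ne_one (eq_one_of_mem_D S.setup S.r_mem h.symm))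
    (S.fix_three hX) (b₁ := (p : Ω)) (b₂ := (q : Ω)) (c₁ := (p' : Ω)) (c₂ := (q' : Ω))
    (fun x hx => ⟨p.2 x hx, q.2 x hx, p'.2 x hx, q'.2 x hx⟩)
    (fun e => h (Subtype.ext e)) (fun e => h' (Subtype.ext e))
  exact ⟨⟨g, hg⟩, h1, h2⟩

theorem cent_mem_stab (hX : X ≤ S.V) {g : G} (hg : g ∈ Cent(X)) (hga : g • a = a) :
    ∃ q ∈ Q, q ∈ Cent(X) ∧ ∃ d ∈ D[a, t], d ∈ Cent(X) ∧ g = q * d := by
  obtain ⟨q, hq, d, hd, rfl⟩ := exists_mul S.setup hga
  have hqC : q ∈ Cent(X) := Subgroup.mem_centralizer_iff.2 fun x hx => by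
    obtain ⟨h1, h2, -⟩ := S.fix_three hX x hx
    refine commute_of_fix S.setup h1 hq (b_ne S.setup) h2 ?_
    have h3 := fix_smul_of_centralizing (X := (X : Set G)) hg
      (fun y hy => (S.fix_three hX y hy).2.1) x hx
    rwa [mul_smul, hd.2] at h3
  refine ⟨q, hq, hqC, d, hd, ?_, rfl⟩
  have := Subgroup.mul_mem _ (Subgroup.inv_mem _ hqC) hg
  rwa [inv_mul_cancel_left] at this

theorem cent_setup (hX : X ≤ S.V) :
    Cfsg.IsRankOneSetup (centGroup Ω X) (fixSub Ω X) (S.fixPt hX) (S.centT hX)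
      (centImage X Q) where
  two_transitive := by
    rw [is_two_pretransitive_iff]
    intro p q p' q' h h'
    obtain ⟨g, h1, h2⟩ := S.exists_pair_fix hX h h'
    exact ⟨toCent Ω X g, Subtype.ext h1, Subtype.ext h2⟩
  mul_self := by
    rw [centT, ← map_mul, show (⟨t, S.t_mem_cent hX⟩ : Cent(X)) * ⟨t, S.t_mem_cent hX⟩ = 1 from
      Subtype.ext S.tt, map_one]
  ne_one := fun h => b_ne S.setup (by
    have h1 : S.centT hX • S.fixPt hX = S.fixPt hX := by rw [h, one_smul]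
    exact congrArg Subtype.val h1)
  not_mem := fun h => b_ne S.setup (congrArg Subtype.val (mem_stabilizer_iff.1 h))
  le := by
    intro y hy
    obtain ⟨g, hg, rfl⟩ := mem_centImage.1 hy
    exact Subtype.ext (fix_a S.setup hg)
  conj_mem := by
    intro h hh y hy
    obtain ⟨g, hg, rfl⟩ := mem_centImage.1 hy
    obtain ⟨c, rfl⟩ := toCent_surjective Ω X h
    refine mem_centImage.2 ⟨c * g * c⁻¹, S.setup.conj_mem _ ?_ _ hg, by simp⟩
    exact congrArg Subtype.val (mem_stabilizer_iff.1 hh)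
  inf_eq_bot := by
    rw [eq_bot_iff]
    rintro y ⟨hy, hyb⟩
    obtain ⟨g, hg, rfl⟩ := mem_centImage.1 hy
    rw [Subgroup.mem_bot, show g = 1 from Subtype.ext (eq_one_of_mem_D S.setup hg
      (congrArg Subtype.val (mem_stabilizer_iff.1 hyb))), map_one]
  sup_eq := by
    refine le_antisymm (sup_le ?_ inf_le_left) fun y hy => ?_
    · intro y hy
      obtain ⟨g, hg, rfl⟩ := mem_centImage.1 hy
      exact Subtype.ext (fix_a S.setup hg)
    · obtain ⟨⟨g, hgC⟩, rfl⟩ := toCent_surjective Ω X y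
      obtain ⟨q, hq, hqC, d, hd, hdC, rfl⟩ :=
        S.cent_mem_stab hX hgC (congrArg Subtype.val (mem_stabilizer_iff.1 hy))
      rw [show (⟨q * d, hgC⟩ : Cent(X)) = ⟨q, hqC⟩ * ⟨d, hdC⟩ from rfl, map_mul]
      exact Subgroup.mul_mem_sup (mem_centImage.2 ⟨⟨q, hqC⟩, hq, rfl⟩)
        ⟨Subtype.ext hd.1, Subtype.ext hd.2⟩
  even_card := by
    rw [S.centImage_inj hX le_rfl, even_iff_two_dvd,
      ← (orderOf_eq_prime (by rw [pow_two]; exact S.Z_sq S.s_mem) S.s_ne : orderOf S.s = 2)]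
    exact Subgroup.orderOf_dvd_natCard _ ⟨S.Z_le S.s_mem, S.s_mem_cent hX⟩
  odd_card := by
    refine S.setup.odd_card.of_dvd_nat ?_
    have h : stabilizer (centGroup Ω X) (S.fixPt hX) ⊓
        stabilizer (centGroup Ω X) (S.centT hX • S.fixPt hX) ≤
          centImage X (D[a, t]) := by
      rintro y ⟨h1, h2⟩
      obtain ⟨g, rfl⟩ := toCent_surjective Ω X y
      exact mem_centImage.2 ⟨g, ⟨congrArg Subtype.val (mem_stabilizer_iff.1 h1),
        congrArg Subtype.val (mem_stabilizer_iff.1 h2)⟩, rfl⟩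
    exact ((Subgroup.card_dvd_of_le h).trans (Subgroup.card_map_dvd _ _)).trans
      (Subgroup.card_comap_dvd_of_injective _ _ Subtype.val_injective)

theorem card_fixSub (hX : X ≤ S.V) :
    Nat.card (fixSub Ω X) = Nat.card ↥(Q ⊓ Cent(X)) + 1 := by
  rw [card_points (S.cent_setup hX), S.centImage_inj hX le_rfl]

/-- The two-point stabiliser of the induced group is the image of `C_D(X)`. -/
theorem cent_D (hX : X ≤ S.V) {y : centGroup Ω X}
    (hy : y ∈ stabilizer (centGroup Ω X) (S.fixPt hX) ⊓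
      stabilizer (centGroup Ω X) (S.centT hX • S.fixPt hX)) :
    ∃ d : Cent(X), (d : G) ∈ D[a, t] ∧ toCent Ω X d = y := by
  obtain ⟨d, rfl⟩ := toCent_surjective Ω X y
  exact ⟨d, ⟨congrArg Subtype.val (mem_stabilizer_iff.1 hy.1),
    congrArg Subtype.val (mem_stabilizer_iff.1 hy.2)⟩, rfl⟩

/-- Every centralised element of `D` is a centralised element of `V` times one of `K`. -/
theorem cent_D_split (hX : X ≤ S.V) {d : G} (hd : d ∈ D[a, t]) (hdC : d ∈ Cent(X)) :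
    ∃ v ∈ S.V, v ∈ Cent(X) ∧ ∃ k ∈ S.K, k ∈ Cent(X) ∧ d = v * k := by
  have ho : orderOf t = 2 := orderOf_eq_prime (by rw [pow_two]; exact S.tt) S.setup.ne_one
  have htC := S.t_mem_cent hX
  obtain ⟨h1, -, -⟩ := Cfsg.Agent.S1124.result t ho (D[a, t] ⊓ Cent(X))
    (S.setup.odd_card.of_dvd_nat (Subgroup.card_dvd_of_le inf_le_left)) fun x hx =>
      ⟨by rw [S.ti]; exact t_norm S.setup x hx.1,
        Subgroup.mul_mem _ (Subgroup.mul_mem _ htC hx.2) (Subgroup.inv_mem _ htC)⟩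
  obtain ⟨⟨v, k⟩, ⟨hv, hk, he⟩, -⟩ := h1 d ⟨hd, hdC⟩
  refine ⟨v, S.mem_V.2 ⟨hv.1.1, Subgroup.mem_centralizer_singleton_iff.1 hv.2⟩, hv.1.2, k,
    (S.mem_K k).2 ⟨hk.1.1, ?_⟩, hk.1.2, he⟩
  have := hk.2
  rwa [S.ti] at this

theorem cent_mem_K (hX : X ≤ S.V) {y : centGroup Ω X} :
    y ∈ centImage X S.K ↔ y ∈ stabilizer (centGroup Ω X) (S.fixPt hX) ⊓
      stabilizer (centGroup Ω X) (S.centT hX • S.fixPt hX) ∧
        S.centT hX * y * S.centT hX = y⁻¹ := by
  constructor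
  · intro hy
    obtain ⟨g, hg, rfl⟩ := mem_centImage.1 hy
    refine ⟨⟨Subtype.ext (S.K_le hg).1, Subtype.ext (S.K_le hg).2⟩, ?_⟩
    rw [centT, ← map_mul, ← map_mul, ← map_inv]
    exact congrArg _ (Subtype.ext (S.t_K hg))
  · rintro ⟨hy, hyt⟩
    obtain ⟨⟨d, hdC⟩, hd, rfl⟩ := S.cent_D hX hy
    obtain ⟨v, hv, hvC, k, hk, hkC, rfl⟩ := S.cent_D_split hX hd hdC
    set v' : Cent(X) := ⟨v, hvC⟩ with hv'
    set k' : Cent(X) := ⟨k, hkC⟩ with hk'
    rw [show (⟨v * k, hdC⟩ : Cent(X)) = v' * k' from rfl] at hyt ⊢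
    set T : Cent(X) := ⟨t, S.t_mem_cent hX⟩ with hT
    obtain ⟨hvD, hvt⟩ := S.mem_V.1 hv
    have hTk : T * k' * T = k'⁻¹ := Subtype.ext (S.t_K hk)
    have hTv : T * v' = v' * T := Subtype.ext hvt.symm
    have hTT : T * T = 1 := Subtype.ext S.tt
    rw [centT, ← hT, ← map_mul, ← map_mul] at hyt
    have h1 : T * (v' * k') * T = v' * k'⁻¹ := by
      rw [← hTk, show T * (v' * k') * T = T * v' * k' * T by group, hTv]; group
    rw [h1] at hyt
    -- the square of the image of `v` is inverted and fixed by `t`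
    rw [← map_inv, map_mul, mul_inv_rev, map_mul, map_inv, map_inv] at hyt
    have hm : toCent Ω X (v' * v') = toCent Ω X (v' * k'⁻¹ * v'⁻¹ * k') := by
      simp only [map_mul, map_inv]
      calc toCent Ω X v' * toCent Ω X v'
          = toCent Ω X v' * (toCent Ω X v' * (toCent Ω X k')⁻¹ * toCent Ω X k') := by group
        _ = toCent Ω X v' * ((toCent Ω X k')⁻¹ * (toCent Ω X v')⁻¹ * toCent Ω X k') := by rw [hyt]
        _ = _ := by group
    set c : Cent(X) := v' * k'⁻¹ * v'⁻¹ * k' with hc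
    have hcK : (c : G) ∈ S.K := S.K.mul_mem (S.K_normal v hvD _ (S.K.inv_mem hk)) hk
    have hTc : T * c * T = c⁻¹ := Subtype.ext (S.t_K hcK)
    have hTv2 : T * (v' * v') * T = v' * v' := by
      calc T * (v' * v') * T = (T * v') * v' * T := by group
        _ = v' * T * v' * T := by rw [hTv]
        _ = v' * (T * v') * T := by group
        _ = v' * (v' * T) * T := by rw [hTv]
        _ = v' * v' * (T * T) := by group
        _ = _ := by rw [hTT, mul_one]
    have h4 : toCent Ω X (v' * v' * (v' * v')) = 1 := by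
      have h2 : toCent Ω X (v' * v') = (toCent Ω X c)⁻¹ := by
        rw [← map_inv, ← hTc]
        conv_lhs => rw [← hTv2]
        rw [map_mul, map_mul, hm, ← map_mul, ← map_mul]
      rw [map_mul (toCent Ω X) (v' * v') (v' * v')]
      nth_rewrite 1 [h2]
      rw [hm, inv_mul_cancel]
    have hv1 : toCent Ω X v' = 1 := by
      refine orderOf_eq_one_iff.1 (Nat.Coprime.eq_one_of_dvd ?_ (m := 2 ^ 2) ?_)
      · refine (Nat.coprime_two_right.2 ?_).pow_right 2
        refine Odd.of_dvd_nat ?_ (orderOf_map_dvd (toCent Ω X) v')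
        rw [← Subgroup.orderOf_coe]
        exact S.setup.odd_card.of_dvd_nat (Subgroup.orderOf_dvd_natCard _ hvD)
      · refine orderOf_dvd_of_pow_eq_one ?_
        rw [← map_pow, ← h4]
        congr 1
        simp [pow_succ, mul_assoc]
    rw [map_mul, hv1, one_mul]
    exact mem_centImage.2 ⟨k', hk, rfl⟩

theorem card_centImage_K :
    Nat.card (centImage (Ω := Ω) X S.K) ∣ Nat.card ↥(S.K ⊓ Cent(X)) := by
  refine (Subgroup.card_map_dvd _ _).trans (dvd_of_eq (Nat.card_congr ?_))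
  exact { toFun := fun g => ⟨((g : Cent(X)) : G), g.2, (g : Cent(X)).2⟩
          invFun := fun g => ⟨⟨g, g.2.2⟩, g.2.1⟩
          left_inv := fun _ => rfl
          right_inv := fun _ => rfl }

/-- The objects attached to the set-up of the centraliser of `X`. -/
def centData (hX : X ≤ S.V) (h4 : 4 ≤ Nat.card ↥(S.Z ⊓ Cent(X))) :
    Data (S.fixPt (Ω := Ω) hX) (S.centT hX) (centImage X Q) where
  setup := S.cent_setup hX
  Z := centImage X S.Z
  K := centImage X S.K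
  s := toCent Ω X ⟨S.s, S.s_mem_cent hX⟩
  r := toCent Ω X ⟨S.r, S.r_mem_cent hX⟩
  mem_Z := by
    intro y
    constructor
    · intro hy
      obtain ⟨g, hg, rfl⟩ := mem_centImage.1 hy
      exact ⟨mem_centImage.2 ⟨g, S.Z_le hg, rfl⟩, by
        rw [← map_mul, show g * g = 1 from Subtype.ext (S.Z_sq hg), map_one]⟩
    · rintro ⟨hy, hy2⟩
      obtain ⟨g, hg, rfl⟩ := mem_centImage.1 hy
      rw [← map_mul] at hy2
      exact mem_centImage.2 ⟨g, (S.mem_Z _).2 ⟨hg, congrArg Subtype.val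
        (S.eq_one_of_toCent hX (q := g * g) (Q.mul_mem hg hg) hy2)⟩, rfl⟩
  mem_K := fun _ => S.cent_mem_K hX
  K_normal := by
    intro y hy z hz
    obtain ⟨d, hd, rfl⟩ := S.cent_D hX hy
    obtain ⟨k, hk, rfl⟩ := mem_centImage.1 hz
    exact mem_centImage.2 ⟨d * k * d⁻¹, S.K_normal _ hd _ hk, by simp⟩
  K_cyclic := by
    haveI := S.K_cyclic
    haveI : IsCyclic ↥(S.K.subgroupOf Cent(X)) := isCyclic_of_injective
      ({ toFun := fun g => ⟨((g : Cent(X)) : G), g.2⟩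
         map_one' := rfl
         map_mul' := fun _ _ => rfl } : ↥(S.K.subgroupOf Cent(X)) →* S.K)
      fun g g' h => Subtype.ext (Subtype.ext (congrArg Subtype.val h :))
    exact isCyclic_of_surjective _ ((toCent Ω X).subgroupMap_surjective (S.K.subgroupOf Cent(X)))
  central := by
    intro y hy z hz
    obtain ⟨v, hv, rfl⟩ := mem_centImage.1 hy
    obtain ⟨q, hq, rfl⟩ := mem_centImage.1 hz
    rw [← map_mul, ← map_mul, show v * q = q * v from Subtype.ext (S.central _ hv _ hq)]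
  fpf := by
    intro y hy hy1 z hz he
    obtain ⟨k, hk, rfl⟩ := mem_centImage.1 hy
    obtain ⟨q, hq, rfl⟩ := mem_centImage.1 hz
    have hk1 : (k : G) ≠ 1 := fun h => hy1 (by rw [show k = 1 from Subtype.ext h, map_one])
    rw [← map_mul, ← map_mul] at he
    have h1 : k * q * k⁻¹ = q := S.toCent_inj_Q hX (S.conj_Q hk hq) hq (by
      rw [map_mul, he, map_mul, map_inv, mul_inv_cancel_right])
    rw [show q = 1 from Subtype.ext (S.fpf _ hk hk1 _ hq (congrArg Subtype.val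
      (mul_inv_eq_iff_eq_mul.1 h1))), map_one]
  trans := by
    intro y hy hy1 z hz hz1
    obtain ⟨v, hv, rfl⟩ := mem_centImage.1 hy
    obtain ⟨w, hw, rfl⟩ := mem_centImage.1 hz
    have hv1 : (v : G) ≠ 1 := fun h => hy1 (by rw [show v = 1 from Subtype.ext h, map_one])
    have hw1 : (w : G) ≠ 1 := fun h => hz1 (by rw [show w = 1 from Subtype.ext h, map_one])
    obtain ⟨k, hk, hkw⟩ := S.trans _ hv hv1 _ hw hw1
    have hkC : k ∈ Cent(X) := Subgroup.mem_centralizer_iff.2 fun x hx => by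
      obtain ⟨hxD, -⟩ := S.mem_V.1 (hX hx)
      have hx' : ∀ g : Cent(X), x * (g : G) * x⁻¹ = g := fun g =>
        mul_inv_eq_iff_eq_mul.2 (Subgroup.mem_centralizer_iff.1 g.2 x hx)
      have hkK := S.K_normal x hxD k hk
      have h1 : (x * k * x⁻¹)⁻¹ * v * (x * k * x⁻¹) = w := by
        calc (x * k * x⁻¹)⁻¹ * v * (x * k * x⁻¹)
            = (x * k * x⁻¹)⁻¹ * (x * v * x⁻¹) * (x * k * x⁻¹) := by rw [hx' v]
          _ = x * (k⁻¹ * v * k) * x⁻¹ := by group
          _ = _ := by rw [hkw, hx' w]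
      refine mul_inv_eq_iff_eq_mul.1 (?_ : x * k * x⁻¹ = k)
      by_contra hne
      refine hv1 (S.fpf _ (S.K.mul_mem hkK (S.K.inv_mem hk))
        (fun h => hne (mul_inv_eq_one.1 h)) _ (S.Z_le hv) ?_)
      calc x * k * x⁻¹ * k⁻¹ * v
          = x * k * x⁻¹ * (k⁻¹ * v * k) * k⁻¹ := by group
        _ = x * k * x⁻¹ * ((x * k * x⁻¹)⁻¹ * v * (x * k * x⁻¹)) * k⁻¹ := by rw [hkw, h1]
        _ = _ := by group
    exact ⟨toCent Ω X ⟨k, hkC⟩, mem_centImage.2 ⟨_, hk, rfl⟩, by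
      rw [← map_inv, ← map_mul, ← map_mul]
      exact congrArg _ (Subtype.ext hkw)⟩
  s_mem := mem_centImage.2 ⟨_, S.s_mem, rfl⟩
  s_ne := fun h => S.s_ne (congrArg Subtype.val
    (S.eq_one_of_toCent hX (q := ⟨S.s, S.s_mem_cent hX⟩) (S.Z_le S.s_mem) h))
  r_mem := mem_centImage.2 ⟨_, S.r_mem, rfl⟩
  special := by
    rw [centT, ← map_mul, ← map_mul, ← map_inv, ← map_mul, ← map_mul]
    exact congrArg _ (Subtype.ext S.special)
  four_le := by rwa [S.centImage_inj hX S.Z_le]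

theorem centData_r_mem (hX : X ≤ S.V) (h4 : 4 ≤ Nat.card ↥(S.Z ⊓ Cent(X))) :
    (S.centData (Ω := Ω) hX h4).r ∈ (S.centData (Ω := Ω) hX h4).Z ↔ S.r ∈ S.Z := by
  refine ⟨fun h => ?_, fun h => mem_centImage.2 ⟨⟨S.r, S.r_mem_cent hX⟩, h, rfl⟩⟩
  obtain ⟨g, hg, he⟩ := mem_centImage.1 h
  rwa [S.toCent_inj_Q hX (S.Z_le hg) S.r_mem he] at hg

/-- If `C_D(X) = C_K(X) X`, the induced set-up is split. -/
theorem centData_isSplit (hX : X ≤ S.V) (h4 : 4 ≤ Nat.card ↥(S.Z ⊓ Cent(X)))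
    (hD : ∀ d ∈ D[a, t], d ∈ Cent(X) → ∃ k ∈ S.K, ∃ x ∈ X, d = k * x) :
    (S.centData (Ω := Ω) hX h4).IsSplit := by
  intro y hy hy1
  obtain ⟨g, hg, h, hh, f, hf, he⟩ := (S.centData (Ω := Ω) hX h4).exists_decomp hy hy1
  refine ⟨g, hg, h, ?_, f, hf, he⟩
  obtain ⟨⟨d, hdC⟩, hd, rfl⟩ := S.cent_D hX hh
  obtain ⟨k, hk, x, hx, rfl⟩ := hD d hd hdC
  have hkC : k ∈ Cent(X) := Subgroup.mem_centralizer_iff.2 fun z hz => by
    obtain ⟨hzD, -⟩ := S.mem_V.1 (hX hz)
    have h1 : k⁻¹ * (z * k * z⁻¹) = x * z * x⁻¹ * z⁻¹ := by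
      calc k⁻¹ * (z * k * z⁻¹) = k⁻¹ * (z * (k * x)) * x⁻¹ * z⁻¹ := by group
        _ = k⁻¹ * (k * x * z) * x⁻¹ * z⁻¹ := by rw [Subgroup.mem_centralizer_iff.1 hdC z hz]
        _ = _ := by group
    have h2 : k⁻¹ * (z * k * z⁻¹) = 1 := by
      refine S.eq_one_of_K_V (S.K.mul_mem (S.K.inv_mem hk) (S.K_normal z hzD k hk)) ?_
      rw [h1]
      exact S.V.mul_mem (S.V.mul_mem (S.V.mul_mem (hX hx) (hX hz)) (S.V.inv_mem (hX hx)))
        (S.V.inv_mem (hX hz))
    exact mul_inv_eq_iff_eq_mul.1 (inv_mul_eq_one.1 h2).symm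
  have hxC : x ∈ Cent(X) := by
    have := Subgroup.mul_mem _ (Subgroup.inv_mem _ hkC) hdC
    rwa [inv_mul_cancel_left] at this
  have hx1 : toCent Ω X ⟨x, hxC⟩ = 1 :=
    (QuotientGroup.eq_one_iff _).2 (MonoidHom.mem_ker.2 (Equiv.ext fun c => Subtype.ext (c.2 x hx)))
  rw [show (⟨k * x, hdC⟩ : Cent(X)) = ⟨k, hkC⟩ * ⟨x, hxC⟩ from rfl, map_mul, hx1, mul_one]
  exact mem_centImage.2 ⟨_, hk, rfl⟩

theorem cent_ne_top [FaithfulSMul G Ω] (hX : X ≤ S.V) (hX1 : X ≠ ⊥) : Cent(X) ≠ ⊤ := by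
  intro htop
  refine hX1 (eq_bot_iff.2 fun x hx => Subgroup.mem_bot.2
    (FaithfulSMul.eq_of_smul_eq_smul fun c : Ω => ?_))
  haveI := pretransitive S.setup
  obtain ⟨g, rfl⟩ := exists_smul_eq G a c
  rw [one_smul, ← mul_smul,
    Subgroup.mem_centralizer_iff.1 (htop ▸ Subgroup.mem_top g : g ∈ Cent(X)) x hx, mul_smul,
    (S.fix_three hX x hx).1]

theorem card_centGroup_lt [FaithfulSMul G Ω] (hX : X ≤ S.V) (hX1 : X ≠ ⊥) :
    Nat.card (centGroup Ω X) < Nat.card G := by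
  refine lt_of_le_of_lt (Nat.card_le_card_of_surjective _ (toCent_surjective Ω X)) ?_
  refine lt_of_le_of_ne (Subgroup.card_le_card_group _) fun h => S.cent_ne_top hX hX1 ?_
  exact Subgroup.eq_top_of_card_eq _ h

/-- The kernel of the centraliser set-up meets `Q` trivially. -/
noncomputable def centEquiv (hX : X ≤ S.V) :
    ↥(Q ⊓ Cent(X)) ≃* centImage (Ω := Ω) X Q :=
  MulEquiv.ofBijective
    ({ toFun := fun g => ⟨toCent Ω X ⟨g, g.2.2⟩, mem_centImage.2 ⟨⟨g, g.2.2⟩, g.2.1, rfl⟩⟩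
       map_one' := Subtype.ext (map_one _)
       map_mul' := fun g g' => Subtype.ext (map_mul (toCent Ω X) ⟨g, g.2.2⟩ ⟨g', g'.2.2⟩) } :
      ↥(Q ⊓ Cent(X)) →* centImage (Ω := Ω) X Q)
    ⟨fun g g' h => Subtype.ext (congrArg Subtype.val
        (S.toCent_inj_Q hX g.2.1 g'.2.1 (congrArg Subtype.val h)) :), fun y => by
      obtain ⟨g, hg, he⟩ := mem_centImage.1 y.2
      exact ⟨⟨g, hg, g.2⟩, Subtype.ext he⟩⟩

end Data

universe u v

/-- The smaller set-up attached to a nontrivial element of `V`. -/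
theorem Data.exists_smaller_data {G : Type u} [Group G] [Finite G] {Ω : Type v} [MulAction G Ω]
    [FaithfulSMul G Ω] {a : Ω} {t : G} {Q : Subgroup G} (S : Data a t Q) {v : G} (hv : v ∈ S.V)
    (hv1 : v ≠ 1) (h4 : 4 ≤ Nat.card ↥(S.Z ⊓ Subgroup.centralizer {v})) :
    ∃ (G₁ : Type u) (_ : Group G₁) (Ω₁ : Type v) (_ : MulAction G₁ Ω₁) (a₁ : Ω₁) (t₁ : G₁)
      (Q₁ : Subgroup G₁), Finite G₁ ∧ FaithfulSMul G₁ Ω₁ ∧ Nonempty (Data a₁ t₁ Q₁) ∧
        Nat.card G₁ < Nat.card G ∧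
        Nonempty (↥(Q ⊓ Subgroup.centralizer {v}) ≃* Q₁) := by
  have hc : Subgroup.centralizer {v} = Cent(Subgroup.zpowers v) := by
    rw [Subgroup.zpowers_eq_closure, Subgroup.centralizer_closure]
  have hX : Subgroup.zpowers v ≤ S.V := Subgroup.zpowers_le.2 hv
  rw [hc] at h4 ⊢
  exact ⟨centGroup Ω (Subgroup.zpowers v), inferInstance, fixSub Ω (Subgroup.zpowers v),
    inferInstance, _, _, _, inferInstance, inferInstance, ⟨S.centData hX h4⟩,
    S.card_centGroup_lt hX (by rw [ne_eq, Subgroup.zpowers_eq_bot]; exact hv1), ⟨S.centEquiv hX⟩⟩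

end CfsgLib.Recog.RankOneSuzuki
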