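import Cfsg.Agent.Recog.RankOneSuzuki.AbelianLayers
import Cfsg.Agent.Recog.RankOneSuzuki.AbelianCentralizer
import Cfsg.Agent.Recog.RankOneSuzuki.Centraliser
import Cfsg.Agent.S1134

/-!
# Suzuki's rank one theorem: transfer in the abelian case

The first two cases: the number of fixed points of `v` is prime to `p` (transfer from the point
stabiliser), and `p = 3` with nine fixed points.
-/

set_option autoImplicit false
set_option linter.unusedSectionVars false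
set_option linter.style.haveILetI false

namespace CfsgLib.Recog.RankOneSuzuki

open MulAction CfsgLib.Recog.RankOne

variable {G Ω : Type*} [Group G] [MulAction G Ω]

local notation "D[" a "," t "]" => stabilizer G a ⊓ stabilizer G (t • a)

/-- The order of a Sylow subgroup from a factorisation of the group order. -/
theorem sylow_card_of_eq [Finite G] {p : ℕ} [hp : Fact p.Prime] (P : Sylow p G) {e R : ℕ}
    (h : Nat.card G = p ^ e * R) (hR : ¬ p ∣ R) : Nat.card (P : Subgroup G) = p ^ e := by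
  rw [P.card_eq_multiplicity, h, Nat.factorization_mul (pow_ne_zero _ hp.out.ne_zero)
    (fun h0 => hR (by rw [h0]; exact dvd_zero p)), Finsupp.add_apply, hp.out.factorization_pow,
    Finsupp.single_eq_same, Nat.factorization_eq_zero_of_not_dvd hR, add_zero]

namespace Data

variable {a : Ω} {t : G} {Q : Subgroup G} (S : Data a t Q)

local notation "CQ(" v ")" => Q ⊓ Subgroup.centralizer {v}

/-- An element of `V` of prime order generating `V` and fixing only `1`, `s` in `Z`. -/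
structure Gen (v : G) (p : ℕ) : Prop where
  mem : v ∈ S.V
  order : orderOf v = p
  odd : p ≠ 2
  eq : S.V = Subgroup.zpowers v
  small : ∀ z ∈ S.Z, v * z = z * v → z = 1 ∨ z = S.s
  card_Z : Nat.card S.Z = 2 ^ p
  sqrt : ∃ y ∈ CQ(v), y * y = S.s

variable [Finite G] [FaithfulSMul G Ω]
include S

theorem two_commuting : ∃ x y : G, x ≠ 1 ∧ y ≠ 1 ∧ x ≠ y ∧ x * x = 1 ∧ y * y = 1 ∧ x * y = y * x := by
  obtain ⟨z, hz, hz1, hzs⟩ := S.exists_two
  exact ⟨z, S.s, hz1, S.s_ne, hzs, S.Z_sq hz, S.Z_sq S.s_mem, S.central z hz _ (S.Z_le S.s_mem)⟩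

theorem card_D : Nat.card ↥(D[a, t]) = Nat.card S.V * Nat.card S.K := by
  rw [← Nat.card_prod]
  refine (Nat.card_congr (Equiv.ofBijective
    (fun p : S.V × S.K => (⟨p.1 * p.2, (D[a, t]).mul_mem (S.V_mem_D p.1.2) (S.K_le p.2.2)⟩ :
      ↥(D[a, t]))) ⟨?_, ?_⟩)).symm
  · rintro ⟨w, k⟩ ⟨w', k'⟩ h
    have h' : (w : G) * k = w' * k' := congrArg Subtype.val h
    have h1 : (w' : G)⁻¹ * w = k' * (k : G)⁻¹ := by
      rw [eq_mul_inv_iff_mul_eq, mul_assoc, h', inv_mul_cancel_left]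
    have h2 := S.eq_one_of_K_V (h1 ▸ S.K.mul_mem k'.2 (S.K.inv_mem k.2))
      (S.V.mul_mem (S.V.inv_mem w'.2) w.2)
    have hw : (w : G) = w' := (inv_mul_eq_one.1 h2).symm
    rw [hw] at h'
    exact Prod.ext (Subtype.ext hw) (Subtype.ext (mul_left_cancel h'))
  · rintro ⟨d, hd⟩
    obtain ⟨w, hw, hwt, k, hk, rfl⟩ := S.exists_K_mul_V hd
    exact ⟨⟨⟨w, hw, Subgroup.mem_centralizer_singleton_iff.2 hwt⟩, ⟨k, hk⟩⟩, rfl⟩

variable {S} {v : G} {p : ℕ} (hg : S.Gen v p)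
include hg

theorem Gen.pow_p : v ^ p = 1 := hg.order ▸ pow_orderOf_eq_one v

theorem Gen.card_V : Nat.card S.V = p := by rw [hg.eq, Nat.card_zpowers, hg.order]

theorem Gen.V_comm {x y : G} (hx : x ∈ S.V) (hy : y ∈ S.V) : x * y = y * x :=
  S.V_comm_cent hg.mem hg.eq (S.V_le_cent hg.mem hg.eq hx) hy

theorem Gen.kv : ∀ k ∈ S.K, v * k = k * v → k = 1 := by
  intro k hk hvk
  have hz : k⁻¹ * S.s * k ∈ S.Z := S.conj_Z' hk S.s_mem
  have h1 : v * (k⁻¹ * S.s * k) = k⁻¹ * S.s * k * v := by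
    have hki : v * k⁻¹ = k⁻¹ * v := by
      rw [eq_inv_mul_iff_mul_eq, ← mul_assoc, ← hvk, mul_inv_cancel_right]
    calc v * (k⁻¹ * S.s * k) = (v * k⁻¹) * S.s * k := by group
      _ = k⁻¹ * (v * S.s) * k := by rw [hki]; group
      _ = k⁻¹ * (S.s * v) * k := by rw [S.V_comm_s hg.mem]
      _ = k⁻¹ * S.s * (v * k) := by group
      _ = _ := by rw [hvk]; group
  rcases hg.small _ hz h1 with h | h
  · exact absurd (show S.s = 1 by
      calc S.s = k * (k⁻¹ * S.s * k) * k⁻¹ := by group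
        _ = 1 := by rw [h]; group) S.s_ne
  · exact S.conj_s_injective hk S.K.one_mem (by rw [h]; group)

theorem Gen.fusion {x y g : G} (hx : x ∈ S.V) (hy : y ∈ S.V) (h : g * x * g⁻¹ = y) : x = y := by
  obtain ⟨w, hw, he⟩ := Cfsg.Agent.S1134.result S.setup S.two_commuting {x}
    (by rintro _ rfl; exact hx) g (by rintro _ ⟨_, rfl, rfl⟩; show g * _ * g⁻¹ ∈ _; rw [h]; exact hy)
  have : w * x * w⁻¹ = g * x * g⁻¹ := by
    simpa [Set.image_singleton] using he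
  rw [← h, ← this, hg.V_comm hw hx, mul_inv_cancel_right]

/-- A real element conjugate into `V` is trivial. -/
theorem Gen.eq_one_of_real {x g h : G} (hreal : g * x * g⁻¹ = x⁻¹) (hh : h * x * h⁻¹ ∈ S.V) :
    x = 1 := by
  have he : h * g * h⁻¹ * (h * x * h⁻¹) * (h * g * h⁻¹)⁻¹ = (h * x * h⁻¹)⁻¹ := by
    rw [show h * g * h⁻¹ * (h * x * h⁻¹) * (h * g * h⁻¹)⁻¹ = h * (g * x * g⁻¹) * h⁻¹ by group,
      hreal]; group
  have h1 := hg.fusion hh (S.V.inv_mem hh) he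
  have h2 : h * x * h⁻¹ = 1 :=
    eq_one_of_sq S.setup.odd_card (S.V_mem_D hh) (mul_eq_one_iff_eq_inv.2 h1)
  exact conj_eq_one_iff.1 h2

theorem Gen.card_K : Nat.card S.K = 2 ^ p - 1 := by
  have := S.card_K
  rw [hg.card_Z] at this
  omega

theorem Gen.not_dvd_K [hp : Fact p.Prime] : ¬ p ∣ Nat.card S.K := by
  intro h
  have h1 : ((2 ^ p - 1 : ℕ) : ZMod p) = 0 := by
    rw [ZMod.natCast_eq_zero_iff, ← hg.card_K]
    exact h
  rw [Nat.cast_sub Nat.one_le_two_pow, Nat.cast_pow, ZMod.pow_card] at h1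
  norm_num at h1

theorem Gen.card_Q [Fact p.Prime] (hcomm : ∀ x ∈ Q, ∀ y ∈ Q, x * y = y * x) :
    Nat.card Q = Nat.card ↥(CQ(v)) ^ p :=
  S.card_eq_pow_of_invariant hcomm hg.odd hg.mem hg.pow_p hg.card_Z hg.small _ Q rfl le_rfl
    (fun _ hk _ hx => S.conj_Q' hk hx) (fun _ hx => S.V_conj_Q hg.mem hx)

theorem Gen.card_G [Fact p.Prime] : Nat.card G =
    Nat.card Q * (p * Nat.card S.K) * (Nat.card Q + 1) := by
  rw [card_group S.setup, S.card_D, hg.card_V]

theorem Gen.four_le [Fact p.Prime] : ∃ i, 2 ≤ i ∧ Nat.card ↥(CQ(v)) = 2 ^ i := by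
  haveI : Fact (Nat.Prime 2) := ⟨Nat.prime_two⟩
  obtain ⟨i, hi⟩ := IsPGroup.iff_card.1 (S.isPGroup_Q.to_le (inf_le_left : CQ(v) ≤ Q))
  refine ⟨i, ?_, hi⟩
  obtain ⟨y, hy, hys⟩ := hg.sqrt
  have ho : orderOf y = 4 := by
    refine orderOf_eq_prime_pow (p := 2) (n := 1) ?_ ?_
    · rw [pow_one, pow_two, hys]; exact S.s_ne
    · rw [show (2 : ℕ) ^ (1 + 1) = 2 * 2 by norm_num, pow_mul, pow_two y, hys, pow_two, S.Z_sq S.s_mem]
  have h4 : 4 ∣ Nat.card ↥(CQ(v)) := ho ▸ Subgroup.orderOf_dvd_natCard _ hy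
  rw [hi, show (4 : ℕ) = 2 ^ 2 by norm_num] at h4
  exact (Nat.pow_dvd_pow_iff_le_right (by norm_num)).1 h4

/-- A homomorphism to a group of order `p` nontrivial at `v` gives a split set-up. -/
theorem Gen.false_of_normal [hp : Fact p.Prime] (hcomm : ∀ x ∈ Q, ∀ y ∈ Q, x * y = y * x)
    (L : Subgroup G) (hvL : v ∉ L) (hL : ∀ x : G, (orderOf x).Coprime p → x ∈ L) : False := by
  have hQ : ∀ x ∈ Q, x ∈ L := fun x hx => hL x (by
    obtain ⟨i, hi⟩ := IsPGroup.iff_orderOf.1 S.isPGroup_Q ⟨x, hx⟩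
    rw [Subgroup.orderOf_mk] at hi
    rw [hi]
    exact ((Nat.coprime_primes Nat.prime_two hp.out).2 (Ne.symm hg.odd)).pow_left i)
  have hK : ∀ k ∈ S.K, k ∈ L := fun k hk => hL k
    (((hp.out.coprime_iff_not_dvd.2 hg.not_dvd_K).coprime_dvd_right
      (Subgroup.orderOf_dvd_natCard _ hk)).symm)
  have ht : t ∈ L := hL t (by
    rw [orderOf_eq_prime (by rw [pow_two]; exact S.tt) S.setup.ne_one]
    exact (Nat.coprime_primes Nat.prime_two hp.out).2 (Ne.symm hg.odd))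
  have hsplit : S.IsSplit := by
    intro y hy hy1
    obtain ⟨g, hgQ, h, hh, f, hf, he⟩ := S.exists_decomp hy hy1
    refine ⟨g, hgQ, h, ?_, f, hf, he⟩
    have hhL : h ∈ L := by
      rw [show h = g⁻¹ * (t * y * t) * f⁻¹ * t⁻¹ by rw [he]; group]
      exact L.mul_mem (L.mul_mem (L.mul_mem (L.inv_mem (hQ g hgQ))
        (L.mul_mem (L.mul_mem ht (hQ y hy)) ht)) (L.inv_mem (hQ f hf))) (L.inv_mem ht)
    obtain ⟨w, hw, hwt, k, hk, rfl⟩ := S.exists_K_mul_V hh
    have hwV : w ∈ S.V := ⟨hw, Subgroup.mem_centralizer_singleton_iff.2 hwt⟩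
    have hwL : w ∈ L := by
      simpa using L.mul_mem hhL (L.inv_mem (hK k hk))
    have hw1 : w = 1 := by
      by_contra hw1
      obtain ⟨m, hm⟩ := mem_powers_of_prime_card hg.card_V
        (g := (⟨w, hwV⟩ : S.V)) (g' := ⟨v, hg.mem⟩) fun h => hw1 (congrArg Subtype.val h)
      have hm' : w ^ m = v := congrArg Subtype.val hm
      exact hvL (hm' ▸ L.pow_mem hwL m)
    rw [hw1, one_mul]
    exact hk
  obtain ⟨y, hy, hys⟩ := hg.sqrt
  refine S.s_ne ?_
  rw [← hys]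
  exact S.Z_sq (S.le_Z_of_comm hsplit hcomm hy.1)

/-- The number of fixed points of `v` is divisible by `p`. -/
theorem Gen.dvd_fix [hp : Fact p.Prime] (hcomm : ∀ x ∈ Q, ∀ y ∈ Q, x * y = y * x) :
    p ∣ Nat.card ↥(CQ(v)) + 1 := by
  classical
  by_contra hnd
  have hva : v ∈ stabilizer G a := (S.V_mem_D hg.mem).1
  let N : Subgroup G :=
    { carrier := {x | ∃ q ∈ Q, ∃ k ∈ S.K, x = q * k}
      one_mem' := ⟨1, Q.one_mem, 1, S.K.one_mem, (one_mul 1).symm⟩
      mul_mem' := by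
        rintro _ _ ⟨q, hq, k, hk, rfl⟩ ⟨q', hq', k', hk', rfl⟩
        exact ⟨q * (k * q' * k⁻¹), Q.mul_mem hq (S.conj_Q hk hq'), k * k',
          S.K.mul_mem hk hk', by group⟩
      inv_mem' := by
        rintro _ ⟨q, hq, k, hk, rfl⟩
        exact ⟨k⁻¹ * q⁻¹ * k, S.conj_Q' hk (Q.inv_mem hq), k⁻¹, S.K.inv_mem hk, by group⟩ }
  have hNa : N ≤ stabilizer G a := by
    rintro _ ⟨q, hq, k, hk, rfl⟩
    exact mul_mem (S.setup.le hq) (S.K_le hk).1
  have hN : (N.subgroupOf (stabilizer G a)).Normal := by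
    refine ⟨fun x hx g => ?_⟩
    rw [Subgroup.mem_subgroupOf] at hx ⊢
    obtain ⟨q, hq, k, hk, hx'⟩ := hx
    obtain ⟨q', hq', d, hd, hg'⟩ := exists_mul S.setup (g := (g : G)) g.2
    have hdk := S.K_normal d hd k hk
    refine ⟨(g : G) * q * (g : G)⁻¹ * (q' * (d * k * d⁻¹ * q'⁻¹ * (d * k * d⁻¹)⁻¹)),
      Q.mul_mem (S.setup.conj_mem _ g.2 q hq) (Q.mul_mem hq' (S.conj_Q hdk (Q.inv_mem hq'))),
      d * k * d⁻¹, hdk, ?_⟩
    push_cast
    rw [hx', hg']
    group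
  have hcardN : Nat.card N = Nat.card Q * Nat.card S.K := by
    rw [← Nat.card_prod]
    refine (Nat.card_congr (Equiv.ofBijective (fun x : Q × S.K =>
      (⟨x.1 * x.2, x.1, x.1.2, x.2, x.2.2, rfl⟩ : N)) ⟨?_, ?_⟩)).symm
    · rintro ⟨q, k⟩ ⟨q', k'⟩ h
      obtain ⟨e1, e2⟩ := mul_unique S.setup q.2 q'.2 (S.K_le k.2) (S.K_le k'.2)
        (congrArg Subtype.val h)
      exact Prod.ext (Subtype.ext e1) (Subtype.ext e2)
    · rintro ⟨_, q, hq, k, hk, rfl⟩
      exact ⟨⟨⟨q, hq⟩, ⟨k, hk⟩⟩, rfl⟩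
  have hcard : Nat.card (stabilizer G a) = p * Nat.card N := by
    rw [card_stab S.setup, S.card_D, hg.card_V, hcardN]; ring
  have hidx : ¬ p ∣ (stabilizer G a).index := by
    haveI := pretransitive S.setup
    rw [index_stabilizer_of_transitive, card_points S.setup, hg.card_Q hcomm]
    intro h
    refine hnd ?_
    rw [← ZMod.natCast_eq_zero_iff] at h ⊢
    push_cast at h ⊢
    rwa [ZMod.pow_card] at h
  have hvN : v ∉ N := by
    rintro ⟨q, hq, k, hk, he⟩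
    obtain ⟨-, e2⟩ := mul_unique S.setup Q.one_mem hq (S.V_mem_D hg.mem) (S.K_le hk)
      (by rw [one_mul]; exact he)
    have h := S.eq_one_of_K_V hk (e2 ▸ hg.mem)
    exact hp.out.ne_one (by rw [← hg.order, e2, h, orderOf_one])
  suffices hfus : ∀ (k : ℕ) (g : G), ¬ p ∣ k → g⁻¹ * v ^ k * g ∈ stabilizer G a →
      g⁻¹ * v ^ k * g * (v ^ k)⁻¹ ∈ N by
    obtain ⟨L, -, hvL, hL⟩ := AbelianAux.exists_hom (stabilizer G a) N hNa hN hcard hidx hva
      hg.pow_p hvN hfus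
    exact hg.false_of_normal hcomm L hvL hL
  intro k g hk hmem
  have hw : v ^ k ∈ S.V := S.V.pow_mem hg.mem k
  obtain ⟨m, hm⟩ := exists_pow_eq_self_of_coprime (x := v) (n := k)
    (hg.order ▸ (hp.out.coprime_iff_not_dvd.2 hk).symm)
  have hfix : v • g • a = g • a := by
    have h1 : v ^ k ∈ stabilizer G (g • a) := by
      show (v ^ k) • g • a = g • a
      have := mem_stabilizer_iff.1 hmem
      rwa [mul_smul, mul_smul, inv_smul_eq_iff] at this
    rw [← hm]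
    exact pow_mem h1 m
  obtain ⟨c, hc, hca⟩ := S.exists_to_fix hg.mem hfix
  have hha : (c⁻¹ * g) • a = a := by rw [mul_smul, inv_smul_eq_iff, hca]
  obtain ⟨q, hq, d, hd, hqd⟩ := exists_mul S.setup hha
  obtain ⟨u, hu, hut, κ, hκ, rfl⟩ := S.exists_K_mul_V hd
  have huV : u ∈ S.V := ⟨hu, Subgroup.mem_centralizer_singleton_iff.2 hut⟩
  have hcw := S.V_comm_cent hg.mem hg.eq hc hw
  have e1 : g⁻¹ * v ^ k * g = (u * κ)⁻¹ * q⁻¹ * v ^ k * q * (u * κ) := by
    have hgc : g = c * (q * (u * κ)) := by rw [← hqd, mul_inv_cancel_left]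
    rw [hgc, show (c * (q * (u * κ)))⁻¹ * v ^ k * (c * (q * (u * κ))) =
      (u * κ)⁻¹ * q⁻¹ * c⁻¹ * (v ^ k * c) * q * (u * κ) by group, ← hcw]
    group
  have huw := hg.V_comm huV hw
  refine ⟨(u * κ)⁻¹ * (q⁻¹ * (v ^ k * q * (v ^ k)⁻¹)) * (u * κ), ?_,
    κ⁻¹ * (v ^ k * κ * (v ^ k)⁻¹), S.K.mul_mem (S.K.inv_mem hκ) (S.V_conj_K hw hκ), ?_⟩
  · exact conj_mem' S.setup hd.1 (Q.mul_mem (Q.inv_mem hq) (S.V_conj_Q hw hq))
  · rw [e1]
    have e2 : κ⁻¹ * (v ^ k * κ * (v ^ k)⁻¹) =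
        (u * κ)⁻¹ * v ^ k * (u * κ) * (v ^ k)⁻¹ := by
      rw [show (u * κ)⁻¹ * v ^ k * (u * κ) * (v ^ k)⁻¹ =
        κ⁻¹ * u⁻¹ * (v ^ k * u) * κ * (v ^ k)⁻¹ by group, ← huw]
      group
    rw [e2]; group

/-- A derangement commutes only with derangements and elements of `V`. -/
theorem Gen.cent_der {x c : G} (hx : x ∈ S.derangements' v) (hc : c ∈ Subgroup.centralizer {v})
    (hcx : c * x = x * c) : c ∈ S.V ∨ c ∈ S.derangements' v := by
  by_contra h
  push Not at h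
  obtain ⟨hcV, hcD⟩ := h
  obtain ⟨o, hvo, hco⟩ : ∃ o : Ω, v • o = o ∧ c • o = o := by
    by_contra h
    push Not at h
    exact hcD ⟨hc, h⟩
  obtain ⟨g, hgC, rfl⟩ := S.exists_to_fix hg.mem hvo
  obtain ⟨q, hq, w, hw, he⟩ := S.cent_stab hg.mem hg.eq hg.kv (x := g⁻¹ * c * g)
    (Subgroup.mul_mem _ (Subgroup.mul_mem _ (Subgroup.inv_mem _ hgC) hc) hgC)
    (by rw [mul_smul, mul_smul, inv_smul_eq_iff]; exact hco)
  have hq1 : q ≠ 1 := by
    intro h1
    rw [h1, one_mul] at he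
    refine hcV ?_
    rw [show c = g * w * g⁻¹ by rw [← he]; group, S.V_comm_cent hg.mem hg.eq hgC hw,
      mul_inv_cancel_right]
    exact hw
  have hxC : g⁻¹ * x * g ∈ Subgroup.centralizer {v} :=
    Subgroup.mul_mem _ (Subgroup.mul_mem _ (Subgroup.inv_mem _ hgC) hx.1) hgC
  have hx' : g⁻¹ * x * g ∈ S.derangements' v := by
    refine ⟨hxC, fun o' ho' he' => hx.2 (g • o') ?_ ?_⟩
    · rw [← mul_smul, ← (Subgroup.mem_centralizer_singleton_iff.1 hgC), mul_smul, ho']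
    · rwa [mul_smul, mul_smul, inv_smul_eq_iff] at he'
  have hwx := S.V_comm_cent hg.mem hg.eq hxC hw
  refine hq1 (S.der_free hg.mem hg.eq hg.kv hq hx' S.V.one_mem ?_)
  have h1 : q * w * (g⁻¹ * x * g) = g⁻¹ * x * g * (q * w) := by
    rw [← he, show g⁻¹ * c * g * (g⁻¹ * x * g) = g⁻¹ * (c * x) * g by group, hcx]
    group
  rw [mul_assoc q w, ← hwx, ← mul_assoc, ← mul_assoc (g⁻¹ * x * g) q w] at h1
  rw [mul_one, mul_right_cancel h1, mul_inv_cancel_right]

variable {E : Subgroup G} {d : ℕ}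

/-- Conjugation in the centraliser preserves `V ∪ Δ`. -/
theorem Gen.conj_E (hE : ∀ x, x ∈ E ↔ x ∈ S.V ∨ x ∈ S.derangements' v)
    {c : G} (hc : c ∈ Subgroup.centralizer {v}) {x : G} (hx : x ∈ E) : c * x * c⁻¹ ∈ E := by
  rw [hE] at hx ⊢
  rcases hx with h | h
  · exact Or.inl (by rwa [S.V_comm_cent hg.mem hg.eq hc h, mul_inv_cancel_right])
  · refine Or.inr ⟨Subgroup.mul_mem _ (Subgroup.mul_mem _ hc h.1) (Subgroup.inv_mem _ hc),
      fun o ho he => h.2 (c⁻¹ • o) ?_ ?_⟩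
    · rw [← mul_smul, ← (Subgroup.mem_centralizer_singleton_iff.1 (Subgroup.inv_mem _ hc)),
        mul_smul, ho]
    · rw [mul_smul, mul_smul, ← eq_inv_smul_iff] at he; exact he

theorem Gen.E_le (hE : ∀ x, x ∈ E ↔ x ∈ S.V ∨ x ∈ S.derangements' v) :
    E ≤ Subgroup.centralizer {v} := fun x hx =>
  ((hE x).1 hx).elim (fun h => S.V_le_cent hg.mem hg.eq h) And.left

/-- A Sylow subgroup above `E`. -/
theorem Gen.exists_sylow [hp : Fact p.Prime] (hE : ∀ x, x ∈ E ↔ x ∈ S.V ∨ x ∈ S.derangements' v)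
    (hEp : IsPGroup p E) (hEcard : Nat.card E = p ^ (d + 1))
    (hn : Nat.card ↥(CQ(v)) + 1 = p ^ d) :
    ∃ P : Sylow p G, E ≤ P ∧ (P : Subgroup G) ⊓ Subgroup.centralizer {v} = E := by
  obtain ⟨P, hP⟩ := hEp.exists_le_sylow
  refine ⟨P, hP, (Subgroup.eq_of_le_of_card_ge (le_inf hP (hg.E_le hE)) ?_).symm⟩
  have hpg : IsPGroup p ↥((P : Subgroup G) ⊓ Subgroup.centralizer {v}) := P.2.to_le inf_le_left
  obtain ⟨j, hj⟩ := IsPGroup.iff_card.1 hpg
  have hdvd := Subgroup.card_dvd_of_le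
    (inf_le_right : (P : Subgroup G) ⊓ Subgroup.centralizer {v} ≤ Subgroup.centralizer {v})
  rw [hj, S.card_cent hg.mem hg.eq hg.kv, S.card_fix hg.mem, hn, hg.card_V] at hdvd
  obtain ⟨i, -, hi⟩ := hg.four_le
  rw [hi, show p ^ d * (2 ^ i * p) = 2 ^ i * p ^ (d + 1) by ring] at hdvd
  rw [hj, hEcard]
  exact Nat.le_of_dvd (pow_pos hp.out.pos _) (Nat.Coprime.dvd_of_dvd_mul_left
    (((Nat.coprime_primes hp.out Nat.prime_two).2 hg.odd).pow j i) hdvd)

/-- Nine fixed points are impossible. -/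
theorem Gen.not_nine [hp : Fact p.Prime] (hcomm : ∀ x ∈ Q, ∀ y ∈ Q, x * y = y * x) (hp3 : p = 3)
    (hn : Nat.card ↥(CQ(v)) + 1 = p ^ 2) (hE : ∀ x, x ∈ E ↔ x ∈ S.V ∨ x ∈ S.derangements' v)
    (hEp : IsPGroup p E) (hEcard : Nat.card E = p ^ 3) : False := by
  classical
  subst hp3
  obtain ⟨P, hEP, hPC⟩ := hg.exists_sylow hE hEp hEcard hn
  have hn8 : Nat.card ↥(CQ(v)) = 8 := by norm_num at hn ⊢; omega
  have hK7 : Nat.card S.K = 7 := by rw [hg.card_K]; norm_num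
  have hG : Nat.card G = 3 ^ 4 * 68096 := by
    rw [hg.card_G, hg.card_Q hcomm, hn8, hK7]; norm_num
  have hP81 : Nat.card (P : Subgroup G) = 3 ^ 4 := sylow_card_of_eq P hG (by norm_num)
  haveI hEn : (E.subgroupOf (P : Subgroup G)).Normal := by
    apply Subgroup.normal_of_index_eq_minFac_card
    have h := Subgroup.card_mul_index (E.subgroupOf (P : Subgroup G))
    rw [Nat.card_congr (Subgroup.subgroupOfEquivOfLe hEP).toEquiv, hEcard, hP81] at h
    rw [hP81, Nat.prime_three.pow_minFac (by norm_num : 4 ≠ 0)]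
    omega
  set NE := Subgroup.normalizer (E : Set G) with hNE
  have hPN : (P : Subgroup G) ≤ NE :=
    (Subgroup.normal_subgroupOf_iff_le_normalizer hEP).1 hEn
  have hCN : Subgroup.centralizer {v} ≤ NE := by
    intro c hc
    rw [hNE, Subgroup.mem_normalizer_iff]
    refine fun x => ⟨fun hx => hg.conj_E hE hc hx, fun hx => ?_⟩
    have := hg.conj_E hE (Subgroup.inv_mem _ hc) hx
    simpa [mul_assoc] using this
  letI : MulAction NE G := MulAction.compHom G ((MulAut.conj (G := G)).comp NE.subtype)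
  have hsmul : ∀ (g : NE) (x : G), g • x = (g : G) * x * (g : G)⁻¹ := fun _ _ => rfl
  set O := MulAction.orbit NE v with hO
  have hst : MulAction.stabilizer NE v = (Subgroup.centralizer {v}).subgroupOf NE := by
    ext g
    rw [MulAction.mem_stabilizer_iff, hsmul, Subgroup.mem_subgroupOf,
      Subgroup.mem_centralizer_singleton_iff, mul_inv_eq_iff_eq_mul]
  have hcardC : Nat.card ↥(Subgroup.centralizer ({v} : Set G)) = 216 := by
    rw [S.card_cent hg.mem hg.eq hg.kv, S.card_fix hg.mem, hn8, hg.card_V]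
  have hOdvd : Nat.card O * 216 ∣ 3 ^ 4 * 68096 := by
    rw [← hG, Nat.card_coe_set_eq, hO, ← MulAction.index_stabilizer, hst,
      ← hcardC, ← Nat.card_congr (Subgroup.subgroupOfEquivOfLe hCN).toEquiv, mul_comm,
      Subgroup.card_mul_index]
    exact Subgroup.card_subgroup_dvd_card NE
  have hOdvd' : Nat.card O ∣ 25536 := by
    refine Nat.dvd_of_mul_dvd_mul_right (by norm_num : 0 < 216) ?_
    exact hOdvd.trans (by norm_num)
  have hvE : v ∈ E := (hE v).2 (Or.inl hg.mem)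
  have hOE : ∀ x ∈ O, x ∈ E ∧ (x ∈ S.V → x = v) := by
    rintro x ⟨g, rfl⟩
    exact ⟨(Subgroup.mem_normalizer_iff.1 g.2 v).1 hvE, fun h => (hg.fusion hg.mem h rfl).symm⟩
  have hvO : v ∈ O := MulAction.mem_orbit_self v
  set T : Set G := O \ {v} with hT
  have hTd : ∀ x ∈ T, x ∈ S.derangements' v := by
    rintro x ⟨hx, hxv⟩
    obtain ⟨h1, h2⟩ := hOE x hx
    exact ((hE x).1 h1).resolve_left fun h => hxv (h2 h)
  letI : MulAction ↥(CQ(v)) G := MulAction.compHom G ((MulAut.conj (G := G)).comp (CQ(v)).subtype)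
  have hsmul' : ∀ (g : ↥(CQ(v))) (x : G), g • x = (g : G) * x * (g : G)⁻¹ := fun _ _ => rfl
  have h8 : 8 ∣ Nat.card T := by
    rw [← hn8]
    refine AbelianAux.card_dvd_of_free T (fun q x hx => ?_) fun q x hx he => ?_
    · obtain ⟨hxO, hxv⟩ := hx
      obtain ⟨g, hgx⟩ := MulAction.mem_orbit_iff.1 hxO
      refine ⟨MulAction.mem_orbit_iff.2 ⟨⟨q, hCN q.2.2⟩ * g, ?_⟩, fun h => hxv ?_⟩
      · rw [mul_smul, hgx, hsmul, hsmul']
      · simp only [hsmul', Set.mem_singleton_iff] at h ⊢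
        calc x = (q : G)⁻¹ * ((q : G) * x * (q : G)⁻¹) * q := by group
          _ = (q : G)⁻¹ * (v * q) := by rw [h]; group
          _ = v := by
              rw [← (Subgroup.mem_centralizer_singleton_iff.1 q.2.2), inv_mul_cancel_left]
    · refine Subtype.ext (S.der_free hg.mem hg.eq hg.kv q.2 (hTd x hx) S.V.one_mem ?_)
      rw [mul_one]; exact he
  have hTcard : Nat.card T + 1 = Nat.card O := by
    rw [Nat.card_coe_set_eq, Nat.card_coe_set_eq, hT,
      Set.ncard_sdiff_singleton_add_one hvO (Set.toFinite _)]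
  have hTle : Nat.card T ≤ 24 := by
    have h1 : T ⊆ S.derangements' v := hTd
    have h2 := Set.ncard_le_ncard h1 (Set.toFinite _)
    rw [← Nat.card_coe_set_eq, ← Nat.card_coe_set_eq, S.card_der hg.mem hg.eq hg.kv, hn8,
      hg.card_V] at h2
    exact h2
  have hT0 : Nat.card T ≠ 0 := by
    intro h0
    have hOv : ∀ x ∈ O, x = v := fun x hx => by
      by_contra hne
      rw [Nat.card_coe_set_eq, Set.ncard_eq_zero (Set.toFinite _)] at h0
      exact (h0 ▸ (show x ∈ T from ⟨hx, hne⟩) : x ∈ (∅ : Set G))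
    have hPle : (P : Subgroup G) ≤ E := by
      intro g hgP
      rw [← hPC]
      refine ⟨hgP, Subgroup.mem_centralizer_singleton_iff.2 ?_⟩
      have := hOv _ ⟨⟨g, hPN hgP⟩, rfl⟩
      exact mul_inv_eq_iff_eq_mul.1 this
    have := Subgroup.card_le_of_le hPle
    rw [hP81, hEcard] at this
    norm_num at this
  obtain ⟨j, hj⟩ := h8
  have : Nat.card O = 9 ∨ Nat.card O = 17 ∨ Nat.card O = 25 := by omega
  rcases this with h | h | h <;> rw [h] at hOdvd' <;> norm_num at hOdvd'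

end Data

end CfsgLib.Recog.RankOneSuzuki
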