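import Cfsg.Agent.Recog.RankOneSuzuki.Sl

/-!
# Suzuki's rank one theorem: coordinates on the kernel

With a point `c` outside the block, an element `y` of `Q` outside `Z` has the coordinate
`ell y ∈ SL₂(q)` with `y • b = ell y • c`; inversion of `y` multiplies it on the left by `y²`.
-/

set_option autoImplicit false
set_option linter.unusedSectionVars false
set_option linter.style.haveILetI false

namespace CfsgLib.Recog.RankOneSuzuki

open MulAction CfsgLib.Recog.RankOne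

variable {G Ω : Type*} [Group G] [MulAction G Ω] {a : Ω} {t : G} {Q : Subgroup G}

local notation "D[" a "," t "]" => stabilizer G a ⊓ stabilizer G (t • a)

/-- A chart: the block, a point outside it, regularity and the standing facts about `Q`. -/
structure Chart (S : Data a t Q) (F : Type) [Field F] [CharP F 2] where
  /-- The block. -/
  X : Block S F
  /-- The reference point. -/
  c : Ω
  c_off : ∀ w : F × F, w ≠ 0 → X.P w ≠ c
  regular : X.IsRegular
  r_eq : S.r = S.s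
  sq_mem : ∀ y ∈ Q, y * y ∈ S.Z

namespace Chart

variable {S : Data a t Q} {F : Type} [Field F] [CharP F 2] (C : Chart S F)

local notation "SL₂" => Matrix.SpecialLinearGroup (Fin 2) F

/-- The points of the block. -/
def OnB (p : Ω) : Prop := ∃ w : F × F, w ≠ 0 ∧ C.X.P w = p

theorem onB_a : C.OnB a := ⟨_, e1_ne, C.X.P_a⟩

theorem onB_b : C.OnB (t • a) := ⟨_, e2_ne, C.X.P_b⟩

theorem onB_el {g : SL₂} {p : Ω} (h : C.OnB p) : C.OnB (C.X.el g • p) := by
  obtain ⟨w, hw, rfl⟩ := h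
  exact ⟨app g w, app_ne_zero g hw, (C.X.el_P g w hw).symm⟩

theorem off_c : ¬ C.OnB C.c := fun ⟨w, hw, h⟩ => C.c_off w hw h

theorem off_el (g : SL₂) : ¬ C.OnB (C.X.el g • C.c) := fun h => C.off_c (by
  have := C.onB_el (g := g⁻¹) h
  rwa [← mul_smul, ← map_mul, inv_mul_cancel, map_one, one_smul] at this)

theorem el_c_injective {g h : SL₂} (he : C.X.el g • C.c = C.X.el h • C.c) : g = h := by
  refine inv_mul_eq_one.1 (C.X.free (g⁻¹ * h) C.c C.c_off ?_) 
  rw [map_mul, mul_smul, ← he, ← mul_smul, ← map_mul, inv_mul_cancel, map_one, one_smul]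

theorem exists_el_of_off {p : Ω} (hp : ¬ C.OnB p) : ∃ g : SL₂, C.X.el g • C.c = p :=
  C.regular C.c p C.c_off fun w hw h => hp ⟨w, hw, h⟩

theorem el_swp : C.X.el swp = t := C.X.el_t _ rfl

theorem el_uni_mem (d : F) : C.X.el (uni d) ∈ S.Z := (C.X.mem_Z _).2 ⟨_, rfl, d, rfl⟩

theorem exists_uni {z : G} (hz : z ∈ S.Z) : ∃ d : F, C.X.el (uni d) = z := by
  obtain ⟨g, hg, d, hd⟩ := (C.X.mem_Z z).1 hz
  refine ⟨d, ?_⟩
  rw [← hg]
  congr 1
  exact Subtype.ext hd.symm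

/-- The coordinate of an element of `Z`. -/
noncomputable def zc (z : G) : F :=
  open scoped Classical in if h : z ∈ S.Z then (C.exists_uni h).choose else 0

theorem el_zc {z : G} (hz : z ∈ S.Z) : C.X.el (uni (C.zc z)) = z := by
  rw [zc, dif_pos hz]; exact (C.exists_uni hz).choose_spec

theorem zc_el (d : F) : C.zc (C.X.el (uni d)) = d :=
  uni_injective (C.X.el_inj (C.el_zc (C.el_uni_mem d)))

theorem zc_ne {z : G} (hz : z ∈ S.Z) (hz1 : z ≠ 1) : C.zc z ≠ 0 := fun h => hz1 (by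
  rw [← C.el_zc hz, h, uni_zero, map_one])

theorem mem_Z_of_onB [Finite G] {y : G} (hy : y ∈ Q) (h : C.OnB (y • t • a)) : y ∈ S.Z := by
  obtain ⟨w, hw, hwp⟩ := h
  have hwa : C.X.P w ≠ a := by rw [hwp]; exact smul_ne_a S.setup hy (b_ne S.setup)
  have hw2 : w.2 ≠ 0 := fun h2 =>
    hwa (((C.X.P_eq w (1, 0) hw e1_ne).2 (by simp [br, h2])).trans C.X.P_a)
  have hz := C.el_uni_mem (w.1 / w.2)
  have he : C.X.el (uni (w.1 / w.2)) • t • a = y • t • a :=
    calc C.X.el (uni (w.1 / w.2)) • t • a = C.X.el (uni (w.1 / w.2)) • C.X.P (0, 1) := by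
          rw [C.X.P_b]
      _ = C.X.P (app (uni (w.1 / w.2)) (0, 1)) := C.X.el_P _ _ e2_ne
      _ = C.X.P w := (C.X.P_eq _ w (app_ne_zero _ e2_ne) hw).2 (by
          simp [br, app_uni]
          field_simp
          rw [CharTwo.add_self_eq_zero, mul_zero])
      _ = y • t • a := hwp
  rw [← eq_of_smul_eq S.setup (S.Z_le hz) hy (b_ne S.setup) he]
  exact hz

theorem exists_ell [Finite G] {y : G} (hy : y ∈ Q) (hyZ : y ∉ S.Z) :
    ∃ g : SL₂, C.X.el g • C.c = y • t • a :=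
  C.exists_el_of_off fun h => hyZ (C.mem_Z_of_onB hy h)

/-- The coordinate of an element of `Q` outside `Z`. -/
noncomputable def ell [Finite G] (y : G) : SL₂ :=
  open scoped Classical in if h : y ∈ Q ∧ y ∉ S.Z then (C.exists_ell h.1 h.2).choose else 1

variable [Finite G]
include C

theorem el_ell {y : G} (hy : y ∈ Q) (hyZ : y ∉ S.Z) : C.X.el (C.ell y) • C.c = y • t • a := by
  rw [ell, dif_pos ⟨hy, hyZ⟩]; exact (C.exists_ell hy hyZ).choose_spec

theorem ell_eq {y : G} (hy : y ∈ Q) (hyZ : y ∉ S.Z) {g : SL₂}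
    (hg : C.X.el g • C.c = y • t • a) : C.ell y = g :=
  C.el_c_injective ((C.el_ell hy hyZ).trans hg.symm)

theorem exists_y (g : SL₂) : ∃ y ∈ Q, y ∉ S.Z ∧ C.ell y = g := by
  have hp : C.X.el g • C.c ≠ a := fun h => C.off_el g (by rw [h]; exact C.onB_a)
  obtain ⟨y, hy, he⟩ := exists_mem_smul S.setup hp
  have hyZ : y ∉ S.Z := fun hz => C.off_el g (by
    rw [← he, ← C.el_zc hz]; exact C.onB_el C.onB_b)
  exact ⟨y, hy, hyZ, C.ell_eq hy hyZ he.symm⟩

theorem ell_injOn {y y' : G} (hy : y ∈ Q) (hyZ : y ∉ S.Z) (hy' : y' ∈ Q) (hyZ' : y' ∉ S.Z)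
    (h : C.ell y = C.ell y') : y = y' :=
  eq_of_smul_eq S.setup hy hy' (b_ne S.setup) (by
    rw [← C.el_ell hy hyZ, h, C.el_ell hy' hyZ'])

theorem not_mem_mul {y z : G} (hyZ : y ∉ S.Z) (hz : z ∈ S.Z) : z * y ∉ S.Z := fun h =>
  hyZ (by simpa [← mul_assoc] using S.Z.mul_mem (S.Z.inv_mem hz) h)

theorem ell_mul {y z : G} (hy : y ∈ Q) (hyZ : y ∉ S.Z) (hz : z ∈ S.Z) :
    C.ell (z * y) = uni (C.zc z) * C.ell y := by
  refine C.ell_eq (Q.mul_mem (S.Z_le hz) hy) (C.not_mem_mul hyZ hz) ?_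
  rw [map_mul, mul_smul, C.el_ell hy hyZ, C.el_zc hz, mul_smul]

theorem not_mem_conj {y k : G} (hyZ : y ∉ S.Z) (hk : k ∈ S.K) : k * y * k⁻¹ ∉ S.Z := fun h =>
  hyZ (by simpa [mul_assoc] using S.conj_Z' hk h)

theorem ell_conj_dia {y : G} (hy : y ∈ Q) (hyZ : y ∉ S.Z) {m : F} (hm : m ≠ 0) :
    C.X.el (dia m hm) ∈ S.K ∧
      C.ell (C.X.el (dia m hm) * y * (C.X.el (dia m hm))⁻¹) = dia m hm * C.ell y := by
  have hk : C.X.el (dia m hm) ∈ S.K := (C.X.mem_K _).2 ⟨_, rfl, m, hm, rfl⟩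
  refine ⟨hk, C.ell_eq (S.conj_Q hk hy) (C.not_mem_conj hyZ hk) ?_⟩
  rw [map_mul, mul_smul, C.el_ell hy hyZ, mul_smul, mul_smul,
    inv_smul_eq_iff.2 (show t • a = C.X.el (dia m hm) • t • a from (S.K_le hk).2.symm)]

theorem four {y : G} (hy : y ∈ Q) : y * y * (y * y) = 1 := S.Z_sq (C.sq_mem y hy)

theorem inv_eq {y : G} (hy : y ∈ Q) : y⁻¹ = y * y * y := by
  refine inv_eq_of_mul_eq_one_right ?_
  rw [← C.four hy]; simp only [mul_assoc]

theorem sq_ne {y : G} (hy : y ∈ Q) (hyZ : y ∉ S.Z) : y * y ≠ 1 := fun h =>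
  hyZ ((S.mem_Z y).2 ⟨hy, h⟩)

theorem inv_not_mem {y : G} (hyZ : y ∉ S.Z) : y⁻¹ ∉ S.Z := fun h => hyZ (inv_mem_iff.1 h)

theorem ell_inv {y : G} (hy : y ∈ Q) (hyZ : y ∉ S.Z) :
    C.ell y⁻¹ = uni (C.zc (y * y)) * C.ell y := by
  rw [C.inv_eq hy]
  exact C.ell_mul hy hyZ (C.sq_mem y hy)

/-- The first factor of `t y t`. -/
theorem g_smul {y g h f : G} (hh : h ∈ D[a, t]) (hf : f ∈ Q) (he : t * y * t = g * h * t * f) :
    g • t • a = t • y • t • a := by
  have h1 := congrArg (fun z => z • a) he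
  simp only [mul_smul] at h1
  rw [fix_a S.setup hf, show h • t • a = t • a from hh.2] at h1
  exact h1.symm

theorem g_not_mem {y g h f : G} (hy : y ∈ Q) (hyZ : y ∉ S.Z) (hh : h ∈ D[a, t]) (hf : f ∈ Q)
    (he : t * y * t = g * h * t * f) : g ∉ S.Z := by
  intro hz
  refine C.off_el (swp * C.ell y) ?_
  rw [map_mul, mul_smul, C.el_ell hy hyZ, C.el_swp, ← C.g_smul hh hf he, ← C.el_zc hz]
  exact C.onB_el C.onB_b

theorem ell_g {y g h f : G} (hy : y ∈ Q) (hyZ : y ∉ S.Z) (hg : g ∈ Q) (hh : h ∈ D[a, t])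
    (hf : f ∈ Q) (he : t * y * t = g * h * t * f) : C.ell g = swp * C.ell y := by
  refine C.ell_eq hg (C.g_not_mem hy hyZ hh hf he) ?_
  rw [map_mul, mul_smul, C.el_ell hy hyZ, C.el_swp, C.g_smul hh hf he]

end Chart

end CfsgLib.Recog.RankOneSuzuki
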