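import Cfsg.Agent.Recog.RankOneSuzuki.Special

/-!
# Suzuki's rank one theorem: the field attached to the involutions at a point
-/

set_option autoImplicit false

namespace CfsgLib.Recog.RankOneSuzuki

open MulAction

variable {G Ω : Type*} [Group G] [MulAction G Ω] {a : Ω} {t : G} {Q : Subgroup G}

/-- The two-point elements centralised by `t`. -/
def Data.V (_S : Data a t Q) : Subgroup G :=
  stabilizer G a ⊓ stabilizer G (t • a) ⊓ Subgroup.centralizer {t}

/-- The elements of `V` centralising all involutions at `a`. -/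
def Data.W (S : Data a t Q) : Subgroup G := S.V ⊓ Subgroup.centralizer (S.Z : Set G)

/-- A field structure on `Z` in which `K` acts by squares of scalars and `V` by automorphisms. -/
structure FieldModel (S : Data a t Q) (F : Type) [Field F] where
  /-- The coordinate. -/
  ι : S.Z ≃ F
  /-- The scalar. -/
  μ : S.K →* Fˣ
  /-- The automorphism. -/
  σ : S.V →* (F ≃+* F)
  ι_mul : ∀ x y : S.Z, ι (x * y) = ι x + ι y
  ι_s : ι ⟨S.s, S.s_mem⟩ = 1
  μ_bij : Function.Bijective μ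
  ι_K : ∀ (k : S.K) (x : S.Z) (h : (k : G) * x * (k : G)⁻¹ ∈ S.Z),
    ι ⟨_, h⟩ = (μ k : F) * (μ k : F) * ι x
  ι_V : ∀ (v : S.V) (x : S.Z) (h : (v : G) * x * (v : G)⁻¹ ∈ S.Z), ι ⟨_, h⟩ = σ v (ι x)
  ker_σ : ∀ v : S.V, σ v = 1 ↔ (v : G) ∈ S.W
  μ_V : ∀ (v : S.V) (k : S.K) (h : (v : G) * k * (v : G)⁻¹ ∈ S.K), (μ ⟨_, h⟩ : F) = σ v (μ k : F)

end CfsgLib.Recog.RankOneSuzuki
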