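import Cfsg.Agent.Recog.RankOneSuzuki.NuLevels

/-!
# Suzuki's rank one theorem: some linear element preserves all levels

Otherwise the levels have at most three points, so the field has eight elements, and the two
equations at a pair with fixed first point are inconsistent.
-/

set_option autoImplicit false
set_option linter.unusedSectionVars false
set_option linter.style.haveILetI false

namespace CfsgLib.Recog.RankOneSuzuki

namespace Line

variable {F : Type*} [Field F] [Finite F] [CharP F 2] {B E : Type*} [Group E] (L : Line F B E)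

include L in
theorem succ_card_le [Finite B] : Nat.card F + 1 ≤ Nat.card B := by
  haveI := Fintype.ofFinite F
  haveI := Fintype.ofFinite B
  let w : Option F → F × F := fun o => o.elim (0, 1) fun l => (1, l)
  have hw : ∀ o, w o ≠ 0 := fun o => by cases o <;> simp [w, Prod.ext_iff]
  choose f hf using fun o => L.v_surj (w o) (hw o)
  have hinj : Function.Injective f := by
    intro o o' h
    obtain ⟨c, hc⟩ := exists_smul_of_br (hw o) (hf o)
    obtain ⟨c', hc'⟩ := exists_smul_of_br (hw o') (hf o')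
    have hc0 : c ≠ 0 := fun h0 => L.v_ne _ (by rw [hc, h0, zero_smul])
    have h1 := congrArg L.v h
    rw [hc, hc'] at h1
    cases o with
    | none =>
      cases o' with
      | none => rfl
      | some l =>
        simp [w, Prod.ext_iff] at h1
        exact absurd (by rw [h1.2, ← h1.1]; simp) hc0
    | some l =>
      cases o' with
      | none =>
        simp [w, Prod.ext_iff] at h1
        exact absurd h1.1 hc0
      | some l' =>
        simp [w, Prod.ext_iff] at h1
        obtain ⟨h1, h2⟩ := h1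
        subst h1
        exact congrArg some (mul_left_cancel₀ hc0 h2)
  have h := Fintype.card_le_of_injective f hinj
  simpa [Nat.card_eq_fintype_card] using h

/-- A pair whose sequence returns after three steps. -/
theorem br_of_fix {x y : B} (h : x ≠ y) (h3 : L.nb (L.nb y x) y = x) :
    br (L.v y) (L.v (L.nb y x)) = 1 := by
  have ha := L.br_v_ne h
  have h2 := (L.nb_ne h).symm
  set z := L.nb y x
  have e2 : L.v z = (br (L.v y) (L.v z) / br (L.v x) (L.v y)) • L.v x +
      br (L.v y) (L.v z) • L.v y := L.recur h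
  have e3 : L.v x = (br (L.v z) (L.v x) / br (L.v y) (L.v z)) • L.v y +
      br (L.v z) (L.v x) • L.v z := by
    have h' := L.recur h2
    rw [h3] at h'
    exact h'
  have p : br (L.v z) (L.v x) = br (L.v y) (L.v z) * br (L.v x) (L.v y) := by
    nth_rw 1 [e2]
    rw [br_add_left, br_smul_left, br_smul_left, br_self, mul_zero, zero_add, br_comm (L.v y)]
    congr 1
    exact br_comm _ _
  have q : br (L.v x) (L.v y) = br (L.v z) (L.v x) * br (L.v y) (L.v z) := by
    nth_rw 1 [e3]
    rw [br_add_left, br_smul_left, br_smul_left, br_self, mul_zero, zero_add, br_comm (L.v z) (L.v y)]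
  rw [p] at q
  have hsq : br (L.v y) (L.v z) * br (L.v y) (L.v z) = 1 := by
    refine mul_left_cancel₀ ha ?_
    linear_combination -q
  exact mul_self_eq_one_iff.1 hsq |>.elim id fun h => by rw [h, CharTwo.neg_eq]

variable [Finite B] (x₀ : B)

theorem A_eq_one (hW : L.W₀ x₀ = ⊥) {x y : B} (h : x ≠ y) (hl : L.φ x₀ y = L.φ x₀ x) :
    L.A x y = 1 := by
  have := L.A_mem_W₀ x₀ h hl
  rwa [hW, Subgroup.mem_bot] at this

theorem br_level (hW : L.W₀ x₀ = ⊥) {x y : B} (h : x ≠ y) (hl : L.φ x₀ y = L.φ x₀ x) :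
    br (L.v x) (L.v y) = 1 := by
  have hA := L.A_eq_one x₀ hW h hl
  have h3 : L.nb (L.nb y x) y = x := by
    rw [← L.A_fst x y h, hA, map_one, Equiv.Perm.one_apply]
  have h4 : L.nb (L.nb (L.nb y x) y) (L.nb y x) = y := by
    rw [← L.A_snd x y h, hA, map_one, Equiv.Perm.one_apply]
  rw [h3] at h4
  have h2 := (L.nb_ne h).symm
  have hzx : L.nb y x ≠ x := by
    intro hh
    have h' := L.nb_ne h2
    rw [h3] at h'
    exact h' hh.symm
  have hlz : L.φ x₀ x = L.φ x₀ (L.nb y x) := by rw [L.φ_nb_eq x₀ h hl, hl]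
  have hA' := L.A_eq_one x₀ hW hzx hlz
  have h5 : L.nb (L.nb x (L.nb y x)) x = L.nb y x := by
    rw [← L.A_fst _ _ hzx, hA', map_one, Equiv.Perm.one_apply]
  have := L.br_of_fix hzx h5
  rwa [h4] at this

theorem eq_add_of_one {p q r : B} (h1 : br (L.v p) (L.v q) = 1) (h2 : br (L.v p) (L.v r) = 1)
    (h3 : br (L.v q) (L.v r) = 1) : L.v r = L.v p + L.v q := by
  have h := expand (p := L.v p) (q := L.v q) (by rw [h1]; exact one_ne_zero) (L.v r)
  rwa [h1, h2, br_comm (L.v r), h3, div_one, one_smul, one_smul] at h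

theorem level_card_le (hW : L.W₀ x₀ = ⊥) [Fintype B] (s : Finset B)
    (hs : ∀ x ∈ s, ∀ y ∈ s, L.φ x₀ x = L.φ x₀ y) : s.card ≤ 3 := by
  classical
  by_contra hc
  obtain ⟨x, hx, y, hy, hxy⟩ := Finset.one_lt_card.1 (show 1 < s.card by omega)
  have h : ((s.erase x).erase y).card ≤ 1 := by
    rw [Finset.card_le_one]
    intro u hu w hw
    simp only [Finset.mem_erase] at hu hw
    have e := fun {p q : B} (h : p ≠ q) (hp : p ∈ s) (hq : q ∈ s) =>
      L.br_level x₀ hW h (hs q hq p hp)
    apply L.v_injective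
    rw [L.eq_add_of_one (e hxy hx hy) (e hu.2.1.symm hx hu.2.2) (e hu.1.symm hy hu.2.2),
      L.eq_add_of_one (e hxy hx hy) (e hw.2.1.symm hx hw.2.2) (e hw.1.symm hy hw.2.2)]
  rw [Finset.card_erase_of_mem (Finset.mem_erase.2 ⟨hxy.symm, hy⟩),
    Finset.card_erase_of_mem hx] at h
  omega

/-- Some linear element preserves all levels. -/
theorem W₀_ne_bot [Finite E] (hE : Odd (Nat.card E)) {n : ℕ} (hn : 2 ≤ n)
    (hF : Nat.card F = 2 ^ n) : L.W₀ x₀ ≠ ⊥ := by
  classical
  intro hW
  haveI := Fintype.ofFinite B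
  haveI : Finite (F ≃+* F) := Finite.of_injective _ DFunLike.coe_injective
  haveI := Fintype.ofFinite (F ≃+* F)
  have hAut := card_ringEquiv_le hF
  have hB := L.succ_card_le
  rw [hF, Nat.card_eq_fintype_card] at hB
  let lev : (F ≃+* F) → Finset B := fun g => Finset.univ.filter fun x => L.φ x₀ x = g
  have hlev : ∀ g, (lev g).card ≤ 3 := fun g => L.level_card_le x₀ hW _ fun x hx y hy => by
    simp only [lev, Finset.mem_filter, Finset.mem_univ, true_and] at hx hy
    rw [hx, hy]
  let R : Finset (F ≃+* F) := Finset.univ.filter fun g => g ∈ L.τ.range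
  have hsum : Fintype.card B = ∑ g ∈ R, (lev g).card := by
    rw [← Finset.card_univ]
    exact Finset.card_eq_sum_card_fiberwise fun x _ =>
      Finset.mem_filter.2 ⟨Finset.mem_univ _, L.φ_mem x₀ x⟩
  have hR : R.card = Nat.card L.τ.range := by
    rw [Nat.card_eq_fintype_card, Fintype.card_subtype]
  have hRodd : Odd (Nat.card L.τ.range) :=
    hE.of_dvd_nat (Subgroup.card_range_dvd L.τ)
  have hRle : Nat.card L.τ.range ≤ Nat.card (F ≃+* F) :=
    Nat.card_le_card_of_injective _ Subtype.val_injective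
  have hle : ∑ g ∈ R, (lev g).card ≤ R.card * 3 := Finset.sum_le_card_nsmul _ _ _ fun g _ => hlev g
  have hn3 : n = 3 ∧ Nat.card L.τ.range = 3 := by
    rcases hRodd with ⟨k, hk⟩
    rcases Nat.lt_or_ge n 4 with h | h
    · interval_cases n
      · omega
      · omega
    · have : ∀ m, 4 ≤ m → 3 * m < 2 ^ m + 1 := by
        intro m hm
        induction m, hm using Nat.le_induction with
        | base => norm_num
        | succ m hm ih => rw [pow_succ]; omega
      have := this n h
      omega
  obtain ⟨rfl, hR3⟩ := hn3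
  have hAut3 : Nat.card (F ≃+* F) = 3 := by omega
  have hmem : ∀ g : F ≃+* F, g ∈ L.τ.range := by
    have : L.τ.range = ⊤ := Subgroup.eq_top_of_card_eq _ (by rw [hR3, hAut3])
    exact fun g => by rw [this]; exact Subgroup.mem_top g
  have hfull : ∀ g, (lev g).card = 3 := by
    intro g
    have h1 : R = Finset.univ := Finset.filter_true_of_mem fun g _ => hmem g
    rw [h1] at hsum hR
    have h2 := Finset.add_sum_erase Finset.univ (fun g => (lev g).card) (Finset.mem_univ g)
    have h3 : ∑ g' ∈ Finset.univ.erase g, (lev g').card ≤ (Finset.univ.erase g).card * 3 :=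
      Finset.sum_le_card_nsmul _ _ _ fun g' _ => hlev g'
    rw [Finset.card_erase_of_mem (Finset.mem_univ g)] at h3
    have := hlev g
    omega
  have hpow : ∀ g : F ≃+* F, g ^ 3 = 1 := fun g => by rw [← hAut3]; exact pow_card_eq_one'
  have hbool : ∀ g : F ≃+* F, g ≠ 1 → ∀ s : F, g s = s → s = 0 ∨ s = 1 := by
    intro g hg s hs
    have hodd : Odd (orderOf g) :=
      (show Odd 3 by decide).of_dvd_nat (orderOf_dvd_of_pow_eq_one (hpow g))
    have h := card_fix_pow_three_le g hg hodd
    rw [hF] at h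
    have h2 : Nat.card {x : F // g x = x} ≤ 2 := by
      by_contra hc
      have := Nat.pow_le_pow_left (show 3 ≤ Nat.card {x : F // g x = x} by omega) 3
      omega
    by_contra hne
    push Not at hne
    let f : Fin 3 → {x : F // g x = x} :=
      ![⟨0, map_zero g⟩, ⟨1, map_one g⟩, ⟨s, hs⟩]
    have hf : Function.Injective f := by
      intro i j h
      fin_cases i <;> fin_cases j <;>
        simp [f, Subtype.ext_iff, hne.1, hne.2, hne.1.symm, hne.2.symm] at h ⊢
    have := Nat.card_le_card_of_injective f hf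
    simp at this
    omega
  -- a pair of points in different levels
  obtain ⟨y₀, hy₀⟩ : ∃ y, y ∉ lev (L.φ x₀ x₀) := by
    by_contra! hall
    have h1 : (Finset.univ : Finset B).card ≤ (lev (L.φ x₀ x₀)).card :=
      Finset.card_le_card fun y _ => hall y
    rw [Finset.card_univ] at h1
    have := hlev (L.φ x₀ x₀)
    omega
  simp only [lev, Finset.mem_filter, Finset.mem_univ, true_and] at hy₀
  have hxy₀ : x₀ ≠ y₀ := fun h => hy₀ (by rw [h])
  set e := L.A x₀ y₀
  set d := L.τ e with hd
  have hd1 : d ≠ 1 := fun h => hy₀ ((L.tau_eq_one_iff x₀ hxy₀).1 h)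
  have hce : L.c x₀ e = 1 := by rw [L.c_A x₀ hxy₀, hpow]
  have huniq : ∀ e' : E, L.τ e' = d → L.c x₀ e' = 1 → e' = e := by
    intro e' h1 h2
    have hm : e' * e⁻¹ ∈ L.W₀ x₀ := by
      rw [W₀, MonoidHom.mem_ker, map_mul, map_inv, mul_inv_eq_one]
      exact Prod.ext h1 (h2.trans hce.symm)
    rw [hW, Subgroup.mem_bot, mul_inv_eq_one] at hm
    exact hm
  have he3 : e * e * e = 1 := by
    have hm : e * e * e ∈ L.W₀ x₀ := by
      rw [W₀, MonoidHom.mem_ker, map_mul, map_mul, ← pow_three']
      refine Prod.ext (hpow _) ?_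
      show L.c x₀ e ^ 3 = 1
      rw [hce, one_pow]
    rwa [hW, Subgroup.mem_bot] at hm
  have hact3 : ∀ u, L.act e (L.act e (L.act e u)) = u := fun u => by
    rw [← Equiv.Perm.mul_apply, ← Equiv.Perm.mul_apply, ← map_mul, ← map_mul, he3,
      map_one, Equiv.Perm.one_apply]
  have hkeep : ∀ u, L.φ x₀ (L.act e u) = L.φ x₀ u := fun u => by rw [L.φ_act, hce, one_mul]
  -- a fixed point
  obtain ⟨z, hz⟩ : ∃ z, L.act e z = z := by
    by_cases hfx : L.act e x₀ = x₀
    · exact ⟨x₀, hfx⟩
    set v := L.v x₀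
    set w := L.M e v with hwdef
    set u := L.M e w with hudef
    have hvw : br v w ≠ 0 := by
      rw [hwdef, L.M_v]; exact L.br_v_ne fun h => hfx h.symm
    have hMu : L.M e u = v := by
      rw [hudef, hwdef, ← L.M_mul, ← L.M_mul, he3, M_one]
    let f : F → F × F := fun l => l • v + d l • w + d (d l) • u
    have hf : ∀ l, L.M e (f l) = f l := fun l => by
      have h3 : d (d (d l)) = l := by
        have := RingEquiv.congr_fun (hpow d) l
        rwa [pow_three] at this
      simp only [f, map_add, L.M_smul, ← hd, ← hwdef, ← hudef, hMu, h3]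
      abel
    obtain ⟨l, hl⟩ : ∃ l, d l ≠ l := by
      by_contra! hall
      exact hd1 (RingEquiv.ext hall)
    have key : ∃ m, f m ≠ 0 := by
      by_contra! h0
      have h1 := congrArg (fun p => br p w) (h0 1)
      have h2 := congrArg (fun p => br p w) (h0 l)
      simp only [f, map_one, br_add_left, br_smul_left, br_self, mul_zero, add_zero,
        br_zero_left, one_mul] at h1 h2
      have h3 : (l - d (d l)) * br v w = 0 := by linear_combination h2 - d (d l) * h1
      have h4 : d (d l) = l := (sub_eq_zero.1 ((mul_eq_zero.1 h3).resolve_right hvw)).symm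
      have h5 : d (d (d l)) = l := by
        have := RingEquiv.congr_fun (hpow d) l
        rwa [pow_three] at this
      rw [h4] at h5
      exact hl h5
    obtain ⟨m, hm⟩ := key
    obtain ⟨z, hz⟩ := L.v_surj _ hm
    refine ⟨z, L.v_inj _ _ ?_⟩
    have hz' := L.act_line (e := e) hz
    rw [hf] at hz'
    obtain ⟨p, hp⟩ := exists_smul_of_br hm hz'
    obtain ⟨q, hq⟩ := exists_smul_of_br hm hz
    rw [hp, hq, br_smul_left, br_smul_right, br_self, mul_zero, mul_zero]
  have hlevfix : ∀ u, L.φ x₀ u = L.φ x₀ z → L.act e u = u := by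
    intro u hu
    by_contra hne
    have hsub : ({u, L.act e u, L.act e (L.act e u), z} : Finset B) ⊆ lev (L.φ x₀ z) := by
      intro p hp
      simp only [Finset.mem_insert, Finset.mem_singleton] at hp
      simp only [lev, Finset.mem_filter, Finset.mem_univ, true_and]
      rcases hp with rfl | rfl | rfl | rfl <;> simp [hkeep, hu]
    have hinj := (L.act e).injective
    have n1 : u ≠ L.act e u := Ne.symm hne
    have n2 : u ≠ L.act e (L.act e u) := fun h => by
      have := congrArg (L.act e) h
      rw [hact3] at this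
      exact hne this
    have n3 : u ≠ z := fun h => hne (by rw [h, hz])
    have n4 : L.act e u ≠ L.act e (L.act e u) := fun h => hne (hinj h).symm
    have n5 : L.act e u ≠ z := fun h => n3 (hinj (h.trans hz.symm))
    have n6 : L.act e (L.act e u) ≠ z := fun h => n5 (hinj (h.trans hz.symm))
    have h := Finset.card_le_card hsub
    rw [Finset.card_insert_of_notMem (by simp [n1, n2, n3]),
      Finset.card_insert_of_notMem (by simp [n4, n5]),
      Finset.card_insert_of_notMem (by simp [n6]), Finset.card_singleton] at h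
    have := hlev (L.φ x₀ z)
    omega
  have hfixbr : ∀ p q, p ≠ q → L.act e p = p → L.act e q = q → br (L.v p) (L.v q) = 1 := by
    intro p q hpq hp hq
    have h := L.M_br e (L.v p) (L.v q)
    rw [L.M_fix hp, L.M_fix hq] at h
    exact (hbool d hd1 _ h.symm).resolve_left (L.br_v_ne hpq)
  have hout : ∀ p, L.φ x₀ p ≠ L.φ x₀ z → L.act e p ≠ p := by
    intro p hp hfix
    obtain ⟨u₁, u₂, u₃, n12, n13, n23, hs⟩ := Finset.card_eq_three.1 (hfull (L.φ x₀ z))
    have hu : ∀ u ∈ lev (L.φ x₀ z), L.act e u = u ∧ u ≠ p := fun u hu => by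
      simp only [lev, Finset.mem_filter, Finset.mem_univ, true_and] at hu
      exact ⟨hlevfix u hu, fun h => hp (h ▸ hu)⟩
    obtain ⟨f1, m1⟩ := hu u₁ (by simp [hs])
    obtain ⟨f2, m2⟩ := hu u₂ (by simp [hs])
    obtain ⟨f3, m3⟩ := hu u₃ (by simp [hs])
    refine m3 (L.v_injective ?_)
    rw [L.eq_add_of_one (hfixbr _ _ n12 f1 f2) (hfixbr _ _ n13 f1 f3) (hfixbr _ _ n23 f2 f3),
      L.eq_add_of_one (hfixbr _ _ n12 f1 f2) (hfixbr _ _ m1 f1 hfix) (hfixbr _ _ m2 f2 hfix)]
  obtain ⟨y, hy⟩ := Finset.card_pos.1 (show 0 < (lev (d * L.φ x₀ z)).card by rw [hfull]; norm_num)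
  simp only [lev, Finset.mem_filter, Finset.mem_univ, true_and] at hy
  have hzy : z ≠ y := fun h => hd1 (mul_eq_right.1 (by rw [← hy, h]))
  have hτ' : L.τ (L.A z y) = d := by
    have h := L.tau_A x₀ hzy
    rw [hy] at h
    exact (mul_right_cancel h).symm
  have hA : L.A z y = e := huniq _ hτ' (by rw [L.c_A x₀ hzy, hpow])
  have h3 : L.nb (L.nb y z) y = z := by rw [← L.A_fst z y hzy, hA, hz]
  have ha2 := L.br_of_fix hzy h3
  have h4 : L.act e y = L.nb z (L.nb y z) := by rw [← hA, L.A_snd z y hzy, h3]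
  have hy2 : L.φ x₀ (L.nb y z) = d * L.φ x₀ y := by rw [L.φ_nb x₀ hzy, hτ']
  have hne1 : L.φ x₀ y ≠ L.φ x₀ z := fun h => hd1 (mul_eq_right.1 (by rw [← hy, h]))
  have hne2 : L.φ x₀ (L.nb y z) ≠ L.φ x₀ z := fun h => by
    rw [hy2, hy, ← mul_assoc] at h
    have hdd : d * d = 1 := mul_eq_right.1 h
    have h' := hpow d
    rw [pow_three, hdd, mul_one] at h'
    exact hd1 h'
  have hz2 : L.nb y z ≠ z := fun h => hne2 (by rw [h])
  set a := br (L.v z) (L.v y) with hadef
  set b := d a with hbdef
  have ha : a ≠ 0 := L.br_v_ne hzy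
  have hb : b ≠ 0 := (map_ne_zero_iff _ d.injective).2 ha
  have v2 : L.v (L.nb y z) = a⁻¹ • L.v z + L.v y := by
    rw [L.recur hzy, ha2, one_smul, one_div]
  have hb' : br (L.v z) (L.v (L.act e y)) = b := by
    conv_lhs => rw [← L.M_fix hz, ← L.M_v, L.M_br]
  have hb2 : br (L.v (L.nb y z)) (L.v z) = a := by
    rw [v2, br_add_left, br_smul_left, br_self, mul_zero, zero_add, br_comm]
  have v4 : L.v (L.act e y) = (b / a) • L.v (L.nb y z) + b • L.v z := by
    have h := L.recur hz2
    rw [← h4, hb', hb2] at h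
    exact h
  have e1 : br (L.v y) (L.v (L.act e y)) = 1 :=
    L.br_level x₀ hW (hout y hne1).symm (hkeep y)
  have e2 : br (L.v (L.nb y z)) (L.v (L.act e (L.nb y z))) = 1 :=
    L.br_level x₀ hW (hout _ hne2).symm (hkeep _)
  have v5 : L.v (L.act e (L.nb y z)) = b⁻¹ • L.v z + L.v (L.act e y) := by
    rw [← L.M_v, v2, map_add, L.M_smul, L.M_fix hz, L.M_v, map_inv₀, ← hd]
  rw [v5, v4, br_add_right, br_add_right, br_smul_right, br_smul_right, br_smul_right, br_self,
    mul_zero, zero_add, hb2] at e2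
  rw [v4, br_add_right, br_smul_right, br_smul_right, v2, br_add_right, br_smul_right, br_self,
    add_zero, br_comm (L.v y) (L.v z), ← hadef] at e1
  field_simp at e1 e2
  have hab : (a * b) * (a + b) = 0 := by
    linear_combination e1 + e2 + (0 : F) * (two_eq_zero' (F := F))
  rcases mul_eq_zero.1 hab with h | h
  · exact mul_ne_zero ha hb h
  · rw [CharTwo.add_eq_zero.1 h] at e1
    exact pow_ne_zero 3 hb (by linear_combination e1)

end Line

end CfsgLib.Recog.RankOneSuzuki
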