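import Cfsg.Agent.Recog.RankOneSuzuki.NuForm
import Cfsg.Agent.Recog.RankOneSuzuki.NuSmall

/-!
# Suzuki's rank one theorem: the algebra of the inversions on the line

The vectors of the points are the vectors of norm one of an anisotropic form, and the shifting
elements are linear.
-/

set_option autoImplicit false
set_option linter.unusedSectionVars false
set_option linter.style.haveILetI false

namespace CfsgLib.Recog.RankOneSuzuki

theorem bad_bound {n M : ℕ} (hn : 2 ≤ n) (hM : M ^ 3 ≤ 2 ^ n) :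
    4 * (n * (M - 1)) < 2 ^ n + 1 + 4 * (M - 1) := by
  rcases Nat.lt_or_ge n 8 with h | h
  · have hM6 : M ≤ 5 := by
      by_contra hc
      have h1 := Nat.pow_le_pow_left (show 6 ≤ M by omega) 3
      have h2 := Nat.pow_le_pow_right (show 0 < 2 by norm_num) (show n ≤ 7 by omega)
      omega
    interval_cases n <;> interval_cases M <;> omega
  · by_contra hc
    have h1 : 2 ^ n ≤ 4 * (n * M) := by
      have := Nat.mul_le_mul_left n (Nat.sub_le M 1)
      omega
    have h2 : (2 ^ n) ^ 3 ≤ 64 * n ^ 3 * 2 ^ n :=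
      calc (2 ^ n) ^ 3 ≤ (4 * (n * M)) ^ 3 := Nat.pow_le_pow_left h1 3
        _ = 64 * n ^ 3 * M ^ 3 := by ring
        _ ≤ 64 * n ^ 3 * 2 ^ n := Nat.mul_le_mul_left _ hM
    have h3 : ∀ m, 8 ≤ m → 64 * m ^ 3 < 4 ^ m := by
      intro m hm
      induction m, hm using Nat.le_induction with
      | base => norm_num
      | succ m hm ih =>
        have : (m + 1) ^ 3 ≤ 4 * m ^ 3 := by
          have : 8 * (m * m) ≤ m * (m * m) := Nat.mul_le_mul_right _ hm
          nlinarith
        rw [pow_succ 4]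
        omega
    have h4 : 4 ^ n = (2 ^ n) ^ 2 := by rw [← pow_mul, mul_comm, pow_mul]; norm_num
    have h5 := h3 n h
    rw [h4] at h5
    nlinarith [pow_pos (show 0 < 2 by norm_num) n]

namespace Line

section

variable {F : Type*} [Field F] [CharP F 2] {B E : Type*} [Group E] (L : Line F B E)

theorem v_nb {qf : F × F → F} (hq : IsForm qf) (hv : ∀ x, qf (L.v x) = 1) (x y : B) :
    L.v (L.nb y x) = L.v x + br (L.v x) (L.v y) • L.v y := by
  set w := L.v x + br (L.v x) (L.v y) • L.v y with hw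
  have hqw : qf w = 1 := by
    rw [hw, hq.add, hq.smul, br_smul_right, hv, hv]
    linear_combination br (L.v x) (L.v y) * br (L.v x) (L.v y) * (two_eq_zero' (F := F))
  have hq0 : qf 0 = 0 := by simpa using hq.smul 0 0
  have hw0 : w ≠ 0 := fun h => zero_ne_one (by rw [← hqw, h, hq0])
  obtain ⟨c, hc⟩ := exists_smul_of_br hw0 (L.nb_spec y x)
  have h1 := hv (L.nb y x)
  rw [hc, hq.smul, hqw, mul_one] at h1
  rcases mul_self_eq_one_iff.1 h1 with h | h
  · rw [hc, h, one_smul]
  · rw [hc, h, CharTwo.neg_eq, one_smul]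

theorem tau_fix {qf : F × F → F} (hq : IsForm qf) (hv : ∀ x, qf (L.v x) = 1) {x y : B}
    (h : x ≠ y) : L.τ (L.A x y) (br (L.v x) (L.v y)) = br (L.v x) (L.v y) := by
  have hsucc : ∀ p q : B, br (L.v q) (L.v (L.nb q p)) = br (L.v p) (L.v q) := fun p q => by
    rw [L.v_nb hq hv, br_add_right, br_smul_right, br_self, mul_zero, add_zero, br_comm]
  conv_lhs => rw [← L.M_br, L.M_v, L.M_v, L.A_fst x y h, L.A_snd x y h, hsucc, hsucc, hsucc]

end

section

variable {F : Type*} [Field F] [Fintype F] [CharP F 2] {B E : Type*} [Fintype B] [Group E]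
  [Finite E]

theorem tau_A_eq_one (L : Line F B E) {n : ℕ} (hn : 2 ≤ n) (hF : Fintype.card F = 2 ^ n)
    (hE : Odd (Nat.card E)) {qf : F × F → F} (hq : IsForm qf) (hv : ∀ x, qf (L.v x) = 1)
    {x y : B} (hxy : x ≠ y) : L.τ (L.A x y) = 1 := by
  classical
  by_contra hne
  haveI : Finite (F ≃+* F) := Finite.of_injective _ DFunLike.coe_injective
  haveI := Fintype.ofFinite (F ≃+* F)
  have hAut := card_ringEquiv_le (F := F) (n := n) (by rw [Nat.card_eq_fintype_card, hF])
  rw [Nat.card_eq_fintype_card] at hAut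
  obtain ⟨M, hM⟩ : ∃ M, IsGreatest {M : ℕ | M ^ 3 ≤ 2 ^ n} M := by
    refine ⟨_, Nat.findGreatest_spec (P := fun M => M ^ 3 ≤ 2 ^ n) (m := 0) (n := 2 ^ n)
      (Nat.zero_le _) (by simp), fun m hm => ?_⟩
    exact Nat.le_findGreatest ((Nat.le_self_pow (by norm_num) m).trans hm) hm
  let G : Finset (F ≃+* F) := Finset.univ.filter fun g => g ∈ L.τ.range ∧ g ≠ 1
  let S : Finset F := G.biUnion fun g => (Finset.univ.filter fun s => g s = s).erase 0
  have hG : G.card ≤ n - 1 := by
    have h : G ⊆ Finset.univ.erase 1 := fun g hg =>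
      Finset.mem_erase.2 ⟨(Finset.mem_filter.1 hg).2.2, Finset.mem_univ _⟩
    have := Finset.card_le_card h
    rw [Finset.card_erase_of_mem (Finset.mem_univ _), Finset.card_univ] at this
    omega
  have hS : S.card ≤ (n - 1) * (M - 1) := by
    refine le_trans Finset.card_biUnion_le (le_trans ?_ (Nat.mul_le_mul_right _ hG))
    refine le_trans (Finset.sum_le_card_nsmul _ _ (M - 1) fun g hg => ?_) (le_refl _)
    obtain ⟨-, ⟨e, rfl⟩, hg1⟩ := Finset.mem_filter.1 hg
    have hodd : Odd (orderOf (L.τ e)) :=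
      hE.of_dvd_nat ((orderOf_map_dvd L.τ e).trans (orderOf_dvd_natCard e))
    have h := card_fix_pow_three_le _ hg1 hodd
    rw [Nat.card_eq_fintype_card, Nat.card_eq_fintype_card, Fintype.card_subtype, hF] at h
    rw [Finset.card_erase_of_mem (by simp)]
    exact Nat.sub_le_sub_right (hM.2 h) 1
  let bad : B → Finset B := fun p => Finset.univ.filter fun q => p ≠ q ∧ L.τ (L.A p q) ≠ 1
  have hbad : ∀ p, (bad p).card ≤ 2 * S.card := by
    intro p
    refine Finset.card_le_mul_card_image_of_maps_to (f := fun q => br (L.v p) (L.v q)) ?_ 2 ?_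
    · intro q hq'
      simp only [bad, Finset.mem_filter, Finset.mem_univ, true_and] at hq'
      exact Finset.mem_biUnion.2 ⟨L.τ (L.A p q),
        Finset.mem_filter.2 ⟨Finset.mem_univ _, ⟨_, rfl⟩, hq'.2⟩, Finset.mem_erase.2
          ⟨L.br_v_ne hq'.1, Finset.mem_filter.2 ⟨Finset.mem_univ _, L.tau_fix hq hv hq'.1⟩⟩⟩
    · intro s _
      by_contra hc
      obtain ⟨a, b, c, ha, hb, hc', hab, hac, hbc⟩ := Finset.two_lt_card_iff.1 (not_le.1 hc)
      simp only [bad, Finset.mem_filter, Finset.mem_univ, true_and] at ha hb hc'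
      have hs0 : s ≠ 0 := ha.2 ▸ L.br_v_ne ha.1.1
      have two : ∀ q, br (L.v p) (L.v q) = s → q ≠ a → L.v q = L.v a + s • L.v p := by
        intro q hq' hqa
        have h1 := expand (p := L.v p) (q := L.v a) (by rw [ha.2]; exact hs0) (L.v q)
        rw [hq', ha.2, div_self hs0, one_smul, add_comm] at h1
        have h2 := hv q
        rw [h1, hq.add, hq.smul, hv, hv, br_smul_right, br_comm (L.v a) (L.v p), ha.2] at h2
        set l := br (L.v q) (L.v a) / s
        have h3 : l * (l + s) = 0 := by linear_combination h2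
        rcases mul_eq_zero.1 h3 with h | h
        · rw [h, zero_smul, add_zero] at h1
          exact absurd (L.v_injective h1) hqa
        · rwa [CharTwo.add_eq_zero.1 h] at h1
      exact hbc (L.v_injective ((two b hb.2 hab.symm).trans (two c hc'.2 hac.symm).symm))
  have hcover : Finset.univ ⊆ bad x ∪ bad y := by
    intro z _
    simp only [bad, Finset.mem_union, Finset.mem_filter, Finset.mem_univ, true_and]
    by_cases hzx : x = z
    · right
      subst hzx
      exact ⟨hxy.symm, fun h => hne (by rw [L.A_symm _ _ hxy.symm, h, inv_one])⟩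
    by_cases hzy : y = z
    · left
      subst hzy
      exact ⟨hxy, hne⟩
    by_cases h1 : L.τ (L.A x z) = 1
    · right
      refine ⟨hzy, fun h2 => hne ?_⟩
      have h3 := L.A_cocycle x y z hxy hzy hzx
      rw [h1, h2, one_mul] at h3
      exact h3.symm
    · exact Or.inl ⟨hzx, h1⟩
  have h1 := Finset.card_le_card hcover
  have h2 := L.succ_card_le
  rw [Nat.card_eq_fintype_card, Nat.card_eq_fintype_card, hF] at h2
  rw [Finset.card_univ] at h1
  have h3 := Finset.card_union_le (bad x) (bad y)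
  have h4 := hbad x
  have h5 := hbad y
  have h6 := bad_bound hn hM.1
  have h7 : (n - 1) * (M - 1) + (M - 1) = n * (M - 1) := by
    obtain ⟨m, rfl⟩ : ∃ m, n = m + 1 := ⟨n - 1, by omega⟩
    rw [Nat.add_sub_cancel, add_mul, one_mul]
  omega

/-- The point vectors are the norm one vectors of an anisotropic form, and the shifting elements
are linear. -/
theorem exists_form (L : Line F B E) (n : ℕ) (hn : 2 ≤ n) (hF : Fintype.card F = 2 ^ n)
    (hE : Odd (Nat.card E)) :
    ∃ qf : F × F → F, (∀ (l : F) w, qf (l • w) = l * l * qf w) ∧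
      (∀ w z, qf (w + z) = qf w + qf z + br w z) ∧ (∀ w, qf w = 0 → w = 0) ∧
      (∀ x, qf (L.v x) = 1) ∧ ∀ x y, x ≠ y → L.τ (L.A x y) = 1 := by
  obtain ⟨x₀, -⟩ := L.v_surj (1, 0) (by simp [Prod.ext_iff])
  have hW := L.W₀_ne_bot x₀ hE hn (by rw [Nat.card_eq_fintype_card, hF])
  obtain ⟨qf, hq, hinv⟩ := L.exists_form_of_ne hE x₀ hW
  exact ⟨qf, hq.smul, hq.add, hq.aniso, L.form_eq_one hE x₀ hW hq hinv,
    fun x y h => L.tau_A_eq_one hn hF hE hq (L.form_eq_one hE x₀ hW hq hinv) h⟩

/-- With that form the sequence of a pair is arithmetic. -/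
theorem v_nb_eq (L : Line F B E) {qf : F × F → F} (hs : ∀ (l : F) w, qf (l • w) = l * l * qf w)
    (hadd : ∀ w z, qf (w + z) = qf w + qf z + br w z) (han : ∀ w, qf w = 0 → w = 0)
    (hv : ∀ x, qf (L.v x) = 1) (x y : B) :
    L.v (L.nb y x) = L.v x + br (L.v x) (L.v y) • L.v y :=
  L.v_nb ⟨hs, hadd, han⟩ hv x y

end

end Line

end CfsgLib.Recog.RankOneSuzuki
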