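import Cfsg.Agent.Recog.RankOneSuzuki.NuLevels

/-!
# Suzuki's rank one theorem: the quadratic form on the line

An anisotropic form fixed by the linear elements preserving the levels takes the value one at every
point vector.
-/

set_option autoImplicit false
set_option linter.unusedSectionVars false
set_option linter.style.haveILetI false

namespace CfsgLib.Recog.RankOneSuzuki

/-- An anisotropic quadratic form with polar form `br`. -/
structure IsForm {F : Type*} [Field F] (qf : F × F → F) : Prop where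
  smul : ∀ (l : F) w, qf (l • w) = l * l * qf w
  add : ∀ w z, qf (w + z) = qf w + qf z + br w z
  aniso : ∀ w, qf w = 0 → w = 0

namespace Line

variable {F : Type*} [Field F] [Finite F] [CharP F 2] {B E : Type*} [Group E] [Finite E]
  (L : Line F B E)

theorem eq_one_of_line {e : E} (he : L.τ e = 1) {u : F × F} (hu : u ≠ 0) {c : F}
    (hc : L.M e u = c • u) : e = 1 := by
  obtain ⟨x, hx⟩ := L.v_surj u hu
  have h := L.act_line (e := e) hx
  rw [hc, br_smul_left] at h
  rcases mul_eq_zero.1 h with h | h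
  · exact absurd (L.M_injective e (by rw [hc, h, zero_smul, map_zero])) hu
  obtain ⟨p, hp⟩ := exists_smul_of_br hu h
  obtain ⟨q, hq⟩ := exists_smul_of_br hu hx
  refine L.semiregular e x he (L.v_inj _ _ ?_)
  rw [hp, hq, br_smul_left, br_smul_right, br_self, mul_zero, mul_zero]

/-- The trace. -/
def tr (e : E) : F := (L.M e (1, 0)).1 + (L.M e (0, 1)).2

theorem M_linear {e : E} (he : L.τ e = 1) (l : F) (w : F × F) :
    L.M e (l • w) = l • L.M e w := by rw [L.M_smul, he]; rfl

theorem M_eval {e : E} (he : L.τ e = 1) (w : F × F) :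
    L.M e w = w.1 • L.M e (1, 0) + w.2 • L.M e (0, 1) := by
  rw [← L.M_linear he, ← L.M_linear he, ← map_add]
  congr 1
  simp

theorem cayley {e : E} (he : L.τ e = 1) (w : F × F) :
    L.M e (L.M e w) = L.tr e • L.M e w + w := by
  have hd : br (L.M e (1, 0)) (L.M e (0, 1)) = 1 := by rw [L.M_br, he]; simp [br]
  simp only [br] at hd
  rw [L.M_eval he (L.M e w), L.M_eval he w]
  simp only [tr]
  apply Prod.ext
  · simp only [Prod.fst_add, Prod.snd_add, Prod.smul_fst, Prod.smul_snd, smul_eq_mul]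
    linear_combination w.1 * hd - w.1 * ((L.M e (1, 0)).1 * (L.M e (0, 1)).2) * (two_eq_zero' (F := F))
  · simp only [Prod.fst_add, Prod.snd_add, Prod.smul_fst, Prod.smul_snd, smul_eq_mul]
    linear_combination w.2 * hd - w.2 * ((L.M e (1, 0)).1 * (L.M e (0, 1)).2) * (two_eq_zero' (F := F))

variable (hE : Odd (Nat.card E))

include hE in
theorem tr_ne {e : E} (he : L.τ e = 1) (h1 : e ≠ 1) : L.tr e ≠ 0 := by
  intro h0
  have hM : ∀ w, L.M (e * e) w = w := fun w => by
    rw [L.M_mul, L.cayley he, h0, zero_smul, zero_add]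
  have h2 : e * e = 1 := L.act_inj (Equiv.ext fun x => L.v_injective (by
    rw [map_one, Equiv.Perm.one_apply, ← L.M_v, hM]))
  have ho : Odd (orderOf e) := hE.of_dvd_nat (orderOf_dvd_natCard e)
  have hd : orderOf e ∣ 2 := orderOf_dvd_of_pow_eq_one (by rw [pow_two, h2])
  rcases (Nat.dvd_prime Nat.prime_two).1 hd with h | h
  · exact h1 (orderOf_eq_one_iff.1 h)
  · rw [h] at ho; exact absurd ho (by decide)

/-- The form fixed by a linear element. -/
noncomputable def Qf (e : E) (w : F × F) : F := br w (L.M e w) / L.tr e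

include hE in
theorem isForm_Qf {e : E} (he : L.τ e = 1) (h1 : e ≠ 1) : IsForm (L.Qf e) := by
  have ht := L.tr_ne hE he h1
  refine ⟨fun l w => ?_, fun w z => ?_, fun w h => ?_⟩
  · simp only [Qf, L.M_linear he, br_smul_left, br_smul_right]; ring
  · have h2 : br z (L.M e w) = br w (L.M e z) + L.tr e * br w z := by
      have h3 := L.M_br e z (L.M e w)
      rw [L.cayley he, br_add_right, br_smul_right, he, RingAut.one_apply, L.M_br, he,
        RingAut.one_apply, br_comm (L.M e z) w, br_comm z w] at h3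
      linear_combination -h3
    simp only [Qf, map_add, br_add_left, br_add_right]
    field_simp
    linear_combination h2 + br w (L.M e z) * (two_eq_zero' (F := F))
  · by_contra hw
    obtain ⟨c, hc⟩ := exists_smul_of_br hw ((div_eq_zero_iff.1 h).resolve_right ht)
    exact h1 (L.eq_one_of_line he hw hc)

include hE in
theorem form_unique {e : E} (he : L.τ e = 1) (h1 : e ≠ 1) {p q : F × F → F}
    (hp : IsForm p) (hq : IsForm q) (hpe : ∀ w, p (L.M e w) = p w)
    (hqe : ∀ w, q (L.M e w) = q w) : p = q := by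
  have hinj : Function.Injective fun w => L.M e w + w := fun w z h => by
    by_contra hne
    have hd : L.M e (w - z) = w - z := by
      rw [map_sub]
      calc L.M e w - L.M e z = (L.M e w + w) - (L.M e z + z) - (w - z) := by abel
        _ = - (w - z) := by simp only at h; rw [h]; abel
        _ = w - z := by
          apply Prod.ext <;> simp [CharTwo.sub_eq_add, add_comm]
    exact h1 (L.eq_one_of_line he (sub_ne_zero.2 hne) (c := 1) (by rw [hd, one_smul]))
  funext u
  obtain ⟨w, hw⟩ := Finite.injective_iff_surjective.1 hinj u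
  subst hw
  rw [hp.add, hq.add, hpe, hqe, CharTwo.add_self_eq_zero, CharTwo.add_self_eq_zero]

theorem Qf_fix {e : E} (he : L.τ e = 1) (w : F × F) : L.Qf e (L.M e w) = L.Qf e w := by
  rw [Qf, Qf, L.M_br, he, RingAut.one_apply]

include hE in
/-- All nontrivial elements of `W₀` fix the same form. -/
theorem exists_form_of_ne (x₀ : B) (hne : L.W₀ x₀ ≠ ⊥) : ∃ qf : F × F → F, IsForm qf ∧
    ∀ e ∈ L.W₀ x₀, ∀ w, qf (L.M e w) = qf w := by
  classical
  set W := L.W₀ x₀ with hW
  have hτ : ∀ e ∈ W, L.τ e = 1 := fun e he => ((L.mem_W₀ x₀).1 he).1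
  let S : Set (F × F → F) := {f | ∃ e ∈ W, e ≠ 1 ∧ f = L.Qf e}
  have hfix : ∀ g ∈ W, g ≠ 1 → ∀ f ∈ S, (∀ w, f (L.M g w) = f w) → f = L.Qf g := by
    rintro g hg hg1 f ⟨e, he, he1, rfl⟩ h
    exact L.form_unique hE (hτ g hg) hg1 (L.isForm_Qf hE (hτ e he) he1)
      (L.isForm_Qf hE (hτ g hg) hg1) h (L.Qf_fix (hτ g hg))
  have hclosed : ∀ g ∈ W, ∀ f ∈ S, (fun w => f (L.M g⁻¹ w)) ∈ S := by
    rintro g hg f ⟨e, he, he1, rfl⟩
    have hmem : g * e * g⁻¹ ∈ W := W.mul_mem (W.mul_mem hg he) (W.inv_mem hg)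
    have hne' : g * e * g⁻¹ ≠ 1 := by simpa [mul_inv_eq_one] using he1
    refine ⟨g * e * g⁻¹, hmem, hne',
      L.form_unique hE (hτ _ hmem) hne' ?_ (L.isForm_Qf hE (hτ _ hmem) hne') ?_
        (L.Qf_fix (hτ _ hmem))⟩
    · have hQ := L.isForm_Qf hE (hτ e he) he1
      refine ⟨fun l w => ?_, fun w z => ?_, fun w h => ?_⟩
      · rw [L.M_linear (hτ _ (W.inv_mem hg)), hQ.smul]
      · rw [map_add, hQ.add, L.M_br, hτ _ (W.inv_mem hg), RingAut.one_apply]
      · exact L.M_injective g⁻¹ ((hQ.aniso _ h).trans (map_zero _).symm)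
    · intro w
      simp only [← L.M_mul]
      rw [show g⁻¹ * (g * e * g⁻¹) = e * g⁻¹ by group, L.M_mul, L.Qf_fix (hτ e he)]
  letI : MulAction W S :=
    { smul := fun g f => ⟨fun w => f.1 (L.M (g : E)⁻¹ w), hclosed g g.2 f.1 f.2⟩
      one_smul := fun f => Subtype.ext (funext fun w => by
        show f.1 (L.M ((1 : W) : E)⁻¹ w) = _
        simp)
      mul_smul := fun g g' f => Subtype.ext (funext fun w => by
        show f.1 (L.M ((g * g' : W) : E)⁻¹ w) = f.1 (L.M (g' : E)⁻¹ (L.M (g : E)⁻¹ w))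
        rw [Subgroup.coe_mul, mul_inv_rev, L.M_mul]) }
  haveI : Finite (F × F → F) := inferInstance
  haveI := Fintype.ofFinite S
  haveI := Fintype.ofFinite W
  haveI := Fintype.ofFinite (MulAction.orbitRel.Quotient W S)
  have hfix1 : ∀ g : W, g ≠ 1 → Fintype.card (MulAction.fixedBy S g) = 1 := by
    intro g hg
    have hg1 : (g : E) ≠ 1 := fun h => hg (Subtype.ext h)
    rw [Fintype.card_eq_one_iff]
    refine ⟨⟨⟨L.Qf g, g, g.2, hg1, rfl⟩, Subtype.ext (funext fun w => ?_)⟩, fun ⟨f, hf⟩ => ?_⟩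
    · show L.Qf g (L.M (g : E)⁻¹ w) = L.Qf g w
      conv_rhs => rw [show w = L.M g (L.M (g : E)⁻¹ w) by rw [← L.M_mul, mul_inv_cancel, M_one]]
      rw [L.Qf_fix (hτ _ g.2)]
    · refine Subtype.ext (Subtype.ext (hfix g g.2 hg1 f.1 f.2 fun w => ?_))
      have h := congrFun (congrArg Subtype.val (hf : g • f = f)) (L.M g w)
      change f.1 (L.M (g : E)⁻¹ (L.M g w)) = f.1 (L.M g w) at h
      rw [← L.M_mul, inv_mul_cancel, M_one] at h
      exact h.symm
  have hb := MulAction.sum_card_fixedBy_eq_card_orbits_mul_card_group W S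
  rw [← Finset.add_sum_erase _ _ (Finset.mem_univ (1 : W)),
    Finset.sum_congr rfl (fun g hg => hfix1 g (Finset.ne_of_mem_erase hg))] at hb
  simp only [Finset.sum_const, smul_eq_mul, mul_one, Finset.card_erase_of_mem (Finset.mem_univ _),
    Finset.card_univ, MulAction.fixedBy_one_eq_univ, Fintype.card_setUniv] at hb
  -- every point is fixed by at least two nontrivial elements
  let T : Finset W := Finset.univ.erase 1
  have hpt : ∀ g : W, g ∈ T → ∃ f : S, g • f = f ∧ f.1 = L.Qf g := by
    intro g hg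
    obtain ⟨⟨f, hf⟩, -⟩ := Fintype.card_eq_one_iff.1 (hfix1 g (Finset.ne_of_mem_erase hg))
    have hg1 : (g : E) ≠ 1 := fun h => Finset.ne_of_mem_erase hg (Subtype.ext h)
    refine ⟨f, hf, hfix g g.2 hg1 f.1 f.2 fun w => ?_⟩
    have h := congrFun (congrArg Subtype.val (hf : g • f = f)) (L.M g w)
    change f.1 (L.M (g : E)⁻¹ (L.M g w)) = f.1 (L.M g w) at h
    rw [← L.M_mul, inv_mul_cancel, M_one] at h
    exact h.symm
  have h2S : 2 * Fintype.card S ≤ Fintype.card W - 1 := by
    have hmaps : ∀ g ∈ T, L.Qf (g : E) ∈ (Finset.univ : Finset S).map ⟨Subtype.val, Subtype.val_injective⟩ := by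
      intro g hg
      obtain ⟨f, -, hf⟩ := hpt g hg
      exact Finset.mem_map.2 ⟨f, Finset.mem_univ _, hf⟩
    have hfib : ∀ f ∈ (Finset.univ : Finset S).map ⟨Subtype.val, Subtype.val_injective⟩,
        2 ≤ (T.filter fun g : W => L.Qf (g : E) = f).card := by
      intro f hf
      obtain ⟨⟨f, e, he, he1, rfl⟩, -, rfl⟩ := Finset.mem_map.1 hf
      have hne1 : (⟨e, he⟩ : W) ≠ 1 := fun h => he1 (congrArg Subtype.val h)
      have hi1 : e⁻¹ ≠ 1 := inv_ne_one.2 he1
      have hQ : L.Qf e⁻¹ = L.Qf e := by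
        refine L.form_unique hE (hτ e he) he1 (L.isForm_Qf hE (hτ _ (W.inv_mem he)) hi1)
          (L.isForm_Qf hE (hτ e he) he1) (fun w => ?_) (L.Qf_fix (hτ e he))
        have h := L.Qf_fix (hτ _ (W.inv_mem he)) (L.M e w)
        rw [← L.M_mul, inv_mul_cancel, M_one] at h
        exact h.symm
      have hei : (⟨e, he⟩ : W) ≠ ⟨e⁻¹, W.inv_mem he⟩ := by
        intro h
        have h' : e * e = 1 := mul_eq_one_iff_eq_inv.2 (congrArg Subtype.val h)
        have hd : orderOf e ∣ 2 := orderOf_dvd_of_pow_eq_one (by rw [pow_two, h'])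
        rcases (Nat.dvd_prime Nat.prime_two).1 hd with h'' | h''
        · exact he1 (orderOf_eq_one_iff.1 h'')
        · have := hE.of_dvd_nat (orderOf_dvd_natCard e)
          rw [h''] at this
          exact absurd this (by decide)
      rw [← Finset.card_pair hei]
      refine Finset.card_le_card fun g hg => ?_
      rw [Finset.mem_insert, Finset.mem_singleton] at hg
      rcases hg with rfl | rfl
      · exact Finset.mem_filter.2 ⟨Finset.mem_erase.2 ⟨hne1, Finset.mem_univ _⟩, rfl⟩
      · exact Finset.mem_filter.2 ⟨Finset.mem_erase.2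
          ⟨fun h => hi1 (congrArg Subtype.val h), Finset.mem_univ _⟩, hQ⟩
    have h := Finset.card_eq_sum_card_fiberwise hmaps
    have h' := Finset.sum_le_sum hfib
    rw [Finset.sum_const, smul_eq_mul, Finset.card_map, Finset.card_univ, ← h] at h'
    have hT : T.card = Fintype.card W - 1 := by
      rw [Finset.card_erase_of_mem (Finset.mem_univ _), Finset.card_univ]
    rw [hT] at h'
    exact (mul_comm 2 (Fintype.card S)).le.trans h'
  have hWpos : 0 < Fintype.card W := Fintype.card_pos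
  replace hb : Fintype.card S + (Fintype.card W - 1) =
      Fintype.card (MulAction.orbitRel.Quotient W S) * Fintype.card W := hb
  have hk : Fintype.card (MulAction.orbitRel.Quotient W S) = 1 := by
    rcases Nat.lt_or_ge (Fintype.card (MulAction.orbitRel.Quotient W S)) 2 with h | h
    · rcases Nat.lt_or_ge (Fintype.card (MulAction.orbitRel.Quotient W S)) 1 with h0 | h0
      · interval_cases hh : Fintype.card (MulAction.orbitRel.Quotient W S)
        obtain ⟨e, he, he1⟩ := (Subgroup.bot_or_exists_ne_one W).resolve_left hne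
        haveI : Nonempty (MulAction.orbitRel.Quotient W S) := ⟨Quotient.mk'' ⟨L.Qf e, e, he, he1, rfl⟩⟩
        exact absurd hh Fintype.card_ne_zero
      · omega
    · have := Nat.mul_le_mul_right (Fintype.card W) h
      omega
  rw [hk, one_mul] at hb
  obtain ⟨⟨f, hf⟩, hall⟩ := Fintype.card_eq_one_iff.1 (show Fintype.card S = 1 by omega)
  obtain ⟨e, he, he1, rfl⟩ := hf
  refine ⟨_, L.isForm_Qf hE (hτ e he) he1, fun g hg w => ?_⟩
  by_cases hg1 : g = 1
  · rw [hg1, M_one]
  rw [show L.Qf e = L.Qf g from (congrArg Subtype.val (hall ⟨L.Qf g, g, hg, hg1, rfl⟩)).symm]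
  exact L.Qf_fix (hτ g hg) w

theorem step {qf : F × F → F} (hq : IsForm qf) {x y : B} (h : x ≠ y) :
    qf (L.v y) * qf (L.v (L.nb y x)) / br (L.v y) (L.v (L.nb y x)) ^ 2 =
      qf (L.v x) * qf (L.v y) / br (L.v x) (L.v y) ^ 2 + qf (L.v y) ^ 2 + qf (L.v y) := by
  have ha := L.br_v_ne h
  have ha' := L.br_v_ne (L.nb_ne h).symm
  nth_rw 1 [L.recur h]
  rw [hq.add, hq.smul, hq.smul, br_smul_left, br_smul_right]
  field_simp

include hE in
/-- A form fixed by the linear level preserving elements is one at all point vectors. -/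
theorem form_eq_one (x₀ : B) (hne : L.W₀ x₀ ≠ ⊥) {qf : F × F → F} (hq : IsForm qf)
    (hinv : ∀ e ∈ L.W₀ x₀, ∀ w, qf (L.M e w) = qf w) (y : B) : qf (L.v y) = 1 := by
  classical
  haveI : Finite B := Finite.of_injective L.v L.v_injective
  haveI := Fintype.ofFinite B
  let P : F → Prop := fun s => s * s = s
  have hP0 : P 0 := mul_zero 0
  have hP1 : P 1 := mul_one 1
  have hPadd : ∀ s u, P s → P u → P (s + u) := fun s u hs hu => by
    simp only [P] at hs hu ⊢
    linear_combination hs + hu + s * u * (two_eq_zero' (F := F))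
  have tri : ∀ x y : B, x ≠ y → L.φ x₀ y = L.φ x₀ x →
      P (qf (L.v x) + qf (L.v y) + qf (L.v (L.nb y x))) := by
    intro x y h hl
    have hA := L.A_mem_W₀ x₀ h hl
    have hτ := ((L.mem_W₀ x₀).1 hA).1
    have h2 := (L.nb_ne h).symm
    have h3 := (L.nb_ne h2).symm
    have e0 : L.v (L.nb (L.nb y x) y) = L.M (L.A x y) (L.v x) := by rw [L.M_v, L.A_fst x y h]
    have e1 : L.v (L.nb (L.nb (L.nb y x) y) (L.nb y x)) = L.M (L.A x y) (L.v y) := by
      rw [L.M_v, L.A_snd x y h]
    have s1 := L.step hq h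
    have s2 := L.step hq h2
    have s3 := L.step hq h3
    rw [e0] at s2 s3
    rw [e1, L.M_br, hτ, RingAut.one_apply] at s3
    rw [hinv _ hA] at s2 s3
    rw [hinv _ hA] at s3
    simp only [P]
    linear_combination -s1 - s2 - s3 +
      (qf (L.v x) * qf (L.v y) + qf (L.v x) * qf (L.v (L.nb y x)) +
        qf (L.v y) * qf (L.v (L.nb y x)) - qf (L.v x) - qf (L.v y) - qf (L.v (L.nb y x))) *
          (two_eq_zero' (F := F))
  suffices hy : P (qf (L.v y)) by
    rcases mul_eq_zero.1 (show qf (L.v y) * (qf (L.v y) - 1) = 0 by linear_combination hy) with h | h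
    · exact absurd (hq.aniso _ h) (L.v_ne y)
    · exact sub_eq_zero.1 h
  by_contra hd
  set d := qf (L.v y) with hd'
  let lev : Finset B := Finset.univ.filter fun x => L.φ x₀ x = L.φ x₀ y
  let N₀ : Finset B := lev.filter fun x => P (qf (L.v x))
  let N₁ : Finset B := lev.filter fun x => P (qf (L.v x) + d)
  have hy1 : y ∈ N₁ := by
    simp only [N₁, lev, Finset.mem_filter, Finset.mem_univ, true_and]
    rw [← hd', CharTwo.add_self_eq_zero]
    exact hP0
  have hlev : ∀ x : B, x ≠ y → L.φ x₀ x = L.φ x₀ y → L.φ x₀ (L.nb y x) = L.φ x₀ y :=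
    fun x h hx => L.φ_nb_eq x₀ h hx.symm
  have hcard : N₀.card + 1 = N₁.card := by
    rw [← Finset.card_erase_add_one hy1]
    congr 1
    refine Finset.card_bij' (fun x _ => L.nb y x) (fun x _ => L.nb y x) ?_ ?_ ?_ ?_
    · intro x hx
      simp only [N₀, lev, Finset.mem_filter, Finset.mem_univ, true_and] at hx
      have hxy : x ≠ y := fun h => hd (by rw [hd', ← h]; exact hx.2)
      simp only [N₁, lev, Finset.mem_erase, Finset.mem_filter, Finset.mem_univ, true_and]
      refine ⟨L.nb_ne hxy, hlev x hxy hx.1, ?_⟩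
      have h := hPadd _ _ (tri x y hxy hx.1.symm) hx.2
      rwa [show qf (L.v x) + qf (L.v y) + qf (L.v (L.nb y x)) + qf (L.v x) =
        qf (L.v (L.nb y x)) + d by
          rw [hd']; linear_combination qf (L.v x) * (two_eq_zero' (F := F))] at h
    · intro x hx
      simp only [N₁, lev, Finset.mem_erase, Finset.mem_filter, Finset.mem_univ, true_and] at hx
      simp only [N₀, lev, Finset.mem_filter, Finset.mem_univ, true_and]
      refine ⟨hlev x hx.1 hx.2.1, ?_⟩
      have h := hPadd _ _ (tri x y hx.1 hx.2.1.symm) hx.2.2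
      rwa [show qf (L.v x) + qf (L.v y) + qf (L.v (L.nb y x)) + (qf (L.v x) + d) =
        qf (L.v (L.nb y x)) by
          rw [hd']; linear_combination (qf (L.v x) + qf (L.v y)) * (two_eq_zero' (F := F))] at h
    · intro x hx
      simp only [N₀, lev, Finset.mem_filter, Finset.mem_univ, true_and] at hx
      exact L.nb_nb fun h => hd (by rw [hd', ← h]; exact hx.2)
    · intro x hx
      exact L.nb_nb (Finset.mem_erase.1 hx).1
  letI : MulAction (L.W₀ x₀) B := MulAction.compHom B (L.act.comp (L.W₀ x₀).subtype)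
  have hdvd : ∀ N : Finset B, (∀ e ∈ L.W₀ x₀, ∀ x ∈ N, L.act e x ∈ N) →
      Nat.card (L.W₀ x₀) ∣ N.card := by
    intro N hN
    letI : MulAction (L.W₀ x₀) N :=
      { smul := fun e x => ⟨L.act e x, hN e e.2 x x.2⟩
        one_smul := fun x => Subtype.ext (by show L.act ((1 : L.W₀ x₀) : E) (x : B) = x; simp)
        mul_smul := fun e e' x => Subtype.ext (by
          show L.act ((e * e' : L.W₀ x₀) : E) (x : B) = L.act e (L.act e' x)
          simp) }
    haveI := Fintype.ofFinite (MulAction.orbitRel.Quotient (L.W₀ x₀) N)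
    have hstab : ∀ x : N, MulAction.stabilizer (L.W₀ x₀) x = ⊥ := fun x =>
      (Subgroup.eq_bot_iff_forall _).2 fun e he => Subtype.ext (L.semiregular e x
        ((L.mem_W₀ x₀).1 e.2).1 (congrArg Subtype.val he))
    rw [← Fintype.card_coe, ← Nat.card_eq_fintype_card,
      Nat.card_congr (MulAction.selfEquivSigmaOrbitsQuotientStabilizer (L.W₀ x₀) N), Nat.card_sigma]
    refine Finset.dvd_sum fun q _ => ?_
    rw [hstab, ← Subgroup.index, Subgroup.index_bot]
  have h0 : Nat.card (L.W₀ x₀) ∣ N₀.card := hdvd _ fun e he x hx => by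
    simp only [N₀, lev, Finset.mem_filter, Finset.mem_univ, true_and] at hx ⊢
    rw [L.φ_act_W₀ x₀ he, ← L.M_v, hinv e he]; exact hx
  have h1 : Nat.card (L.W₀ x₀) ∣ N₁.card := hdvd _ fun e he x hx => by
    simp only [N₁, lev, Finset.mem_filter, Finset.mem_univ, true_and] at hx ⊢
    rw [L.φ_act_W₀ x₀ he, ← L.M_v, hinv e he]; exact hx
  rw [← hcard] at h1
  exact hne (Subgroup.card_eq_one.1 (Nat.dvd_one.1 ((Nat.dvd_add_right h0).1 h1)))

end Line

end CfsgLib.Recog.RankOneSuzuki
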