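import Cfsg.Agent.Recog.RankOneSuzuki.Theta
import Cfsg.Agent.Recog.RankOneSuzuki.NuForm

/-!
# Suzuki's rank one theorem: multiplication in coordinates

Once all two-point components are linear on the block, the coordinate of a product of two elements
of `Q` with independent first points is a function of the two coordinates and of the function `cc`.
-/

set_option autoImplicit false
set_option linter.unusedSectionVars false
set_option linter.style.haveILetI false

namespace CfsgLib.Recog.RankOneSuzuki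

open MulAction CfsgLib.Recog.RankOne

section Coord

variable {F : Type} [Field F] [CharP F 2]

local notation "SL₂" => Matrix.SpecialLinearGroup (Fin 2) F

/-- The coordinate of `f⁻¹`. -/
def xiC (cc : SL₂ → F) (l : SL₂) : SL₂ := swp * (uni (cc l) * l)

/-- The coordinate of the conjugate of `f`. -/
def gC (cc : SL₂ → F) (l : SL₂) : SL₂ := swp * (uni (cc (swp * l)) * (swp * l))

/-- The coordinate of the product for the basic pairs. -/
def baseC (cc : SL₂ → F) (l : SL₂) (d : F) : SL₂ :=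
  swp * (uni (cc (xiC cc l) / cc (gC cc l) * d⁻¹) * (swp * l))

/-- The lower left entry. -/
def lowC (l L : SL₂) : F := (app (L * l⁻¹) (1, 0)).2

/-- The coordinate of the product. -/
def mulC (cc : SL₂ → F) (l L : SL₂) : SL₂ :=
  uni (((app (L * l⁻¹) (0, 1)).2 + 1) / lowC l L + cc l +
      ((app (L * l⁻¹) (1, 0)).1 + 1) / lowC l L) *
    baseC cc (uni (((app (L * l⁻¹) (0, 1)).2 + 1) / lowC l L + cc l) * l) (lowC l L)

theorem lowC_eq (l L : SL₂) : lowC l L = br (app L⁻¹ (1, 0)) (app l⁻¹ (1, 0)) := by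
  rw [← br_app L, app_app_inv, ← app_mul]
  simp [br, lowC]

theorem decomp_lower (g : SL₂) (h : (app g (1, 0)).2 ≠ 0) :
    g = uni (((app g (1, 0)).1 + 1) / (app g (1, 0)).2) *
      (swp * (uni (app g (1, 0)).2 * (swp * uni (((app g (0, 1)).2 + 1) / (app g (1, 0)).2)))) := by
  have hb := br_app g ((1, 0) : F × F) (0, 1)
  have two : (2 : F) = 0 := CharTwo.two_eq_zero
  set p := app g ((1, 0) : F × F) with hp
  set q := app g ((0, 1) : F × F) with hq
  simp only [br, mul_one, mul_zero, zero_mul, add_zero] at hb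
  refine ext_app ?_ ?_
  · rw [← hp]
    simp [app_mul, app_uni, app_swp]
    refine Prod.ext ?_ ?_
    · show p.1 = 1 + (p.1 + 1) / p.2 * p.2
      rw [div_mul_cancel₀ _ h, ← add_assoc, add_comm (1 : F), add_assoc, CharTwo.add_self_eq_zero,
        add_zero]
    · rfl
  · rw [← hq]
    simp [app_mul, app_uni, app_swp]
    refine Prod.ext ?_ ?_
    · show q.1 = _
      field_simp
      linear_combination hb - (p.1 * q.2 + q.2 + p.1 + 1) * two
    · show q.2 = _
      field_simp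
      linear_combination -two

end Coord

variable {G Ω : Type*} [Group G] [MulAction G Ω] {a : Ω} {t : G} {Q : Subgroup G}

local notation "D[" a "," t "]" => stabilizer G a ⊓ stabilizer G (t • a)

namespace Chart

variable {S : Data a t Q} {F : Type} [Field F] [CharP F 2] (C : Chart S F)

local notation "SL₂" => Matrix.SpecialLinearGroup (Fin 2) F

/-- A linear two-point element acts on the matrices by a diagonal conjugation. -/
theorem exists_dia {γ : C.GB} (hγ : (γ : G) ∈ D[a, t]) (hτ : C.τB γ = 1) :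
    ∃ (m : F) (hm : m ≠ 0), ∀ g : SL₂, (γ : G) * C.X.el g * (γ : G)⁻¹ =
      C.X.el (dia m hm * g * (dia m hm)⁻¹) := by
  have h1 : br (C.MB γ (1, 0)) (1, 0) = 0 := by
    refine (C.X.P_eq _ _ (C.MB_ne γ e1_ne) e1_ne).1 ?_
    rw [← C.MB_P γ e1_ne, C.X.P_a]
    exact hγ.1
  have h2 : br (C.MB γ (0, 1)) (0, 1) = 0 := by
    refine (C.X.P_eq _ _ (C.MB_ne γ e2_ne) e2_ne).1 ?_
    rw [← C.MB_P γ e2_ne, C.X.P_b]
    exact hγ.2
  have hb := C.MB_br γ (1, 0) (0, 1)
  rw [hτ] at hb
  set p := C.MB γ (1, 0) with hp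
  set q := C.MB γ (0, 1) with hq
  simp only [br, mul_one, mul_zero, zero_mul, add_zero, zero_add] at h1 h2 hb
  rw [h1, h2, zero_mul, add_zero] at hb
  have hb' : p.1 * q.2 = 1 := hb
  have hm : p.1 ≠ 0 := fun h => one_ne_zero (α := F) (by rw [← hb', h, zero_mul])
  have hq2 : q.2 = p.1⁻¹ := eq_inv_of_mul_eq_one_right hb'
  have hM : ∀ w, C.MB γ w = app (dia p.1 hm) w := by
    intro w
    conv_lhs => rw [decomp_basis w]
    rw [map_add, C.MB_smul, C.MB_smul, hτ, ← hp, ← hq, app_dia]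
    show w.1 • p + w.2 • q = _
    refine Prod.ext ?_ ?_
    · simp [h2, mul_comm]
    · simp [h1, hq2, mul_comm]
  refine ⟨p.1, hm, fun g => ?_⟩
  obtain ⟨g', hg', hg''⟩ := C.MB_conj γ g
  rw [hg']
  congr 1
  rw [eq_mul_inv_iff_mul_eq]
  exact ext_app (by rw [app_mul, app_mul, ← hM, hg'', hM]) (by rw [app_mul, app_mul, ← hM, hg'', hM])

variable [Finite F] [Finite G]

theorem yy_of_smul {y : G} (hy : y ∈ Q) {L : SL₂} (h : y • t • a = C.X.el L • C.c) : C.yy L = y := by
  have hyZ : y ∉ S.Z := fun hz => C.off_el L (by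
    rw [← h, ← C.el_zc hz]; exact C.onB_el C.onB_b)
  exact C.yy_eq hy hyZ (C.ell_eq hy hyZ h.symm)

theorem smul_b_yy (L : SL₂) : C.yy L • t • a = C.X.el L • C.c := by
  have := C.el_ell (C.yy_mem L) (C.yy_not_mem L)
  rw [C.ell_yy] at this
  exact this.symm

theorem product_base (hθ : ∀ l, C.θ l = 1) (l : SL₂) {d : F} (hd : d ≠ 0) :
    C.yy l * C.yy (swp * (uni d * xiC C.cc l)) = C.yy (baseC C.cc l d) := by
  set γ := t * C.hh l * t with hγdef
  have hγ : γ ∈ D[a, t] := t_norm S.setup _ (C.hh_mem l)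
  have hγτ : C.τB ⟨γ, C.D_le_GB hγ⟩ = 1 := by
    rw [← C.τD_eq, hγdef, C.τD_tdt (C.D_le_GB (C.hh_mem l))]
    exact hθ l
  obtain ⟨m, hm, hconj⟩ := C.exists_dia (γ := ⟨γ, C.D_le_GB hγ⟩) hγ hγτ
  simp only at hconj
  have hhe : C.hh l = C.X.el swp * γ * C.X.el swp := by
    rw [C.el_swp, hγdef]; simp [mul_assoc, S.tt, S.tt_cancel]
  have hyξ : C.yy (xiC C.cc l) = (C.ff l)⁻¹ := by rw [xiC, ← C.gg_eq, (C.decomp_inv l).1]
  -- the multiplier
  have hmm : C.cc (gC C.cc l) = m * m * C.cc (xiC C.cc l) := by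
    have hyγ : C.yy (uni (C.cc (gC C.cc l)) * gC C.cc l) = γ * C.yy (xiC C.cc l) * γ⁻¹ := by
      rw [C.yy_inv, gC, ← C.gg_eq, (C.decomp_inv (swp * l)).1, (C.decomp_swp l).2, hyξ, inv_inv,
        hγdef]
      simp [mul_assoc, S.ti]
    have h1 := C.el_cc (uni (C.cc (gC C.cc l)) * gC C.cc l)
    rw [C.cc_uni, hyγ, show ∀ k y : G, k * y * k⁻¹ * (k * y * k⁻¹) = k * (y * y) * k⁻¹ from
      fun k y => by group, ← C.el_cc, hconj, dia_uni] at h1
    exact uni_injective (C.X.el_inj h1)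
  have hh2 : C.hh l * C.X.el (uni d⁻¹) * (C.hh l)⁻¹ =
      C.X.el (uni (C.cc (xiC C.cc l) / C.cc (gC C.cc l) * d⁻¹)) := by
    have hsi : (C.X.el (swp : SL₂))⁻¹ = C.X.el swp := by rw [C.el_swp, S.ti]
    rw [hhe, mul_inv_rev, mul_inv_rev, hsi,
      show C.X.el swp * γ * C.X.el swp * C.X.el (uni d⁻¹) * (C.X.el swp * (γ⁻¹ * C.X.el swp)) =
        C.X.el swp * (γ * (C.X.el swp * C.X.el (uni d⁻¹) * C.X.el swp) * γ⁻¹) * C.X.el swp by
          simp only [mul_assoc],
      ← map_mul, ← map_mul, hconj, ← map_mul, ← map_mul]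
    congr 1
    have hc0 : C.cc (xiC C.cc l) ≠ 0 := C.cc_ne _
    rw [hmm]
    refine ext_app ?_ ?_
    · simp [app_mul, app_uni, app_swp, app_dia,
        show (dia m hm)⁻¹ = dia m⁻¹ (inv_ne_zero hm) from inv_eq_of_mul_eq_one_right
          (ext_app (by simp [app_mul, app_dia, app_one, hm]) (by simp [app_mul, app_dia, app_one, hm]))]
      field_simp
    · simp [app_mul, app_uni, app_swp, app_dia,
        show (dia m hm)⁻¹ = dia m⁻¹ (inv_ne_zero hm) from inv_eq_of_mul_eq_one_right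
          (ext_app (by simp [app_mul, app_dia, app_one, hm]) (by simp [app_mul, app_dia, app_one, hm]))]
      field_simp
      simp
  refine (C.yy_of_smul (Q.mul_mem (C.yy_mem l) (C.yy_mem _)) ?_).symm
  have hη : C.yy (swp * (uni d * xiC C.cc l)) • t • a =
      t • (C.ff l)⁻¹ • C.X.el (uni d) • t • a := by
    rw [← C.gg_eq, C.g_smul (C.hh_mem _) (C.ff_mem _) (C.decomp_yy _), C.yy_uni, hyξ,
      S.central _ (C.el_uni_mem d) _ (Q.inv_mem (C.ff_mem l)), mul_smul]
  have hw : C.yy l * t * (C.ff l)⁻¹ = t * (C.gg l * C.hh l) * t := by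
    rw [show C.yy l * t * (C.ff l)⁻¹ = t * (t * C.yy l * t) * (C.ff l)⁻¹ by
      simp [mul_assoc, S.tt_cancel], C.decomp_yy]
    group
  have htz : t • C.X.el (uni d) • t • a = C.X.el (uni d⁻¹) • t • a := by
    have h0 : ∀ (g : SL₂), C.X.el g • t • a = C.X.P (app g (0, 1)) := fun g => by
      rw [← C.X.el_P g _ e2_ne, C.X.P_b]
    calc t • C.X.el (uni d) • t • a = C.X.el swp • C.X.el (uni d) • t • a := by rw [C.el_swp]
      _ = C.X.P (app (swp * uni d) (0, 1)) := by rw [← mul_smul, ← map_mul, h0]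
      _ = C.X.P (app (uni d⁻¹) (0, 1)) := (C.X.P_eq _ _ (app_ne_zero _ e2_ne) (app_ne_zero _ e2_ne)).2 (by
          simp [app_mul, app_swp, app_uni, br]
          field_simp
          exact CharTwo.add_self_eq_zero _)
      _ = _ := (h0 _).symm
  have hgb : C.gg l • t • a = C.X.el (swp * l) • C.c := by
    rw [C.gg_eq]; exact C.smul_b_yy _
  calc (C.yy l * C.yy (swp * (uni d * xiC C.cc l))) • t • a
      = C.yy l • t • (C.ff l)⁻¹ • C.X.el (uni d) • t • a := by rw [mul_smul, hη]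
    _ = (C.yy l * t * (C.ff l)⁻¹) • C.X.el (uni d) • t • a := by simp only [mul_smul]
    _ = t • C.gg l • C.hh l • (t • C.X.el (uni d) • t • a) := by rw [hw]; simp only [mul_smul]
    _ = t • C.gg l • C.hh l • C.X.el (uni d⁻¹) • t • a := by rw [htz]
    _ = t • C.gg l • (C.hh l * C.X.el (uni d⁻¹) * (C.hh l)⁻¹) • t • a := by
        rw [mul_smul, mul_smul, inv_smul_eq_iff.2 (show t • a = C.hh l • t • a from (C.hh_mem l).2.symm)]
    _ = t • C.gg l • C.X.el (uni (C.cc (xiC C.cc l) / C.cc (gC C.cc l) * d⁻¹)) • t • a := by rw [hh2]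
    _ = t • C.X.el (uni (C.cc (xiC C.cc l) / C.cc (gC C.cc l) * d⁻¹)) • C.gg l • t • a := by
        rw [← mul_smul (C.gg l), ← S.central _ (C.el_uni_mem _) _ (C.gg_mem l), mul_smul]
    _ = _ := by
        rw [hgb, baseC, map_mul, map_mul, map_mul, C.el_swp]
        simp only [mul_smul, map_mul, C.el_swp]

/-- The product of independent elements. -/
theorem product_eq (hθ : ∀ l, C.θ l = 1) (l L : SL₂) (h : lowC l L ≠ 0) :
    C.yy l * C.yy L = C.yy (mulC C.cc l L) := by
  set g := L * l⁻¹ with hg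
  set e := ((app g (1, 0)).1 + 1) / lowC l L with he
  set f := ((app g (0, 1)).2 + 1) / lowC l L with hf
  set l₀ := uni (f + C.cc l) * l with hl₀
  have hL : L = uni e * (swp * (uni (lowC l L) * xiC C.cc l₀)) := by
    rw [xiC, hl₀, C.cc_uni, ← mul_assoc (uni (C.cc l)), uni_mul,
      show C.cc l + (f + C.cc l) = f by
        rw [add_left_comm, CharTwo.add_self_eq_zero, add_zero]]
    conv_lhs => rw [show L = g * l by rw [hg, inv_mul_cancel_right], decomp_lower g h]
    simp only [mul_assoc]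
    rfl
  have hy : C.yy l = C.X.el (uni (f + C.cc l)) * C.yy l₀ := by
    rw [hl₀, C.yy_uni, ← mul_assoc, ← map_mul, uni_mul, CharTwo.add_self_eq_zero, uni_zero, map_one,
      one_mul]
  calc C.yy l * C.yy L = C.X.el (uni (f + C.cc l)) * C.yy l₀ *
        (C.X.el (uni e) * C.yy (swp * (uni (lowC l L) * xiC C.cc l₀))) :=
        congrArg₂ (· * ·) hy ((congrArg C.yy hL).trans (C.yy_uni _ _))
    _ = C.X.el (uni (f + C.cc l)) * (C.yy l₀ * C.X.el (uni e)) *
          C.yy (swp * (uni (lowC l L) * xiC C.cc l₀)) := by simp only [mul_assoc]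
    _ = C.X.el (uni (f + C.cc l)) * (C.X.el (uni e) * C.yy l₀) *
          C.yy (swp * (uni (lowC l L) * xiC C.cc l₀)) := by
        rw [S.central _ (C.el_uni_mem e) _ (C.yy_mem l₀)]
    _ = C.X.el (uni (f + C.cc l)) * C.X.el (uni e) *
          (C.yy l₀ * C.yy (swp * (uni (lowC l L) * xiC C.cc l₀))) := by simp only [mul_assoc]
    _ = C.X.el (uni (f + C.cc l + e)) * C.yy (baseC C.cc l₀ (lowC l L)) := by
        rw [C.product_base hθ l₀ h, ← map_mul, uni_mul]
    _ = _ := by rw [← C.yy_uni]; rfl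

/-- The vector of a coordinate. -/
noncomputable def jv (l : SL₂) : F × F := C.cc l • app l⁻¹ (1, 0)

theorem jv_uni (d : F) (l : SL₂) : C.jv (uni d * l) = C.jv l := by
  rw [jv, jv, C.cc_uni, mul_inv_rev, app_mul, uni_inv, app_uni]
  simp

theorem jv_base {qf : F × F → F} (hq : IsForm qf)
    (hcc : ∀ l, C.cc l * qf (app l⁻¹ (1, 0)) = 1) (l : SL₂) {d : F} (hd : d ≠ 0) :
    C.jv (baseC C.cc l d) = C.jv l + C.jv (swp * (uni d * xiC C.cc l)) := by
  have hne : ∀ w : F × F, w ≠ 0 → qf w ≠ 0 := fun w hw h => hw (hq.aniso w h)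
  have hc : ∀ L, C.cc L = (qf (app L⁻¹ (1, 0)))⁻¹ := fun L => eq_inv_of_mul_eq_one_left (hcc L)
  set A := qf (app l⁻¹ (1, 0)) with hA
  set B := qf (app l⁻¹ (0, 1)) with hB
  have hA0 : A ≠ 0 := hne _ (app_ne_zero _ e1_ne)
  have hB0 : B ≠ 0 := hne _ (app_ne_zero _ e2_ne)
  have hQ : ∀ p q : F, qf (app l⁻¹ (p, q)) = p * p * A + q * q * B + p * q := by
    intro p q
    rw [show ((p, q) : F × F) = p • (1, 0) + q • (0, 1) by simp, app_add, app_smul, app_smul, hq.add,
      hq.smul, hq.smul, br_smul_left, br_smul_right, br_app]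
    simp [br, hA, hB]
  have hsi : (swp : SL₂)⁻¹ = swp := inv_eq_of_mul_eq_one_right swp_swp
  have hcl : C.cc l = A⁻¹ := hc l
  have two : (2 : F) = 0 := CharTwo.two_eq_zero
  have hξ : C.cc (xiC C.cc l) = B⁻¹ := by
    rw [hc, xiC, mul_inv_rev, mul_inv_rev, app_mul, app_mul, hsi, app_swp, uni_inv, app_uni, hQ,
      hcl]
    congr 1
    simp
    field_simp
    linear_combination two
  have hsw : C.cc (swp * l) = B⁻¹ := by
    rw [hc, mul_inv_rev, app_mul, hsi, app_swp]
  have hg : C.cc (gC C.cc l) = A⁻¹ := by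
    rw [hc, gC, mul_inv_rev, mul_inv_rev, mul_inv_rev, app_mul, app_mul, app_mul, hsi, app_swp, uni_inv, app_uni,
      app_swp, hQ, hsw]
    congr 1
    simp
    field_simp
    linear_combination two
  set Δ := A + B * d * d + d with hΔ
  have h1 : app (swp * (uni d * xiC C.cc l))⁻¹ (1, 0) = app l⁻¹ (1 + d / A, d) := by
    simp only [xiC, mul_inv_rev, app_mul, hsi, app_swp, uni_inv, app_uni, hcl]
    congr 1
    ext <;> simp <;> ring
  have h2 : app (baseC C.cc l d)⁻¹ (1, 0) = app l⁻¹ (1, A / (B * d)) := by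
    simp only [baseC, mul_inv_rev, app_mul, hsi, app_swp, uni_inv, app_uni, hξ, hg]
    congr 1
    ext <;> simp <;> field_simp
  have hΔ0 : Δ ≠ 0 := by
    have := hne (app l⁻¹ (1 + d / A, d)) (app_ne_zero _ fun h => hd (congrArg Prod.snd h))
    rw [hQ] at this
    convert this using 1
    rw [hΔ]; field_simp
    linear_combination (A * d + d * d) * -two
  have hc1 : C.cc (swp * (uni d * xiC C.cc l)) = Δ⁻¹ := by
    rw [hc, h1, hQ]
    congr 1
    rw [hΔ]; field_simp
    linear_combination (A * d + d * d) * two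
  have hc2 : C.cc (baseC C.cc l d) = B * d * d / (A * Δ) := by
    rw [hc, h2, hQ]
    rw [hΔ]; field_simp
    ring_nf
  rw [jv, jv, jv, h1, h2, hc1, hc2, hcl, ← app_smul, ← app_smul, ← app_smul, ← app_add]
  congr 1
  refine Prod.ext ?_ ?_
  · simp
    field_simp
    linear_combination -(A + d) * two
  · simp
    field_simp

theorem jv_mul {qf : F × F → F} (hq : IsForm qf) (hcc : ∀ l, C.cc l * qf (app l⁻¹ (1, 0)) = 1)
    (l L : SL₂) (h : lowC l L ≠ 0) : C.jv (mulC C.cc l L) = C.jv l + C.jv L := by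
  set g := L * l⁻¹ with hg
  have hL : L = uni (((app g (1, 0)).1 + 1) / lowC l L) *
      (swp * (uni (lowC l L) * xiC C.cc (uni (((app g (0, 1)).2 + 1) / lowC l L + C.cc l) * l))) := by
    rw [xiC, C.cc_uni, ← mul_assoc (uni (C.cc l)), uni_mul,
      show ∀ f : F, C.cc l + (f + C.cc l) = f from fun f => by
        rw [add_left_comm, CharTwo.add_self_eq_zero, add_zero]]
    conv_lhs => rw [show L = g * l by rw [hg, inv_mul_cancel_right], decomp_lower g h]
    simp only [mul_assoc]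
    rfl
  rw [mulC, C.jv_uni, C.jv_base hq hcc _ h, C.jv_uni]
  conv_rhs => rw [hL, C.jv_uni]

end Chart

end CfsgLib.Recog.RankOneSuzuki
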