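import Cfsg.Agent.Recog.RankOneSuzuki.LineData
import Cfsg.Agent.Recog.RankOneSuzuki.Product
import Cfsg.Agent.Recog.RankOneSuzuki.NuAlgebra

/-!
# Suzuki's rank one theorem: the form of a chart
-/

set_option autoImplicit false
set_option linter.unusedSectionVars false
set_option linter.style.haveILetI false

namespace CfsgLib.Recog.RankOneSuzuki

open MulAction CfsgLib.Recog.RankOne

variable {G Ω : Type*} [Group G] [MulAction G Ω] {a : Ω} {t : G} {Q : Subgroup G}

namespace Chart

variable {S : Data a t Q} {F : Type} [Field F] [CharP F 2] (C : Chart S F)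

local notation "SL₂" => Matrix.SpecialLinearGroup (Fin 2) F

theorem card_pt [Finite F] : Nat.card C.Pt = Nat.card F + 1 := by
  classical
  haveI := Fintype.ofFinite F
  let f : Option F → C.Pt := fun o =>
    match o with
    | none => ⟨C.X.P (1, 0), _, e1_ne, rfl⟩
    | some d => ⟨C.X.P (d, 1), _, (fun h => one_ne_zero (α := F) (congrArg Prod.snd h)), rfl⟩
  have hne : ∀ d : F, ((d, 1) : F × F) ≠ 0 := fun d h => one_ne_zero (α := F) (congrArg Prod.snd h)
  have hf : Function.Bijective f := by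
    constructor
    · rintro (_ | d) (_ | d') h
      · rfl
      · exact absurd ((C.X.P_eq _ _ e1_ne (hne d')).1 (congrArg Subtype.val h)) (by simp [br])
      · exact absurd ((C.X.P_eq _ _ (hne d) e1_ne).1 (congrArg Subtype.val h)) (by simp [br])
      · have := (C.X.P_eq _ _ (hne d) (hne d')).1 (congrArg Subtype.val h)
        simp [br] at this
        rw [CharTwo.add_eq_zero.1 this]
    · rintro ⟨p, w, hw, rfl⟩
      by_cases h2 : w.2 = 0
      · exact ⟨none, Subtype.ext ((C.X.P_eq _ _ e1_ne hw).2 (by simp [br, h2]))⟩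
      · refine ⟨some (w.1 / w.2), Subtype.ext ((C.X.P_eq _ _ (hne _) hw).2 ?_)⟩
        simp [br]
        field_simp
        rw [CharTwo.add_self_eq_zero]
        simp
  rw [← Nat.card_eq_of_bijective f hf, Finite.card_option]

/-- The reference point moved by a matrix. -/
def change (g : SL₂) : Chart S F where
  X := C.X
  c := C.X.el g • C.c
  c_off := fun w hw h => C.off_el g ⟨w, hw, h⟩
  regular := C.regular
  r_eq := C.r_eq
  sq_mem := C.sq_mem

variable [Finite F] [Finite G]

theorem yy_change (g l : SL₂) : (C.change g).yy l = C.yy (l * g) := by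
  refine (C.change g).yy_of_smul (C.yy_mem _) ?_
  rw [C.smul_b_yy, map_mul, mul_smul]
  rfl

theorem cc_change (g l : SL₂) : (C.change g).cc l = C.cc (l * g) := by
  have h1 := (C.change g).el_cc l
  rw [C.yy_change, ← C.el_cc] at h1
  exact uni_injective (C.X.el_inj h1)

theorem hh_change (g l : SL₂) : (C.change g).hh l = C.hh (l * g) := by
  refine ((C.change g).decomp_eq (C.gg_mem (l * g)) (C.hh_mem (l * g)) (C.ff_mem (l * g)) ?_).2.1
  rw [C.yy_change]
  exact C.decomp_yy _

theorem θ_change (g l : SL₂) : (C.change g).θ l = C.θ (l * g) := by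
  rw [θ, θ, C.hh_change]
  rfl

theorem exists_form [FaithfulSMul G Ω] [Finite Ω] {n : ℕ} (hn : 2 ≤ n)
    (hF : Nat.card F = 2 ^ n) :
    ∃ qf : F × F → F, IsForm qf ∧ (∀ l, C.cc l * qf (app l⁻¹ (1, 0)) = 1) ∧ ∀ l, C.θ l = 1 := by
  haveI := Fintype.ofFinite F
  haveI := Fintype.ofFinite C.Pt
  have hodd : Odd (Nat.card C.Pt) := by
    rw [C.card_pt, hF]
    exact (Nat.even_pow.2 ⟨even_two, by omega⟩).add_one
  obtain ⟨qf, hs, hadd, han, hv, hτ⟩ := C.line.exists_form n hn
    (by rw [← Nat.card_eq_fintype_card, hF]) (C.odd_card_E hodd)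
  refine ⟨qf, ⟨hs, hadd, han⟩, fun l => ?_, fun l => ?_⟩
  · have h := hv ⟨C.pt₀ l, C.onB_pt₀ l⟩
    change qf (C.vv (C.pt₀ l)) = 1 at h
    rwa [C.vv_pt₀, hs, sqr_mul] at h
  · have hne := C.pt₀_ne_pt₁ l
    have h := hτ ⟨C.pt₀ l, C.onB_pt₀ l⟩ ⟨C.pt₁ l, C.onB_pt₁ l⟩
      (fun e => hne (congrArg Subtype.val e))
    rw [← C.Θ_pt l, ← (C.exists_shift (C.onB_pt₀ l) (C.onB_pt₁ l) hne).choose_spec.choose_spec.2.2]
    refine Eq.trans ?_ h
    simp only [line, MonoidHom.comp_apply]
    rw [dif_pos hne]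
    rfl

end Chart

end CfsgLib.Recog.RankOneSuzuki
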