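import Cfsg.Agent.Recog.RankOneSuzuki.Semilinear

/-!
# Suzuki's rank one theorem: inversion and the two-point components in coordinates

`yy l` is the element with coordinate `l`, `cc l` the coordinate of its square and `θ l` the field
part of its two-point component.
-/

set_option autoImplicit false
set_option linter.unusedSectionVars false
set_option linter.style.haveILetI false

namespace CfsgLib.Recog.RankOneSuzuki

open MulAction CfsgLib.Recog.RankOne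

variable {G Ω : Type*} [Group G] [MulAction G Ω] {a : Ω} {t : G} {Q : Subgroup G}

local notation "D[" a "," t "]" => stabilizer G a ⊓ stabilizer G (t • a)

namespace Chart

variable {S : Data a t Q} {F : Type} [Field F] [CharP F 2] (C : Chart S F)

local notation "SL₂" => Matrix.SpecialLinearGroup (Fin 2) F

theorem onB_iff {p : Ω} : C.OnB p ↔ p = a ∨ ∃ z ∈ S.Z, z • t • a = p := by
  constructor
  · rintro ⟨w, hw, rfl⟩
    by_cases h2 : w.2 = 0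
    · exact Or.inl (((C.X.P_eq w (1, 0) hw e1_ne).2 (by simp [br, h2])).trans C.X.P_a)
    · refine Or.inr ⟨_, C.el_uni_mem (w.1 / w.2), ?_⟩
      calc C.X.el (uni (w.1 / w.2)) • t • a = C.X.el (uni (w.1 / w.2)) • C.X.P (0, 1) := by
            rw [C.X.P_b]
        _ = C.X.P (app (uni (w.1 / w.2)) (0, 1)) := C.X.el_P _ _ e2_ne
        _ = C.X.P w := (C.X.P_eq _ w (app_ne_zero _ e2_ne) hw).2 (by
            simp [br, app_uni]
            field_simp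
            rw [CharTwo.add_self_eq_zero, mul_zero])
  · rintro (rfl | ⟨z, hz, rfl⟩)
    · exact C.onB_a
    · rw [← C.el_zc hz]
      exact C.onB_el C.onB_b

include S in
theorem conj_Z_D {d x : G} (hd : d ∈ D[a, t]) (hx : x ∈ S.Z) : d * x * d⁻¹ ∈ S.Z :=
  (S.mem_Z _).2 ⟨S.setup.conj_mem d hd.1 x (S.Z_le hx), by
    rw [show d * x * d⁻¹ * (d * x * d⁻¹) = d * (x * x) * d⁻¹ by group, S.Z_sq hx]; group⟩

theorem D_le_GB : D[a, t] ≤ C.GB := by
  intro γ hγ p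
  have key : ∀ d ∈ D[a, t], ∀ q, C.OnB q → C.OnB (d • q) := by
    intro d hd q hq
    rcases C.onB_iff.1 hq with rfl | ⟨z, hz, rfl⟩
    · rw [show d • q = q from hd.1]; exact C.onB_a
    · refine C.onB_iff.2 (Or.inr ⟨_, conj_Z_D (S := S) hd hz, ?_⟩)
      rw [mul_smul, inv_smul_eq_iff.2 (show t • a = d • t • a from hd.2.symm), mul_smul]
  refine ⟨fun h => ?_, key γ hγ p⟩
  have := key γ⁻¹ (inv_mem hγ) _ h
  rwa [inv_smul_smul] at this

/-- The first point of a coordinate. -/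
def pt₀ (l : SL₂) : Ω := C.X.P (app l⁻¹ (1, 0))

/-- The second point of a coordinate. -/
def pt₁ (l : SL₂) : Ω := C.X.P (app l⁻¹ (0, 1))

theorem pt₀_uni (d : F) (l : SL₂) : C.pt₀ (uni d * l) = C.pt₀ l := by
  unfold pt₀
  rw [mul_inv_rev, app_mul]
  congr 2
  calc app (uni d)⁻¹ ((1, 0) : F × F) = app (uni d)⁻¹ (app (uni d) (1, 0)) := by simp [app_uni]
    _ = _ := app_inv_app _ _

theorem pt₀_swp (l : SL₂) : C.pt₀ (swp * l) = C.pt₁ l := by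
  unfold pt₀ pt₁
  rw [mul_inv_rev, app_mul, inv_eq_of_mul_eq_one_right swp_swp, app_swp]

theorem pt₁_swp (l : SL₂) : C.pt₁ (swp * l) = C.pt₀ l := by
  unfold pt₀ pt₁
  rw [mul_inv_rev, app_mul, inv_eq_of_mul_eq_one_right swp_swp, app_swp]

theorem pt₀_ne_pt₁ (l : SL₂) : C.pt₀ l ≠ C.pt₁ l := fun h => by
  have := (C.X.P_eq _ _ (app_ne_zero _ e1_ne) (app_ne_zero _ e2_ne)).1 h
  rw [br_app] at this
  simp [br] at this

theorem exists_pt₀ {p : Ω} (hp : C.OnB p) : ∃ l : SL₂, C.pt₀ l = p := by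
  obtain ⟨w, hw, rfl⟩ := hp
  by_cases h2 : w.2 = 0
  · have h1 : w.1 ≠ 0 := fun h1 => hw (Prod.ext h1 h2)
    refine ⟨1, ?_⟩
    rw [pt₀, inv_one, app_one]
    exact (C.X.P_eq _ _ e1_ne hw).2 (by simp [br, h2])
  · refine ⟨(mat w (w.2⁻¹, 0) (by simp [br, h2]))⁻¹, ?_⟩
    rw [pt₀, inv_inv, app_mat_fst]

theorem exists_pair_pt {p q : Ω} (hp : C.OnB p) (hq : C.OnB q) (hne : p ≠ q) :
    ∃ l : SL₂, C.pt₀ l = p ∧ C.pt₁ l = q := by
  obtain ⟨w, hw, rfl⟩ := hp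
  obtain ⟨z, hz, rfl⟩ := hq
  have hb : br w z ≠ 0 := fun h => hne ((C.X.P_eq w z hw hz).2 h)
  refine ⟨(mat w ((br w z)⁻¹ • z) (by rw [br_smul_right, inv_mul_cancel₀ hb]))⁻¹, ?_, ?_⟩
  · rw [pt₀, inv_inv, app_mat_fst]
  · rw [pt₁, inv_inv, app_mat_snd]
    exact (C.X.P_eq _ _ (smul_ne_zero (inv_ne_zero hb) hz) hz).2 (by
      rw [br_smul_left, br_self, mul_zero])

theorem exists_of_pt₀ {l l₀ : SL₂} (h : C.pt₀ l = C.pt₀ l₀) :
    ∃ (d m : F) (hm : m ≠ 0), l = uni d * dia m hm * l₀ := by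
  have hb : br (app l⁻¹ (1, 0)) (app l₀⁻¹ (1, 0)) = 0 :=
    (C.X.P_eq _ _ (app_ne_zero _ e1_ne) (app_ne_zero _ e1_ne)).1 h
  obtain ⟨d, m, hm, he⟩ := exists_uni_mul_dia (g := l * l₀⁻¹) (by
    rw [← br_app l, app_app_inv, br_comm] at hb
    rwa [app_mul])
  exact ⟨d, m, hm, by rw [← he, inv_mul_cancel_right]⟩

theorem exists_of_pair {l l₀ : SL₂} (h : C.pt₀ l = C.pt₀ l₀) (h' : C.pt₁ l = C.pt₁ l₀) :
    ∃ (m : F) (hm : m ≠ 0), l = dia m hm * l₀ := by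
  obtain ⟨d, m, hm, he⟩ := C.exists_of_pt₀ h
  have hb : br (app l⁻¹ (0, 1)) (app l₀⁻¹ (0, 1)) = 0 :=
    (C.X.P_eq _ _ (app_ne_zero _ e2_ne) (app_ne_zero _ e2_ne)).1 h'
  rw [← br_app l, app_app_inv, br_comm] at hb
  rw [he, app_mul, app_app_inv, app_mul, app_dia, app_uni] at hb
  have hd : d = 0 := by simpa [br, hm] using hb
  exact ⟨m, hm, by rw [he, hd, uni_zero, one_mul]⟩

variable [Finite G]

/-- The element with a given coordinate. -/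
noncomputable def yy (l : SL₂) : G := (C.exists_y l).choose

theorem yy_mem (l : SL₂) : C.yy l ∈ Q := (C.exists_y l).choose_spec.1

theorem yy_not_mem (l : SL₂) : C.yy l ∉ S.Z := (C.exists_y l).choose_spec.2.1

theorem ell_yy (l : SL₂) : C.ell (C.yy l) = l := (C.exists_y l).choose_spec.2.2

theorem yy_eq {y : G} {l : SL₂} (hy : y ∈ Q) (hyZ : y ∉ S.Z) (h : C.ell y = l) : C.yy l = y :=
  C.ell_injOn (C.yy_mem l) (C.yy_not_mem l) hy hyZ ((C.ell_yy l).trans h.symm)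

/-- The coordinate of the square. -/
noncomputable def cc (l : SL₂) : F := C.zc (C.yy l * C.yy l)

theorem el_cc (l : SL₂) : C.X.el (uni (C.cc l)) = C.yy l * C.yy l :=
  C.el_zc (C.sq_mem _ (C.yy_mem l))

theorem cc_ne (l : SL₂) : C.cc l ≠ 0 :=
  C.zc_ne (C.sq_mem _ (C.yy_mem l)) (C.sq_ne (C.yy_mem l) (C.yy_not_mem l))

theorem yy_uni (d : F) (l : SL₂) : C.yy (uni d * l) = C.X.el (uni d) * C.yy l := by
  refine C.yy_eq (Q.mul_mem (S.Z_le (C.el_uni_mem d)) (C.yy_mem l))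
    (C.not_mem_mul (C.yy_not_mem l) (C.el_uni_mem d)) ?_
  rw [C.ell_mul (C.yy_mem l) (C.yy_not_mem l) (C.el_uni_mem d), C.zc_el, C.ell_yy]

theorem yy_inv (l : SL₂) : C.yy (uni (C.cc l) * l) = (C.yy l)⁻¹ := by
  refine C.yy_eq (Q.inv_mem (C.yy_mem l)) (C.inv_not_mem (C.yy_not_mem l)) ?_
  rw [C.ell_inv (C.yy_mem l) (C.yy_not_mem l), C.ell_yy]
  rfl

theorem cc_uni (d : F) (l : SL₂) : C.cc (uni d * l) = C.cc l := by
  unfold cc
  rw [C.yy_uni]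
  congr 1
  have hz := C.el_uni_mem d
  calc C.X.el (uni d) * C.yy l * (C.X.el (uni d) * C.yy l)
      = C.X.el (uni d) * (C.yy l * C.X.el (uni d)) * C.yy l := by group
    _ = C.X.el (uni d) * (C.X.el (uni d) * C.yy l) * C.yy l := by
        rw [S.central _ hz _ (C.yy_mem l)]
    _ = C.X.el (uni d) * C.X.el (uni d) * (C.yy l * C.yy l) := by group
    _ = _ := by rw [S.Z_sq hz, one_mul]

theorem yy_dia {m : F} (hm : m ≠ 0) (l : SL₂) :
    C.yy (dia m hm * l) = C.X.el (dia m hm) * C.yy l * (C.X.el (dia m hm))⁻¹ := by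
  obtain ⟨hk, he⟩ := C.ell_conj_dia (C.yy_mem l) (C.yy_not_mem l) hm
  exact C.yy_eq (S.conj_Q hk (C.yy_mem l)) (C.not_mem_conj (C.yy_not_mem l) hk)
    (by rw [he, C.ell_yy])

theorem cc_dia {m : F} (hm : m ≠ 0) (l : SL₂) : C.cc (dia m hm * l) = m * m * C.cc l := by
  have : C.X.el (dia m hm) * C.yy l * (C.X.el (dia m hm))⁻¹ *
      (C.X.el (dia m hm) * C.yy l * (C.X.el (dia m hm))⁻¹) =
      C.X.el (uni (m * m * C.cc l)) := by
    rw [show ∀ k y : G, k * y * k⁻¹ * (k * y * k⁻¹) = k * (y * y) * k⁻¹ from fun k y => by group,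
      ← C.el_cc, ← map_inv, ← map_mul, ← map_mul, dia_uni]
  rw [cc, C.yy_dia, this, C.zc_el]

/-- The left component. -/
noncomputable def gg (l : SL₂) : G :=
  (S.exists_decomp (C.yy_mem l) (fun h => C.yy_not_mem l (h ▸ S.Z.one_mem))).choose

/-- The two-point component. -/
noncomputable def hh (l : SL₂) : G :=
  (S.exists_decomp (C.yy_mem l) (fun h => C.yy_not_mem l (h ▸ S.Z.one_mem))).choose_spec.2.choose

/-- The right component. -/
noncomputable def ff (l : SL₂) : G :=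
  (S.exists_decomp (C.yy_mem l)
    (fun h => C.yy_not_mem l (h ▸ S.Z.one_mem))).choose_spec.2.choose_spec.2.choose

theorem gg_mem (l : SL₂) : C.gg l ∈ Q :=
  (S.exists_decomp (C.yy_mem l) (fun h => C.yy_not_mem l (h ▸ S.Z.one_mem))).choose_spec.1

theorem hh_mem (l : SL₂) : C.hh l ∈ D[a, t] :=
  (S.exists_decomp (C.yy_mem l)
    (fun h => C.yy_not_mem l (h ▸ S.Z.one_mem))).choose_spec.2.choose_spec.1

theorem ff_mem (l : SL₂) : C.ff l ∈ Q :=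
  (S.exists_decomp (C.yy_mem l)
    (fun h => C.yy_not_mem l (h ▸ S.Z.one_mem))).choose_spec.2.choose_spec.2.choose_spec.1

theorem decomp_yy (l : SL₂) : t * C.yy l * t = C.gg l * C.hh l * t * C.ff l :=
  (S.exists_decomp (C.yy_mem l)
    (fun h => C.yy_not_mem l (h ▸ S.Z.one_mem))).choose_spec.2.choose_spec.2.choose_spec.2

theorem decomp_eq {l : SL₂} {g h f : G} (hg : g ∈ Q) (hh : h ∈ D[a, t]) (hf : f ∈ Q)
    (he : t * C.yy l * t = g * h * t * f) : C.gg l = g ∧ C.hh l = h ∧ C.ff l = f :=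
  decomp_unique S.setup (C.gg_mem l) (C.hh_mem l) (C.ff_mem l) hg hh hf
    ((C.decomp_yy l).symm.trans he)

theorem gg_eq (l : SL₂) : C.gg l = C.yy (swp * l) := by
  refine (C.yy_eq (C.gg_mem l)
    (C.g_not_mem (C.yy_mem l) (C.yy_not_mem l) (C.hh_mem l) (C.ff_mem l) (C.decomp_yy l)) ?_).symm
  rw [C.ell_g (C.yy_mem l) (C.yy_not_mem l) (C.gg_mem l) (C.hh_mem l) (C.ff_mem l) (C.decomp_yy l),
    C.ell_yy]

theorem decomp_inv (l : SL₂) : C.gg (uni (C.cc l) * l) = (C.ff l)⁻¹ ∧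
    C.hh (uni (C.cc l) * l) = t * (C.hh l)⁻¹ * t ∧ C.ff (uni (C.cc l) * l) = (C.gg l)⁻¹ := by
  refine C.decomp_eq (Q.inv_mem (C.ff_mem l)) (t_norm S.setup _ (inv_mem (C.hh_mem l)))
    (Q.inv_mem (C.gg_mem l)) ?_
  calc t * C.yy (uni (C.cc l) * l) * t = (t * C.yy l * t)⁻¹ := by
        rw [C.yy_inv]; simp [mul_assoc, S.ti]
    _ = (C.gg l * C.hh l * t * C.ff l)⁻¹ := by rw [C.decomp_yy]
    _ = _ := by simp [mul_assoc, S.ti, S.tt_cancel]

theorem ff_eq (l : SL₂) :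
    C.ff l = C.yy (uni (C.cc (swp * (uni (C.cc l) * l))) * (swp * (uni (C.cc l) * l))) := by
  rw [C.yy_inv, ← C.gg_eq, (C.decomp_inv l).1, inv_inv]

theorem decomp_swp (l : SL₂) : C.hh (swp * l) = (C.hh l)⁻¹ ∧
    C.ff (swp * l) = t * C.hh l * t * (C.ff l)⁻¹ * (t * (C.hh l)⁻¹ * t) := by
  have hd : t * (C.hh l)⁻¹ * t ∈ D[a, t] := t_norm S.setup _ (inv_mem (C.hh_mem l))
  have hdi : t * C.hh l * t = (t * (C.hh l)⁻¹ * t)⁻¹ := by simp [mul_assoc, S.ti]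
  rw [hdi]
  refine (C.decomp_eq (C.yy_mem l) (inv_mem (C.hh_mem l))
    (f := (t * (C.hh l)⁻¹ * t)⁻¹ * (C.ff l)⁻¹ * (t * (C.hh l)⁻¹ * t)) ?_ ?_).2
  · exact conj_mem' S.setup hd.1 (Q.inv_mem (C.ff_mem l))
  · rw [← C.gg_eq]
    have hg : C.gg l = t * C.yy l * t * (C.ff l)⁻¹ * t * (C.hh l)⁻¹ := by
      rw [C.decomp_yy]
      simp [mul_assoc, S.tt_cancel]
    calc t * C.gg l * t = t * (t * C.yy l * t * (C.ff l)⁻¹ * t * (C.hh l)⁻¹) * t := by rw [← hg]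
      _ = C.yy l * t * (C.ff l)⁻¹ * (t * (C.hh l)⁻¹ * t) := by simp [mul_assoc, S.tt_cancel]
      _ = _ := by simp [mul_assoc, S.ti, S.tt_cancel]

theorem hh_swp (l : SL₂) : C.hh (swp * l) = (C.hh l)⁻¹ := (C.decomp_swp l).1

theorem hh_dia {m : F} (hm : m ≠ 0) (l : SL₂) :
    C.hh (dia m hm * l) = (C.X.el (dia m hm))⁻¹ * C.hh l * (C.X.el (dia m hm))⁻¹ := by
  have hk : C.X.el (dia m hm) ∈ S.K := (C.X.mem_K _).2 ⟨_, rfl, m, hm, rfl⟩
  set k := C.X.el (dia m hm)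
  refine (C.decomp_eq (S.conj_Q' hk (C.gg_mem l))
    (mul_mem (mul_mem (inv_mem (S.K_le hk)) (C.hh_mem l)) (inv_mem (S.K_le hk)))
    (S.conj_Q' hk (C.ff_mem l)) ?_).2.1
  rw [C.yy_dia]
  calc t * (k * C.yy l * k⁻¹) * t = (t * k) * C.yy l * (k⁻¹ * t) := by group
    _ = (k⁻¹ * t) * C.yy l * (t * k) := by rw [S.t_mul hk]
    _ = k⁻¹ * (t * C.yy l * t) * k := by group
    _ = k⁻¹ * C.gg l * C.hh l * t * (C.ff l * k) := by rw [C.decomp_yy]; group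
    _ = k⁻¹ * C.gg l * k * (k⁻¹ * C.hh l) * (t * k) * (k⁻¹ * C.ff l * k) := by group
    _ = k⁻¹ * C.gg l * k * (k⁻¹ * C.hh l) * (k⁻¹ * t) * (k⁻¹ * C.ff l * k) := by rw [S.t_mul hk]
    _ = _ := by group

theorem hh_uni {m : F} (hm : m ≠ 0) (l : SL₂) :
    ∃ k ∈ S.K, C.hh (uni (m * m) * l) =
      C.hh l * C.hh (uni (m⁻¹ * m⁻¹) *
        (uni (C.cc (swp * (uni (C.cc l) * l))) * (swp * (uni (C.cc l) * l)))) * k := by
  have hk : C.X.el (dia m hm) ∈ S.K := (C.X.mem_K _).2 ⟨_, rfl, m, hm, rfl⟩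
  set k := C.X.el (dia m hm) with hkdef
  set l' := uni (m⁻¹ * m⁻¹) *
        (uni (C.cc (swp * (uni (C.cc l) * l))) * (swp * (uni (C.cc l) * l))) with hl'
  have hs : C.X.el (uni 1) = S.s := C.X.el_s _ rfl
  have hv : C.X.el (uni (m * m)) = k * S.s * k⁻¹ := by
    rw [hkdef, ← hs, ← map_inv, ← map_mul, ← map_mul, dia_uni, mul_one]
  have hv' : C.X.el (uni (m⁻¹ * m⁻¹)) = k⁻¹ * S.s * k := by
    rw [hkdef, ← hs, ← map_inv, ← map_mul, ← map_mul]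
    congr 1
    have h1 : dia m hm * uni (m⁻¹ * m⁻¹) * (dia m hm)⁻¹ = uni 1 := by
      rw [dia_uni]; congr 1; field_simp
    rw [← h1]; group
  have hyl' : C.yy l' = C.ff l * (k⁻¹ * S.s * k) := by
    rw [hl', C.yy_uni, hv', ← C.ff_eq]
    exact S.central _ (S.conj_Z' hk S.s_mem) _ (C.ff_mem l)
  have hkk : k * k ∈ S.K := S.K.mul_mem hk hk
  refine ⟨(k * k)⁻¹, S.K.inv_mem hkk, ?_⟩
  have hd : C.hh l * C.hh l' * (k * k)⁻¹ ∈ D[a, t] :=
    mul_mem (mul_mem (C.hh_mem l) (C.hh_mem l')) (inv_mem (S.K_le hkk))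
  refine (C.decomp_eq
    (g := C.gg l * (C.hh l * C.gg l' * (C.hh l)⁻¹))
    (f := (k * k)⁻¹ * C.ff l' * (k * k) * (k⁻¹ * S.s * k))
    (Q.mul_mem (C.gg_mem l) (S.setup.conj_mem _ (C.hh_mem l).1 _ (C.gg_mem l'))) hd
    (Q.mul_mem (S.conj_Q' hkk (C.ff_mem l')) (S.Z_le (S.conj_Z' hk S.s_mem))) ?_).2.1
  rw [C.yy_uni, hv, S.central _ (S.conj_Z hk S.s_mem) _ (C.yy_mem l)]
  have htst : t * S.s * t = S.s * t * S.s := by rw [S.special, C.r_eq, S.s_inv]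
  have htvt : t * (k * S.s * k⁻¹) * t = (k⁻¹ * S.s * k) * (k * k)⁻¹ * t * (k⁻¹ * S.s * k) := by
    calc t * (k * S.s * k⁻¹) * t = (t * k) * S.s * (k⁻¹ * t) := by group
      _ = (k⁻¹ * t) * S.s * (t * k) := by rw [S.t_mul hk]
      _ = k⁻¹ * (t * S.s * t) * k := by group
      _ = k⁻¹ * (S.s * t * S.s) * k := by rw [htst]
      _ = (k⁻¹ * S.s) * (t * k) * (k⁻¹ * S.s * k) := by group
      _ = (k⁻¹ * S.s) * (k⁻¹ * t) * (k⁻¹ * S.s * k) := by rw [S.t_mul hk]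
      _ = _ := by group
  have hyf : t * (C.ff l * (k⁻¹ * S.s * k)) = C.gg l' * C.hh l' * t * C.ff l' * t := by
    rw [← C.decomp_yy, ← hyl']; simp [mul_assoc, S.tt]
  have htkk : t * (k * k)⁻¹ = k * k * t := S.t_mul_inv hkk
  calc t * (C.yy l * (k * S.s * k⁻¹)) * t
      = (t * C.yy l * t) * (t * (k * S.s * k⁻¹) * t) := by simp [mul_assoc, S.tt_cancel]
    _ = C.gg l * C.hh l * t * C.ff l * ((k⁻¹ * S.s * k) * (k * k)⁻¹ * t * (k⁻¹ * S.s * k)) := by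
        rw [C.decomp_yy, htvt]
    _ = C.gg l * C.hh l * (t * (C.ff l * (k⁻¹ * S.s * k))) * (k * k)⁻¹ * t * (k⁻¹ * S.s * k) := by
        group
    _ = C.gg l * C.hh l * C.gg l' * C.hh l' * t * C.ff l' * (t * (k * k)⁻¹) * t *
          (k⁻¹ * S.s * k) := by rw [hyf]; group
    _ = C.gg l * C.hh l * C.gg l' * C.hh l' * t * C.ff l' * (k * k) * (k⁻¹ * S.s * k) := by
        rw [htkk]; simp [mul_assoc, S.tt_cancel]
    _ = C.gg l * C.hh l * C.gg l' * C.hh l' * (t * (k * k)) *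
          ((k * k)⁻¹ * C.ff l' * (k * k)) * (k⁻¹ * S.s * k) := by group
    _ = C.gg l * C.hh l * C.gg l' * C.hh l' * ((k * k)⁻¹ * t) *
          ((k * k)⁻¹ * C.ff l' * (k * k)) * (k⁻¹ * S.s * k) := by rw [S.t_mul hkk]
    _ = _ := by group

end Chart

end CfsgLib.Recog.RankOneSuzuki
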