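import Cfsg.Agent.Recog.RankOneSuzuki.Theta

/-!
# Suzuki's rank one theorem: the projective line with its vectors and shifting elements
-/

set_option autoImplicit false
set_option linter.unusedSectionVars false
set_option linter.style.haveILetI false

namespace CfsgLib.Recog.RankOneSuzuki

open MulAction CfsgLib.Recog.RankOne

variable {G Ω : Type*} [Group G] [MulAction G Ω] {a : Ω} {t : G} {Q : Subgroup G}

local notation "D[" a "," t "]" => stabilizer G a ⊓ stabilizer G (t • a)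

section Field

variable {F : Type*} [Field F] [CharP F 2]

theorem self_add (w : F × F) : w + w = 0 :=
  Prod.ext (CharTwo.add_self_eq_zero _) (CharTwo.add_self_eq_zero _)

end Field

namespace Chart

variable {S : Data a t Q} {F : Type} [Field F] [CharP F 2] (C : Chart S F)

local notation "SL₂" => Matrix.SpecialLinearGroup (Fin 2) F

/-- The stabiliser of the block and the reference point. -/
def E : Subgroup G := C.GB ⊓ stabilizer G C.c

theorem mem_GB_of_mem {e : G} (he : e ∈ C.E) : e ∈ C.GB := he.1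

theorem smul_c {e : G} (he : e ∈ C.E) : e • C.c = C.c := he.2

/-- The inclusion in the stabiliser of the block. -/
def toGB : C.E →* C.GB := Subgroup.inclusion inf_le_left

theorem eq_one_of_sq [Finite G] [Finite Ω] {e : G} (he : e ∈ C.E) (h2 : e * e = 1)
    (hf : ∃ w : F × F, w ≠ 0 ∧ e • C.X.P w = C.X.P w) : e = 1 := by
  obtain ⟨g, rfl⟩ := C.X.invol e h2 hf
  rw [C.el_c_injective (g := g) (h := 1) (by rw [C.smul_c he, map_one, one_smul]), map_one]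

variable [Finite F] [Finite G]

theorem lc_br (e : C.GB) (l : SL₂) :
    br (C.MB e (app l⁻¹ (1, 0))) (C.MB e (app l⁻¹ (0, 1))) = 1 := by
  rw [C.MB_br, br_app]; simp [br]

/-- The coordinate of a transported pair. -/
noncomputable def lc (e : C.GB) (l : SL₂) : SL₂ := (mat _ _ (C.lc_br e l))⁻¹

theorem app_lc_inv_fst (e : C.GB) (l : SL₂) :
    app (C.lc e l)⁻¹ (1, 0) = C.MB e (app l⁻¹ (1, 0)) := by rw [lc, inv_inv, app_mat_fst]

theorem app_lc_inv_snd (e : C.GB) (l : SL₂) :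
    app (C.lc e l)⁻¹ (0, 1) = C.MB e (app l⁻¹ (0, 1)) := by rw [lc, inv_inv, app_mat_snd]

theorem pt₀_lc (e : C.GB) (l : SL₂) : C.pt₀ (C.lc e l) = (e : G) • C.pt₀ l := by
  rw [pt₀, C.app_lc_inv_fst, pt₀, C.MB_P e (app_ne_zero _ e1_ne)]

theorem pt₁_lc (e : C.GB) (l : SL₂) : C.pt₁ (C.lc e l) = (e : G) • C.pt₁ l := by
  rw [pt₁, C.app_lc_inv_snd, pt₁, C.MB_P e (app_ne_zero _ e2_ne)]

/-- Transport of a coordinate: an element of the two-point stabiliser. -/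
theorem transport {e : G} (he : e ∈ C.E) (l : SL₂) :
    let γ := C.X.el (C.lc ⟨e, he.1⟩ l) * e * (C.X.el l)⁻¹
    γ ∈ D[a, t] ∧ C.τD γ = C.τB ⟨e, he.1⟩ ∧
      C.yy (C.lc ⟨e, he.1⟩ l) = γ * C.yy l * γ⁻¹ ∧
      C.cc (C.lc ⟨e, he.1⟩ l) = C.τB ⟨e, he.1⟩ (C.cc l) := by
  set e' : C.GB := ⟨e, he.1⟩ with he'
  intro γ
  have hγa : γ • a = a := by
    show (C.X.el (C.lc e' l) * e * (C.X.el l)⁻¹) • a = a
    rw [mul_smul, mul_smul, inv_smul_eq_iff.2 (C.el_pt₀ l).symm,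
      show e • C.pt₀ l = C.pt₀ (C.lc e' l) from (C.pt₀_lc e' l).symm, C.el_pt₀]
  have hγb : γ • t • a = t • a := by
    show (C.X.el (C.lc e' l) * e * (C.X.el l)⁻¹) • t • a = t • a
    rw [mul_smul, mul_smul, inv_smul_eq_iff.2 (C.el_pt₁ l).symm,
      show e • C.pt₁ l = C.pt₁ (C.lc e' l) from (C.pt₁_lc e' l).symm, C.el_pt₁]
  have hγ : γ ∈ D[a, t] := ⟨hγa, hγb⟩
  have hgb := C.D_le_GB hγ
  have hp : (⟨γ, hgb⟩ : C.GB) =
      ⟨C.X.el (C.lc e' l), C.el_mem_GB _⟩ * e' * ⟨C.X.el l⁻¹, C.el_mem_GB _⟩ :=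
    Subtype.ext (by
      show γ = C.X.el (C.lc e' l) * e * C.X.el l⁻¹
      simp [γ])
  have hτ : C.τB ⟨γ, hgb⟩ = C.τB e' := by
    rw [hp, C.τB_mul, C.τB_mul, C.τB_el, C.τB_el, one_mul, mul_one]
  have hM : ∀ w, C.MB ⟨γ, hgb⟩ w = app (C.lc e' l) (C.MB e' (app l⁻¹ w)) := fun w => by
    rw [hp, C.MB_mul, C.MB_mul, C.MB_el, C.MB_el]
  have hconj : ∀ d : F, γ * C.X.el (uni d) * γ⁻¹ = C.X.el (uni (C.τB e' d)) := by
    intro d
    obtain ⟨g', hg', hg''⟩ := C.MB_conj ⟨γ, hgb⟩ (uni d)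
    refine hg'.trans (congrArg _ (ext_app ?_ ?_))
    · have h1 := hg'' (1, 0)
      rw [hM, hM, app_uni] at h1
      simp only [mul_zero, add_zero] at h1
      rw [← C.app_lc_inv_fst, app_app_inv] at h1
      rw [h1, app_uni]; simp
    · have h1 := hg'' (0, 1)
      rw [hM, hM, app_uni, ← C.app_lc_inv_snd, app_app_inv] at h1
      rw [h1, app_uni,
        show ((0 : F) + d * 1, (1 : F)) = d • ((1, 0) : F × F) + (0, 1) by simp,
        app_add, app_smul, map_add, C.MB_smul, app_add, app_smul, ← C.app_lc_inv_fst,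
        ← C.app_lc_inv_snd, app_app_inv, app_app_inv]
      simp
  refine ⟨hγ, by rw [C.τD_eq hgb, hτ], ?_⟩
  have hyy : C.yy (C.lc e' l) = γ * C.yy l * γ⁻¹ := by
    refine C.yy_eq (S.setup.conj_mem γ hγa _ (C.yy_mem l)) (fun h => C.yy_not_mem l ?_)
      (C.ell_eq (S.setup.conj_mem γ hγa _ (C.yy_mem l)) (fun h => C.yy_not_mem l ?_) ?_)
    · simpa [mul_assoc] using conj_Z_D (S := S) (inv_mem hγ) h
    · simpa [mul_assoc] using conj_Z_D (S := S) (inv_mem hγ) h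
    · have h0 := C.el_ell (C.yy_mem l) (C.yy_not_mem l)
      rw [C.ell_yy] at h0
      rw [mul_smul, mul_smul, inv_smul_eq_iff.2 hγb.symm, ← h0]
      show _ = (C.X.el (C.lc e' l) * e * (C.X.el l)⁻¹) • _
      rw [mul_smul, mul_smul, inv_smul_smul, C.smul_c he]
  refine ⟨hyy, ?_⟩
  have h1 : C.yy (C.lc e' l) * C.yy (C.lc e' l) = C.X.el (uni (C.τB e' (C.cc l))) := by
    rw [← hconj, C.el_cc, hyy]; group
  rw [cc, h1, C.zc_el]

theorem vv_equiv {e : G} (he : e ∈ C.E) {p : Ω} (hp : C.OnB p) :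
    C.MB ⟨e, he.1⟩ (C.vv p) = C.vv (e • p) := by
  obtain ⟨l, rfl⟩ := C.exists_pt₀ hp
  rw [show e • C.pt₀ l = C.pt₀ (C.lc ⟨e, he.1⟩ l) from (C.pt₀_lc ⟨e, he.1⟩ l).symm, C.vv_pt₀, C.vv_pt₀,
    C.app_lc_inv_fst, (C.transport he l).2.2.2, sqr_map, C.MB_smul]

theorem θ_equiv {e : G} (he : e ∈ C.E) (l : SL₂) : C.θ (C.lc ⟨e, he.1⟩ l) = C.θ l := by
  obtain ⟨hγ, hτ, hyy, -⟩ := C.transport he l
  revert hγ hτ hyy
  generalize C.X.el (C.lc ⟨e, he.1⟩ l) * e * (C.X.el l)⁻¹ = γ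
  intro hγ hτ hyy
  have hδ : t * γ * t ∈ D[a, t] := t_norm S.setup _ hγ
  have hh : C.hh (C.lc ⟨e, he.1⟩ l) = t * γ * t * C.hh l * γ⁻¹ := by
    refine (C.decomp_eq (g := t * γ * t * C.gg l * (t * γ * t)⁻¹) (f := t * γ * t * C.ff l * (t * γ * t)⁻¹)
      (S.setup.conj_mem _ hδ.1 _ (C.gg_mem l))
      (mul_mem (mul_mem hδ (C.hh_mem l)) (inv_mem hγ))
      ?_ ?_).2.1
    · exact S.setup.conj_mem _ hδ.1 _ (C.ff_mem l)
    · have htg : ∀ x : G, t * γ * x * γ⁻¹ * t = t * γ * t * (t * x * t) * (t * γ⁻¹ * t) :=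
        fun x => by simp [mul_assoc, S.tt_cancel]
      rw [hyy, show t * (γ * C.yy l * γ⁻¹) * t = t * γ * C.yy l * γ⁻¹ * t by group, htg,
        C.decomp_yy]
      simp [mul_assoc, S.tt_cancel, S.ti]
  have h1 := C.D_le_GB (C.hh_mem l)
  have h2 := C.D_le_GB hγ
  rw [θ, hh, C.τD_mul (mul_mem (C.D_le_GB hδ) h1) (inv_mem h2), C.τD_mul (C.D_le_GB hδ) h1,
    C.τD_tdt h2, C.τD_inv h2, hτ, ringAut_comm _ (C.τD _), mul_assoc, mul_inv_cancel, mul_one]
  rfl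

theorem Θ_equiv {e : G} (he : e ∈ C.E) {p q : Ω} (hp : C.OnB p) (hq : C.OnB q) (hne : p ≠ q) :
    C.Θ (e • p) (e • q) = C.Θ p q := by
  obtain ⟨l, rfl, rfl⟩ := C.exists_pair_pt hp hq hne
  rw [show e • C.pt₀ l = C.pt₀ (C.lc ⟨e, he.1⟩ l) from (C.pt₀_lc ⟨e, he.1⟩ l).symm,
    show e • C.pt₁ l = C.pt₁ (C.lc ⟨e, he.1⟩ l) from (C.pt₁_lc ⟨e, he.1⟩ l).symm, C.Θ_pt, C.Θ_pt,
    C.θ_equiv he]

theorem Θ_shift {p q : Ω} (hp : C.OnB p) (hq : C.OnB q) (hne : p ≠ q) :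
    C.Θ q (C.nbp q p) = C.Θ p q := by
  rw [C.Θ_nbp hq hp hne.symm, C.Θ_swap hp hq hne, inv_inv]

/-- The element shifting the sequence of a pair by three. -/
theorem exists_shift {x y : Ω} (hx : C.OnB x) (hy : C.OnB y) (hne : x ≠ y) :
    ∃ (e : G) (he : e ∈ C.E), e • x = C.nbp (C.nbp y x) y ∧
      e • y = C.nbp (C.nbp (C.nbp y x) y) (C.nbp y x) ∧ C.τB ⟨e, he.1⟩ = C.Θ x y := by
  have hx2 : C.OnB (C.nbp y x) := C.onB_nbp hx
  obtain ⟨l, hl₀, hl₁⟩ := C.exists_pair_pt hy hx2 (C.nbp_ne hy hx hne.symm).symm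
  -- the coordinate of `ξ`
  set lξ := swp * (uni (C.cc l) * l) with hlξ
  set lg := swp * (uni (C.cc (swp * l)) * (swp * l)) with hlg
  set lγ := uni (C.cc lg) * lg with hlγ
  set γ := t * C.hh l * t with hγdef
  have hγ : γ ∈ D[a, t] := t_norm S.setup _ (C.hh_mem l)
  have hyξ : C.yy lξ = (C.ff l)⁻¹ := by rw [hlξ, ← C.gg_eq, (C.decomp_inv l).1]
  have hyγ : C.yy lγ = γ * C.yy lξ * γ⁻¹ := by
    rw [hlγ, C.yy_inv, hlg, ← C.gg_eq, (C.decomp_inv (swp * l)).1, (C.decomp_swp l).2, hyξ, inv_inv,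
      hγdef]
    simp [mul_assoc, S.ti]
  clear_value γ
  have hc : ((C.X.el lγ)⁻¹ * γ * C.X.el lξ) • C.c = C.c := by
    have h1 := C.el_ell (C.yy_mem lξ) (C.yy_not_mem lξ)
    have h2 := C.el_ell (C.yy_mem lγ) (C.yy_not_mem lγ)
    rw [C.ell_yy] at h1 h2
    rw [mul_smul, mul_smul, h1, inv_smul_eq_iff, h2, hyγ, mul_smul, mul_smul,
      inv_smul_eq_iff.2 (show t • a = γ • t • a from hγ.2.symm)]
  have hB : (C.X.el lγ)⁻¹ * γ * C.X.el lξ ∈ C.GB :=
    mul_mem (mul_mem (inv_mem (C.el_mem_GB _)) (C.D_le_GB hγ)) (C.el_mem_GB _)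
  have hp₀ : C.pt₀ lξ = x := by
    rw [hlξ, C.pt₀_swp, C.pt₁_inv, hl₀, hl₁, C.nbp_nbp hx]
  have hp₁ : C.pt₁ lξ = y := by rw [hlξ, C.pt₁_swp, C.pt₀_inv, hl₀]
  have hq₀ : C.pt₀ lγ = C.nbp (C.nbp y x) y := by
    rw [hlγ, C.pt₀_inv, hlg, C.pt₀_swp, C.pt₁_inv, C.pt₀_swp, C.pt₁_swp, hl₀, hl₁]
  have hq₁ : C.pt₁ lγ = C.nbp (C.nbp (C.nbp y x) y) (C.nbp y x) := by
    rw [hlγ, C.pt₁_inv, hlg, C.pt₀_swp, C.pt₁_swp, C.pt₁_inv, C.pt₀_inv, C.pt₀_swp, C.pt₁_swp,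
      hl₀, hl₁]
  refine ⟨_, ⟨hB, hc⟩, ?_, ?_, ?_⟩
  · rw [mul_smul, mul_smul, ← hp₀, C.el_pt₀, hγ.1, inv_smul_eq_iff, hp₀, ← hq₀, C.el_pt₀]
  · rw [mul_smul, mul_smul, ← hp₁, C.el_pt₁, hγ.2, inv_smul_eq_iff, hp₁, ← hq₁, C.el_pt₁]
  · rw [← C.τD_eq hB, C.τD_mul (mul_mem (inv_mem (C.el_mem_GB _)) (C.D_le_GB hγ)) (C.el_mem_GB _),
      C.τD_mul (inv_mem (C.el_mem_GB _)) (C.D_le_GB hγ), C.τD_inv (C.el_mem_GB _), C.τD_el, C.τD_el,
      inv_one, one_mul, mul_one, hγdef, C.τD_tdt (C.D_le_GB (C.hh_mem l))]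
    show C.θ l = _
    rw [← C.Θ_pt l, hl₀, hl₁, C.Θ_shift hx hy hne]

/-- The points of the block as a type. -/
def Pt : Type _ := {p : Ω // C.OnB p}

instance [Finite Ω] : Finite C.Pt := inferInstanceAs (Finite {p : Ω // C.OnB p})

/-- The action on the block. -/
def actE : C.E →* Equiv.Perm C.Pt where
  toFun e :=
    { toFun := fun p => ⟨(e : G) • p.1, (e.2.1 p.1).2 p.2⟩
      invFun := fun p => ⟨(e : G)⁻¹ • p.1, ((show (e : G)⁻¹ ∈ C.GB from C.GB.inv_mem e.2.1) p.1).2 p.2⟩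
      left_inv := fun _p => Subtype.ext (inv_smul_smul _ _)
      right_inv := fun _p => Subtype.ext (smul_inv_smul _ _) }
  map_one' := Equiv.ext fun p => Subtype.ext (one_smul G p.1)
  map_mul' x y := Equiv.ext fun p => Subtype.ext (mul_smul (x : G) (y : G) p.1)

/-- The line data of a chart. -/
noncomputable def line [FaithfulSMul G Ω] [Finite Ω] : Line F C.Pt C.E where
  v p := C.vv p.1
  nb x y := ⟨C.nbp x.1 y.1, C.onB_nbp y.2⟩
  v_ne p := C.vv_ne p.2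
  v_inj x y h := Subtype.ext (by
    rw [← C.P_vv x.2, ← C.P_vv y.2]
    exact (C.X.P_eq _ _ (C.vv_ne x.2) (C.vv_ne y.2)).2 h)
  v_surj w hw := ⟨⟨C.X.P w, w, hw, rfl⟩,
    (C.X.P_eq w _ hw (C.vv_ne ⟨w, hw, rfl⟩)).1 (C.P_vv ⟨w, hw, rfl⟩).symm⟩
  nb_spec x y := by
    show br (tv (C.vv x.1) (C.vv y.1)) (C.vv (C.nbp x.1 y.1)) = 0
    exact (C.X.P_eq _ _ (tv_ne (C.vv_ne y.2)) (C.vv_ne (C.onB_nbp y.2))).1
      (C.P_vv (C.onB_nbp y.2)).symm
  act := C.actE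
  τ := C.τHom.comp C.toGB
  M e := C.MB (C.toGB e)
  M_smul e := C.MB_smul (C.toGB e)
  M_br e := C.MB_br (C.toGB e)
  M_v e p := C.vv_equiv e.2 p.2
  M_mul e e' w := by rw [map_mul, C.MB_mul]
  act_inj := by
    rw [injective_iff_map_eq_one]
    intro e he
    refine Subtype.ext (C.eq_one_of_fix (γ := C.toGB e) (C.smul_c e.2) fun w hw => ?_)
    exact congrArg Subtype.val (Equiv.congr_fun he ⟨C.X.P w, w, hw, rfl⟩)
  semiregular e p hτ hp := by
    have hp' : (e : G) • p.1 = p.1 := congrArg Subtype.val hp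
    have hMv : C.MB (C.toGB e) (C.vv p.1) = C.vv p.1 := by
      have h := C.vv_equiv e.2 p.2
      rw [hp'] at h
      exact h
    have hv := C.vv_ne p.2
    -- `M` is a transvection, so its square is the identity
    have hsq : ∀ w, C.MB (C.toGB e) (C.MB (C.toGB e) w) = w := by
      intro w
      have hb : br (C.MB (C.toGB e) w + w) (C.vv p.1) = 0 := by
        rw [br_add_left]
        nth_rw 1 [← hMv]
        rw [C.MB_br, show C.τB (C.toGB e) = 1 from hτ]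
        exact CharTwo.add_self_eq_zero _
      obtain ⟨c, hc⟩ := eq_smul_of_br hv (by rw [br_comm]; exact hb)
      have hMw : C.MB (C.toGB e) w = c • C.vv p.1 + w := by
        rw [← hc, add_assoc, self_add, add_zero]
      rw [hMw, map_add, C.MB_smul, show C.τB (C.toGB e) = 1 from hτ, hMv, hMw]
      show c • C.vv p.1 + (c • C.vv p.1 + w) = w
      rw [← add_assoc, ← add_smul, CharTwo.add_self_eq_zero, zero_smul, zero_add]
    have h2 : (e : G) * e = 1 := by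
      have := C.eq_one_of_fix (γ := C.toGB (e * e)) (C.smul_c (e * e).2) fun w hw => ?_
      · exact this
      · rw [C.MB_P _ hw, map_mul, C.MB_mul, hsq]
    exact Subtype.ext (C.eq_one_of_sq e.2 h2 ⟨_, hv, by rw [C.P_vv p.2]; exact hp'⟩)
  A x y :=
    open scoped Classical in
      if h : x.1 ≠ y.1 then
        ⟨(C.exists_shift x.2 y.2 h).choose, (C.exists_shift x.2 y.2 h).choose_spec.choose⟩
      else 1
  A_fst x y h := by
    have h' : x.1 ≠ y.1 := fun e => h (Subtype.ext e)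
    rw [dif_pos h']
    exact Subtype.ext (C.exists_shift x.2 y.2 h').choose_spec.choose_spec.1
  A_snd x y h := by
    have h' : x.1 ≠ y.1 := fun e => h (Subtype.ext e)
    rw [dif_pos h']
    exact Subtype.ext (C.exists_shift x.2 y.2 h').choose_spec.choose_spec.2.1
  A_cocycle u x y hux hxy huy := by
    have h1 : u.1 ≠ x.1 := fun e => hux (Subtype.ext e)
    have h2 : x.1 ≠ y.1 := fun e => hxy (Subtype.ext e)
    have h3 : u.1 ≠ y.1 := fun e => huy (Subtype.ext e)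
    rw [dif_pos h1, dif_pos h2, dif_pos h3]
    exact (C.exists_shift u.2 y.2 h3).choose_spec.choose_spec.2.2.trans
      ((C.Θ_cocycle u.2 x.2 y.2 h1 h2 h3).trans
        (congrArg₂ (· * ·) (C.exists_shift x.2 y.2 h2).choose_spec.choose_spec.2.2.symm
          (C.exists_shift u.2 x.2 h1).choose_spec.choose_spec.2.2.symm))
  A_symm x y h := by
    have h1 : x.1 ≠ y.1 := fun e => h (Subtype.ext e)
    rw [dif_pos h1, dif_pos h1.symm]
    exact (C.exists_shift y.2 x.2 h1.symm).choose_spec.choose_spec.2.2.trans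
      ((C.Θ_swap x.2 y.2 h1).trans
        (congrArg (·⁻¹) (C.exists_shift x.2 y.2 h1).choose_spec.choose_spec.2.2.symm))
  A_shift x y h := by
    have h1 : x.1 ≠ y.1 := fun e => h (Subtype.ext e)
    have h2 : y.1 ≠ C.nbp y.1 x.1 := (C.nbp_ne y.2 x.2 h1.symm).symm
    rw [dif_pos h1, dif_pos h2]
    exact (C.exists_shift y.2 (C.onB_nbp x.2) h2).choose_spec.choose_spec.2.2.trans
      ((C.Θ_shift x.2 y.2 h1).trans (C.exists_shift x.2 y.2 h1).choose_spec.choose_spec.2.2.symm)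
  A_equiv e x y h := by
    have h1 : x.1 ≠ y.1 := fun e => h (Subtype.ext e)
    have h2 : (C.actE e x).1 ≠ (C.actE e y).1 := fun h' =>
      h1 (smul_left_cancel (e : G) h')
    rw [dif_pos h1, dif_pos h2]
    exact (C.exists_shift (C.actE e x).2 (C.actE e y).2 h2).choose_spec.choose_spec.2.2.trans
      ((C.Θ_equiv e.2 x.2 y.2 h1).trans (C.exists_shift x.2 y.2 h1).choose_spec.choose_spec.2.2.symm)

theorem odd_card_E [FaithfulSMul G Ω] [Finite Ω] (hodd : Odd (Nat.card C.Pt)) :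
    Odd (Nat.card C.E) := by
  rw [← Nat.not_even_iff_odd, even_iff_two_dvd]
  intro h2
  haveI : Fact (Nat.Prime 2) := ⟨Nat.prime_two⟩
  obtain ⟨e, he⟩ := exists_prime_orderOf_dvd_card' 2 h2
  have hee : e * e = 1 := by rw [← pow_two, ← he, pow_orderOf_eq_one]
  haveI := Fintype.ofFinite C.Pt
  obtain ⟨p, hp⟩ := Equiv.Perm.exists_fixed_point_of_prime (p := 2) (n := 1)
    (by rw [← Nat.card_eq_fintype_card, ← even_iff_two_dvd, Nat.not_even_iff_odd]; exact hodd)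
    (σ := C.actE e) (by rw [pow_one, ← map_pow, pow_two, hee, map_one])
  have h1 : (e : G) = 1 := C.eq_one_of_sq e.2 (congrArg Subtype.val hee)
    ⟨_, C.vv_ne p.2, by rw [C.P_vv p.2]; exact congrArg Subtype.val hp⟩
  rw [show e = 1 from Subtype.ext h1, orderOf_one] at he
  norm_num at he

end Chart

end CfsgLib.Recog.RankOneSuzuki
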