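import Cfsg.Agent.Recog.RankOneSuzuki.NuDefs

/-!
# Suzuki's rank one theorem: elementary facts on the data on the projective line
-/

set_option autoImplicit false
set_option linter.unusedSectionVars false
set_option linter.style.haveILetI false

namespace CfsgLib.Recog.RankOneSuzuki

section Br

variable {F : Type*} [Field F]

theorem br_comm (w z : F × F) : br w z = br z w := by simp only [br]; ring

theorem br_add_left (w w' z : F × F) : br (w + w') z = br w z + br w' z := by
  simp only [br, Prod.fst_add, Prod.snd_add]; ring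

theorem br_add_right (w z z' : F × F) : br w (z + z') = br w z + br w z' := by
  simp only [br, Prod.fst_add, Prod.snd_add]; ring

theorem br_smul_left (l : F) (w z : F × F) : br (l • w) z = l * br w z := by
  simp only [br, Prod.smul_fst, Prod.smul_snd, smul_eq_mul]; ring

theorem br_smul_right (l : F) (w z : F × F) : br w (l • z) = l * br w z := by
  simp only [br, Prod.smul_fst, Prod.smul_snd, smul_eq_mul]; ring

@[simp] theorem br_zero_left (z : F × F) : br 0 z = 0 := by simp [br]

@[simp] theorem br_zero_right (z : F × F) : br z 0 = 0 := by simp [br]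

variable [CharP F 2]

theorem two_eq_zero' : (2 : F) = 0 := CharP.cast_eq_zero F 2

@[simp] theorem br_self (w : F × F) : br w w = 0 := by
  simp only [br]; linear_combination w.1 * w.2 * (two_eq_zero' (F := F))

theorem exists_smul_of_br {w z : F × F} (hw : w ≠ 0) (h : br w z = 0) : ∃ c : F, z = c • w := by
  have h' : w.1 * z.2 = w.2 * z.1 := CharTwo.add_eq_zero.1 h
  by_cases h1 : w.1 = 0
  · have h2 : w.2 ≠ 0 := fun h2 => hw (Prod.ext h1 h2)
    have h3 : z.1 = 0 := by
      rw [h1, zero_mul] at h'
      exact (mul_eq_zero.1 h'.symm).resolve_left h2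
    refine ⟨z.2 / w.2, Prod.ext ?_ ?_⟩
    · simp [h1, h3]
    · simp [h2]
  · refine ⟨z.1 / w.1, Prod.ext ?_ ?_⟩
    · simp [h1]
    · simp only [Prod.smul_snd, smul_eq_mul]
      field_simp
      linear_combination h'

theorem expand {p q : F × F} (h : br p q ≠ 0) (w : F × F) :
    w = (br w q / br p q) • p + (br p w / br p q) • q := by
  apply Prod.ext
  · simp only [Prod.fst_add, Prod.smul_fst, smul_eq_mul]
    field_simp
    simp only [br]
    linear_combination (-(p.1 * q.1 * w.2)) * (two_eq_zero' (F := F))
  · simp only [Prod.snd_add, Prod.smul_snd, smul_eq_mul]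
    field_simp
    simp only [br]
    linear_combination (-(p.2 * q.2 * w.1)) * (two_eq_zero' (F := F))

theorem br_left_nondeg {w : F × F} (h : ∀ z, br w z = 0) : w = 0 := by
  have h1 := h (1, 0)
  have h2 := h (0, 1)
  simp [br] at h1 h2
  exact Prod.ext h2 h1

end Br

section Auto

variable {F : Type*} [Field F] [Finite F]

/-- The automorphisms of a finite field commute. -/
theorem ringEquiv_comm (s u : F ≃+* F) : s * u = u * s := by
  classical
  haveI := Fintype.ofFinite F
  let f : (F ≃+* F) → (Fˣ →* Fˣ) := fun e => Units.map e.toMonoidHom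
  obtain ⟨i, hi⟩ := MonoidHom.map_cyclic (f s)
  obtain ⟨j, hj⟩ := MonoidHom.map_cyclic (f u)
  apply RingEquiv.ext
  intro x
  by_cases hx : x = 0
  · simp [hx]
  have h : f s (f u (Units.mk0 x hx)) = f u (f s (Units.mk0 x hx)) := by
    rw [hi, hj, hi, hj, ← zpow_mul, ← zpow_mul, mul_comm]
  exact congrArg Units.val h

theorem card_ringEquiv_le [CharP F 2] {n : ℕ} (hF : Nat.card F = 2 ^ n) :
    Nat.card (F ≃+* F) ≤ n := by
  letI : Algebra (ZMod 2) F := ZMod.algebra F 2
  have hfin : Module.finrank (ZMod 2) F = n := by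
    have h := Module.natCard_eq_pow_finrank (K := ZMod 2) (V := F)
    rw [hF, Nat.card_zmod] at h
    exact (Nat.pow_right_injective le_rfl h).symm
  haveI : Module.Finite (ZMod 2) F := Module.Finite.of_finite
  let e : (F ≃+* F) → (F ≃ₐ[ZMod 2] F) := fun s => AlgEquiv.ofRingEquiv (f := s) fun x => by
    rw [show x = ((x.val : ℕ) : ZMod 2) from (ZMod.natCast_zmod_val x).symm, map_natCast]
    exact map_natCast s _
  have he : Function.Injective e := fun s u h => RingEquiv.ext fun x => AlgEquiv.congr_fun h x
  have h := Nat.card_le_card_of_injective e he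
  have h2 : Nat.card (F ≃ₐ[ZMod 2] F) ≤ Module.finrank (ZMod 2) F := by
    rw [Nat.card_eq_fintype_card]; exact AlgEquiv.card_le
  omega

/-- A nontrivial automorphism of odd order fixes a subfield of index at least three. -/
theorem card_fix_pow_three_le (s : F ≃+* F) (hs : s ≠ 1) (hodd : Odd (orderOf s)) :
    Nat.card {x : F // s x = x} ^ 3 ≤ Nat.card F := by
  classical
  haveI := Fintype.ofFinite F
  haveI : Finite (F ≃+* F) := Finite.of_injective _ DFunLike.coe_injective
  haveI := Fintype.ofFinite (Subgroup.zpowers s)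
  let K := FixedPoints.subfield (Subgroup.zpowers s) F
  have hd : Module.finrank K F = Nat.card (Subgroup.zpowers s) := by
    rw [Nat.card_eq_fintype_card]; exact FixedPoints.finrank_eq_card _ F
  have h3 : 3 ≤ orderOf s := by
    rcases Nat.lt_or_ge (orderOf s) 3 with h | h
    · interval_cases hh : orderOf s
      · simp at hodd
      · exact absurd (orderOf_eq_one_iff.1 hh) hs
      · exact absurd hodd (by decide)
    · exact h
  have hK : Nat.card {x : F // s x = x} ≤ Nat.card K := by
    refine Nat.card_le_card_of_injective (fun x => ⟨x.1, ?_⟩) (fun x y h => Subtype.ext ?_)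
    · rintro ⟨g, hg⟩
      have h : s • x.1 = x.1 := x.2
      exact (Subgroup.zpowers_le (H := MulAction.stabilizer (F ≃+* F) x.1)).2 h hg
    · exact congrArg (fun z : K => (z : F)) h
  haveI : Module.Finite K F := Module.Finite.of_finite
  rw [Module.natCard_eq_pow_finrank (K := K) (V := F), hd, Nat.card_zpowers]
  exact le_trans (Nat.pow_le_pow_left hK 3) (Nat.pow_le_pow_right Nat.card_pos h3)

end Auto

namespace Line

variable {F : Type*} [Field F] [CharP F 2] {B E : Type*} [Group E] (L : Line F B E)

theorem br_v_ne {x y : B} (h : x ≠ y) : br (L.v x) (L.v y) ≠ 0 := fun h0 => h (L.v_inj x y h0)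

theorem v_injective : Function.Injective L.v := fun x y h => L.v_inj x y (by rw [h, br_self])

theorem M_injective (e : E) : Function.Injective (L.M e) := by
  rw [injective_iff_map_eq_zero]
  intro w hw
  apply br_left_nondeg
  intro z
  have h := L.M_br e w z
  rw [hw, br_zero_left] at h
  exact (map_eq_zero_iff _ (L.τ e).injective).1 h.symm

@[simp] theorem M_one (w : F × F) : L.M 1 w = w :=
  L.M_injective 1 (by rw [← L.M_mul, one_mul])

theorem act_line {e : E} {x : B} {w : F × F} (h : br w (L.v x) = 0) :
    br (L.M e w) (L.v (L.act e x)) = 0 := by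
  rw [← L.M_v, L.M_br, h, map_zero]

theorem M_fix {e : E} {x : B} (h : L.act e x = x) : L.M e (L.v x) = L.v x := by rw [L.M_v, h]

/-- The second point of the pair of `(x, y)`. -/
theorem nb_ne {x y : B} (h : x ≠ y) : L.nb y x ≠ y := by
  intro he
  have h1 := L.nb_spec y x
  rw [he, br_add_left, br_smul_left, br_self, mul_zero, add_zero] at h1
  exact h (L.v_inj x y h1)

/-- The recurrence of the sequence of a pair. -/
theorem recur {x y : B} (h : x ≠ y) :
    L.v (L.nb y x) = (br (L.v y) (L.v (L.nb y x)) / br (L.v x) (L.v y)) • L.v x +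
      br (L.v y) (L.v (L.nb y x)) • L.v y := by
  have ha := L.br_v_ne h
  set w := L.v x + br (L.v x) (L.v y) • L.v y with hw
  have hwy : br (L.v y) w = br (L.v x) (L.v y) := by
    rw [hw, br_add_right, br_smul_right, br_self, mul_zero, add_zero, br_comm]
  have hw0 : w ≠ 0 := fun h0 => ha (by rw [← hwy, h0, br_zero_right])
  obtain ⟨c, hc⟩ := exists_smul_of_br hw0 (L.nb_spec y x)
  rw [hc, br_smul_right, hwy, mul_div_assoc, div_self ha, mul_one, hw, smul_add, smul_smul]

theorem nb_nb {x y : B} (h : x ≠ y) : L.nb y (L.nb y x) = x := by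
  have ha := L.br_v_ne h
  have ha' := L.br_v_ne (L.nb_ne h).symm
  have h1 := L.nb_spec y (L.nb y x)
  rw [br_comm (L.v (L.nb y x)) (L.v y)] at h1
  nth_rw 1 [L.recur h] at h1
  rw [add_assoc, ← add_smul, CharTwo.add_self_eq_zero, zero_smul, add_zero, br_smul_left] at h1
  exact (L.v_inj _ _ ((mul_eq_zero.1 h1).resolve_left (div_ne_zero ha' ha))).symm

end Line

end CfsgLib.Recog.RankOneSuzuki
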