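import Cfsg.Agent.Recog.RankOneSuzuki.NuBasic

/-!
# Suzuki's rank one theorem: the levels of the points
-/

set_option autoImplicit false
set_option linter.unusedSectionVars false
set_option linter.style.haveILetI false

namespace CfsgLib.Recog.RankOneSuzuki

namespace Line

variable {F : Type*} [Field F] [Finite F] [CharP F 2] {B E : Type*} [Group E] (L : Line F B E)

/-- The levels relative to the base point. -/
noncomputable def φ (x₀ y : B) : F ≃+* F :=
  by classical exact if y = x₀ then 1 else L.τ (L.A x₀ y)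

variable (x₀ : B)

theorem φ_base : L.φ x₀ x₀ = 1 := by simp [φ]

theorem tau_A {x y : B} (h : x ≠ y) : L.φ x₀ y = L.τ (L.A x y) * L.φ x₀ x := by
  by_cases hx : x = x₀
  · subst hx
    simp [φ, h.symm]
  by_cases hy : y = x₀
  · subst hy
    simp [φ, hx, L.A_symm _ _ (Ne.symm h)]
  simp only [φ, hx, hy, if_false]
  exact L.A_cocycle x₀ x y (Ne.symm hx) h (Ne.symm hy)

theorem tau_eq_one_iff {x y : B} (h : x ≠ y) :
    L.τ (L.A x y) = 1 ↔ L.φ x₀ y = L.φ x₀ x := by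
  rw [L.tau_A x₀ h]; exact mul_eq_right.symm

theorem φ_nb {x y : B} (h : x ≠ y) :
    L.φ x₀ (L.nb y x) = L.τ (L.A x y) * L.φ x₀ y := by
  rw [L.tau_A x₀ (L.nb_ne h).symm, L.A_shift x y h]

theorem φ_nb_eq {x y : B} (h : x ≠ y) (hl : L.φ x₀ y = L.φ x₀ x) :
    L.φ x₀ (L.nb y x) = L.φ x₀ y := by
  rw [L.φ_nb x₀ h, (L.tau_eq_one_iff x₀ h).2 hl, one_mul]

/-- The translation of the levels by a group element. -/
noncomputable def c (e : E) : F ≃+* F := L.φ x₀ (L.act e x₀)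

theorem φ_act (e : E) (x : B) : L.φ x₀ (L.act e x) = L.c x₀ e * L.φ x₀ x := by
  by_cases hx : x = x₀
  · rw [hx, φ_base, mul_one]; rfl
  have h : L.act e x₀ ≠ L.act e x := fun h => hx ((L.act e).injective h).symm
  rw [L.tau_A x₀ h, L.A_equiv e x₀ x (Ne.symm hx), L.tau_A x₀ (Ne.symm hx), φ_base, mul_one]
  exact ringEquiv_comm _ _

/-- The translation as a homomorphism. -/
noncomputable def cHom : E →* (F ≃+* F) where
  toFun := L.c x₀
  map_one' := by simp [c, φ_base]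
  map_mul' e e' := by
    show L.φ x₀ (L.act (e * e') x₀) = _
    rw [map_mul, Equiv.Perm.mul_apply, L.φ_act]
    rfl

theorem φ_mem (y : B) : L.φ x₀ y ∈ L.τ.range := by
  by_cases h : y = x₀
  · rw [h, φ_base]; exact one_mem _
  · rw [L.tau_A x₀ (Ne.symm h), φ_base, mul_one]; exact ⟨_, rfl⟩

theorem c_A {x y : B} (h : x ≠ y) : L.c x₀ (L.A x y) = L.τ (L.A x y) ^ 3 := by
  have h1 := L.φ_act x₀ (L.A x y) x
  rw [L.A_fst x y h, L.φ_nb x₀ (L.nb_ne h).symm, L.A_shift x y h, L.φ_nb x₀ h,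
    L.tau_A x₀ h, ← mul_assoc, ← mul_assoc, ← pow_three'] at h1
  exact (mul_right_cancel h1).symm

/-- The linear elements preserving all levels. -/
noncomputable def W₀ : Subgroup E := (L.τ.prod (L.cHom x₀)).ker

theorem mem_W₀ {e : E} : e ∈ L.W₀ x₀ ↔ L.τ e = 1 ∧ L.c x₀ e = 1 := by
  simp [W₀, cHom, MonoidHom.mem_ker, Prod.ext_iff]

theorem φ_act_W₀ {e : E} (he : e ∈ L.W₀ x₀) (x : B) : L.φ x₀ (L.act e x) = L.φ x₀ x := by
  rw [L.φ_act, ((L.mem_W₀ x₀).1 he).2, one_mul]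

theorem A_mem_W₀ {x y : B} (h : x ≠ y) (hl : L.φ x₀ y = L.φ x₀ x) : L.A x y ∈ L.W₀ x₀ := by
  have h1 := (L.tau_eq_one_iff x₀ h).2 hl
  exact (L.mem_W₀ x₀).2 ⟨h1, by rw [L.c_A x₀ h, h1, one_pow]⟩

end Line

end CfsgLib.Recog.RankOneSuzuki
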