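import Cfsg.Agent.Recog.RankOneSuzuki.Chart

/-!
# Suzuki's rank one theorem: semilinear maps of the stabiliser of the block
-/

set_option autoImplicit false
set_option linter.unusedSectionVars false
set_option linter.style.haveILetI false

namespace CfsgLib.Recog.RankOneSuzuki

open MulAction CfsgLib.Recog.RankOne

section Field

variable {F : Type*} [Field F] [CharP F 2]

theorem decomp_basis (w : F × F) : w = w.1 • ((1, 0) : F × F) + w.2 • ((0, 1) : F × F) := by
  simp

theorem br_ne_zero_pair {w z : F × F} (h : br w z = 1) : w ≠ 0 ∧ z ≠ 0 := by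
  constructor <;> rintro rfl <;> simp [br] at h

/-- The matrix with the given columns. -/
def mat (w z : F × F) (h : br w z = 1) : Matrix.SpecialLinearGroup (Fin 2) F :=
  ⟨!![w.1, z.1; w.2, z.2], by
    rw [Matrix.det_fin_two]
    simp only [Matrix.cons_val', Matrix.cons_val_zero, Matrix.cons_val_one, Matrix.cons_val_fin_one,
      Matrix.of_apply]
    rw [CharTwo.sub_eq_add, mul_comm z.1]
    exact h⟩

theorem app_mat_fst (w z : F × F) (h : br w z = 1) : app (mat w z h) (1, 0) = w := by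
  simp [app, mat]

theorem app_mat_snd (w z : F × F) (h : br w z = 1) : app (mat w z h) (0, 1) = z := by
  simp [app, mat]

/-- Two semilinear maps preserving the form up to a field automorphism and inducing the same map
on lines are equal. -/
theorem semilinear_unique {τ τ' : F ≃+* F} {M M' : (F × F) →+ (F × F)}
    (hs : ∀ (l : F) w, M (l • w) = τ l • M w) (hs' : ∀ (l : F) w, M' (l • w) = τ' l • M' w)
    (hb : ∀ w z, br (M w) (M z) = τ (br w z)) (hb' : ∀ w z, br (M' w) (M' z) = τ' (br w z))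
    (hl : ∀ w, w ≠ 0 → br (M w) (M' w) = 0) : τ = τ' ∧ ∀ w, M w = M' w := by
  have he : br ((1, 0) : F × F) (0, 1) = 1 := by simp [br]
  have h11 : br (M (1, 0)) (M (0, 1)) = 1 := by rw [hb, he, map_one]
  have hne := br_ne_zero_pair h11
  obtain ⟨α, hα⟩ := eq_smul_of_br hne.1 (hl _ e1_ne)
  obtain ⟨β, hβ⟩ := eq_smul_of_br hne.2 (hl _ e2_ne)
  have h11' : br (M' (1, 0)) (M' (0, 1)) = 1 := by rw [hb', he, map_one]
  rw [hα, hβ, br_smul_left, br_smul_right, h11, mul_one] at h11'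
  -- the sum of the two basis vectors
  have hsum : ((1, 0) : F × F) + (0, 1) ≠ 0 := fun h => one_ne_zero (α := F) (by simpa using congrArg Prod.fst h)
  obtain ⟨γ, hγ⟩ := eq_smul_of_br (fun h => hsum (by
    have h0 := hb (((1, 0) : F × F) + (0, 1)) (1, 0)
    rw [h] at h0
    simp [br] at h0)) (hl _ hsum)
  rw [map_add, map_add, hα, hβ, smul_add] at hγ
  have hαγ : α = γ := by
    have := congrArg (fun u => br u (M (0, 1))) hγ
    simpa [br_add_left, br_smul_left, h11, br_self] using this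
  have hβγ : β = γ := by
    have := congrArg (fun u => br u (M (1, 0))) hγ
    simpa [br_add_left, br_smul_left, br_comm (M (0, 1)) (M (1, 0)), h11, br_self] using this
  have hα1 : α = 1 := by
    rw [hβγ, ← hαγ] at h11'
    exact (mul_self_eq_one_iff.1 h11').elim id fun h => by rw [h, CharTwo.neg_eq]
  have hβ1 : β = 1 := by rw [hβγ, ← hαγ, hα1]
  rw [hα1, one_smul] at hα
  rw [hβ1, one_smul] at hβ
  have hτ : τ = τ' := by
    refine RingEquiv.ext fun l => ?_
    have hne' : l • ((1, 0) : F × F) + (0, 1) ≠ 0 := fun h =>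
      one_ne_zero (α := F) (by simpa using congrArg Prod.snd h)
    have := hl _ hne'
    rw [map_add, map_add, hs, hs', hα, hβ, br_add_left, br_add_right, br_add_right] at this
    simp only [br_smul_left, br_smul_right, br_self, br_comm (M (0, 1)) (M (1, 0)), h11,
      mul_zero, zero_add, add_zero, mul_one] at this
    exact CharTwo.add_eq_zero.1 this
  refine ⟨hτ, fun w => ?_⟩
  rw [decomp_basis w, map_add, map_add, hs, hs, hs', hs', hα, hβ, hτ]

end Field

variable {G Ω : Type*} [Group G] [MulAction G Ω] {a : Ω} {t : G} {Q : Subgroup G}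

local notation "D[" a "," t "]" => stabilizer G a ⊓ stabilizer G (t • a)

namespace Chart

variable {S : Data a t Q} {F : Type} [Field F] [CharP F 2] (C : Chart S F)

local notation "SL₂" => Matrix.SpecialLinearGroup (Fin 2) F

/-- The setwise stabiliser of the block. -/
def GB : Subgroup G where
  carrier := {γ | ∀ p, C.OnB (γ • p) ↔ C.OnB p}
  one_mem' p := by rw [one_smul]
  mul_mem' {x y} hx hy p := by rw [mul_smul, hx, hy]
  inv_mem' {x} hx p := by rw [← hx, smul_inv_smul]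

theorem el_mem_GB (g : SL₂) : C.X.el g ∈ C.GB := fun p =>
  ⟨fun h => by
    have := C.onB_el (g := g⁻¹) h
    rwa [← mul_smul, ← map_mul, inv_mul_cancel, map_one, one_smul] at this, C.onB_el⟩

theorem t_mem_GB : t ∈ C.GB := by
  have := C.el_mem_GB swp
  rwa [C.el_swp] at this

theorem semi {γ : G} (hγ : γ ∈ C.GB) :
    ∀ w : F × F, w ≠ 0 → ∃ w' : F × F, w' ≠ 0 ∧ γ • C.X.P w = C.X.P w' := by
  intro w hw
  obtain ⟨w', hw', h⟩ := (hγ (C.X.P w)).2 ⟨w, hw, rfl⟩
  exact ⟨w', hw', h.symm⟩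

/-- The field part of an element of the stabiliser of the block. -/
noncomputable def τB (γ : C.GB) : F ≃+* F := (C.X.semilinear γ (C.semi γ.2)).choose

/-- The semilinear map of an element of the stabiliser of the block. -/
noncomputable def MB (γ : C.GB) : (F × F) →+ (F × F) :=
  (C.X.semilinear γ (C.semi γ.2)).choose_spec.choose

theorem MB_smul (γ : C.GB) (l : F) (w : F × F) : C.MB γ (l • w) = C.τB γ l • C.MB γ w :=
  (C.X.semilinear γ (C.semi γ.2)).choose_spec.choose_spec.1 l w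

theorem MB_br (γ : C.GB) (w z : F × F) : br (C.MB γ w) (C.MB γ z) = C.τB γ (br w z) :=
  (C.X.semilinear γ (C.semi γ.2)).choose_spec.choose_spec.2.1 w z

theorem MB_P (γ : C.GB) {w : F × F} (hw : w ≠ 0) : (γ : G) • C.X.P w = C.X.P (C.MB γ w) :=
  (C.X.semilinear γ (C.semi γ.2)).choose_spec.choose_spec.2.2.1 w hw

theorem MB_conj (γ : C.GB) (g : SL₂) : ∃ g' : SL₂,
    (γ : G) * C.X.el g * (γ : G)⁻¹ = C.X.el g' ∧ ∀ w, app g' (C.MB γ w) = C.MB γ (app g w) :=
  (C.X.semilinear γ (C.semi γ.2)).choose_spec.choose_spec.2.2.2 g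

theorem MB_ne (γ : C.GB) {w : F × F} (hw : w ≠ 0) : C.MB γ w ≠ 0 := by
  intro h
  apply hw
  have h1 : C.τB γ (br w (1, 0)) = 0 := by rw [← C.MB_br, h]; simp [br]
  have h2 : C.τB γ (br w (0, 1)) = 0 := by rw [← C.MB_br, h]; simp [br]
  rw [EmbeddingLike.map_eq_zero_iff] at h1 h2
  exact Prod.ext (by simpa [br] using h2) (by simpa [br] using h1)

/-- A semilinear map with the action of `γ` on the block is that of `γ`. -/
theorem MB_eq (γ : C.GB) {τ : F ≃+* F} {M : (F × F) →+ (F × F)}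
    (hs : ∀ (l : F) w, M (l • w) = τ l • M w) (hb : ∀ w z, br (M w) (M z) = τ (br w z))
    (hP : ∀ w, w ≠ 0 → M w ≠ 0 ∧ (γ : G) • C.X.P w = C.X.P (M w)) :
    C.τB γ = τ ∧ ∀ w, C.MB γ w = M w :=
  semilinear_unique (C.MB_smul γ) hs (C.MB_br γ) hb fun w hw =>
    (C.X.P_eq _ _ (C.MB_ne γ hw) (hP w hw).1).1 ((C.MB_P γ hw).symm.trans (hP w hw).2)

theorem MB_mul' (γ δ : C.GB) :
    C.τB (γ * δ) = C.τB γ * C.τB δ ∧ ∀ w, C.MB (γ * δ) w = C.MB γ (C.MB δ w) := by
  refine C.MB_eq _ (M := (C.MB γ).comp (C.MB δ)) (fun l w => ?_) (fun w z => ?_) fun w hw => ?_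
  · show C.MB γ (C.MB δ (l • w)) = _
    rw [C.MB_smul, C.MB_smul]; rfl
  · show br (C.MB γ (C.MB δ w)) (C.MB γ (C.MB δ z)) = _
    rw [C.MB_br, C.MB_br]; rfl
  · refine ⟨C.MB_ne γ (C.MB_ne δ hw), ?_⟩
    rw [Subgroup.coe_mul, mul_smul, C.MB_P δ hw, C.MB_P γ (C.MB_ne δ hw)]
    rfl

theorem MB_mul (γ δ : C.GB) (w : F × F) : C.MB (γ * δ) w = C.MB γ (C.MB δ w) := (C.MB_mul' γ δ).2 w

theorem τB_mul (γ δ : C.GB) : C.τB (γ * δ) = C.τB γ * C.τB δ := (C.MB_mul' γ δ).1

/-- The field part as a homomorphism. -/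
noncomputable def τHom : C.GB →* (F ≃+* F) := MonoidHom.mk' C.τB C.τB_mul

theorem MB_el' (g : SL₂) :
    C.τB ⟨C.X.el g, C.el_mem_GB g⟩ = 1 ∧ ∀ w, C.MB ⟨C.X.el g, C.el_mem_GB g⟩ w = app g w :=
  C.MB_eq _ (M := AddMonoidHom.mk' (app g) (app_add g)) (fun l w => app_smul g l w)
    (fun w z => br_app g w z) fun w hw => ⟨app_ne_zero g hw, C.X.el_P g w hw⟩

theorem τB_el (g : SL₂) : C.τB ⟨C.X.el g, C.el_mem_GB g⟩ = 1 := (C.MB_el' g).1

theorem MB_el (g : SL₂) (w : F × F) : C.MB ⟨C.X.el g, C.el_mem_GB g⟩ w = app g w := (C.MB_el' g).2 w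

/-- An element fixing the block pointwise and the reference point is trivial. -/
theorem eq_one_of_fix [FaithfulSMul G Ω] {γ : C.GB} (hc : (γ : G) • C.c = C.c)
    (h : ∀ w, w ≠ 0 → (γ : G) • C.X.P w = C.X.P w) : (γ : G) = 1 := by
  have hM : ∀ w, C.MB γ w = w :=
    (C.MB_eq γ (τ := RingEquiv.refl F) (M := AddMonoidHom.id _) (fun l w => rfl) (fun w z => rfl)
      fun w hw => ⟨hw, h w hw⟩).2
  apply eq_of_smul_eq_smul (α := Ω)
  intro p
  rw [one_smul]
  by_cases hp : C.OnB p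
  · obtain ⟨w, hw, rfl⟩ := hp
    exact h w hw
  · obtain ⟨g, rfl⟩ := C.exists_el_of_off hp
    obtain ⟨g', hg', hg''⟩ := C.MB_conj γ g
    have : g' = g := ext_app (by simpa [hM] using hg'' (1, 0)) (by simpa [hM] using hg'' (0, 1))
    rw [this] at hg'
    calc (γ : G) • C.X.el g • C.c = ((γ : G) * C.X.el g * (γ : G)⁻¹) • (γ : G) • C.c := by
          simp [← mul_smul, mul_assoc]
      _ = C.X.el g • C.c := by rw [hg', hc]

end Chart

end CfsgLib.Recog.RankOneSuzuki
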