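import Cfsg.Agent.Recog.RankOneSuzuki.BlockDefs
import Cfsg.Agent.Recog.RankOneSuzuki.NuBasic

/-!
# Suzuki's rank one theorem: `2 × 2` matrices applied to vectors
-/

set_option autoImplicit false

namespace CfsgLib.Recog.RankOneSuzuki

variable {F : Type*} [Field F]

local notation "SL₂" => Matrix.SpecialLinearGroup (Fin 2) F

theorem app_one (w : F × F) : app (1 : SL₂) w = w := by simp [app]

theorem app_mul (g h : SL₂) (w : F × F) : app (g * h) w = app g (app h w) := by
  simp only [app, Matrix.SpecialLinearGroup.coe_mul, Matrix.mul_apply, Fin.sum_univ_two]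
  ext <;> ring

theorem app_add (g : SL₂) (w z : F × F) : app g (w + z) = app g w + app g z := by
  simp only [app, Prod.fst_add, Prod.snd_add, Prod.mk_add_mk]
  ext <;> ring

theorem app_smul (g : SL₂) (l : F) (w : F × F) : app g (l • w) = l • app g w := by
  simp only [app, Prod.smul_fst, Prod.smul_snd, smul_eq_mul, Prod.smul_mk]
  ext <;> ring

theorem app_inv_app (g : SL₂) (w : F × F) : app g⁻¹ (app g w) = w := by
  rw [← app_mul, inv_mul_cancel, app_one]

theorem app_app_inv (g : SL₂) (w : F × F) : app g (app g⁻¹ w) = w := by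
  rw [← app_mul, mul_inv_cancel, app_one]

theorem app_zero (g : SL₂) : app g 0 = 0 := by simp [app]

theorem app_ne_zero (g : SL₂) {w : F × F} (hw : w ≠ 0) : app g w ≠ 0 := fun h =>
  hw (by rw [← app_inv_app g w, h, app_zero])

theorem ext_app {g h : SL₂} (h1 : app g (1, 0) = app h (1, 0)) (h2 : app g (0, 1) = app h (0, 1)) :
    g = h := by
  simp only [app, mul_one, mul_zero, add_zero, zero_add, Prod.mk.injEq] at h1 h2
  ext i j
  fin_cases i <;> fin_cases j
  · exact h1.1
  · exact h2.1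
  · exact h1.2
  · exact h2.2

theorem br_app [CharP F 2] (g : SL₂) (w z : F × F) : br (app g w) (app g z) = br w z := by
  have hdet := g.2
  rw [Matrix.det_fin_two] at hdet
  have two : (2 : F) = 0 := CharTwo.two_eq_zero
  simp only [br, app]
  linear_combination (w.1 * z.2 + w.2 * z.1) * hdet +
    ((g : Matrix (Fin 2) (Fin 2) F) 0 1 * (g : Matrix (Fin 2) (Fin 2) F) 1 0 * (w.1 * z.2 + w.2 * z.1)
      + (g : Matrix (Fin 2) (Fin 2) F) 0 0 * (g : Matrix (Fin 2) (Fin 2) F) 1 0 * (w.1 * z.1)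
      + (g : Matrix (Fin 2) (Fin 2) F) 0 1 * (g : Matrix (Fin 2) (Fin 2) F) 1 1 * (w.2 * z.2)) * two

theorem e1_ne : ((1, 0) : F × F) ≠ 0 := fun h => one_ne_zero (congrArg Prod.fst h)

theorem e2_ne : ((0, 1) : F × F) ≠ 0 := fun h => one_ne_zero (congrArg Prod.snd h)

theorem eq_smul_of_br [CharP F 2] {w z : F × F} (hw : w ≠ 0) (h : br w z = 0) : ∃ l : F, z = l • w := by
  obtain ⟨w1, w2⟩ := w
  obtain ⟨z1, z2⟩ := z
  have h' : w1 * z2 = w2 * z1 := CharTwo.add_eq_zero.1 h
  by_cases h1 : w1 = 0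
  · have h2 : w2 ≠ 0 := fun h2 => hw (by rw [h1, h2]; rfl)
    refine ⟨z2 / w2, Prod.ext ?_ ?_⟩
    · show z1 = z2 / w2 * w1
      rw [h1, zero_mul] at h'
      rw [h1, mul_zero]
      exact (mul_eq_zero.1 h'.symm).resolve_left h2
    · show z2 = z2 / w2 * w2
      rw [div_mul_cancel₀ _ h2]
  · refine ⟨z1 / w1, Prod.ext ?_ ?_⟩
    · show z1 = z1 / w1 * w1
      rw [div_mul_cancel₀ _ h1]
    · show z2 = z1 / w1 * w2
      field_simp
      linear_combination h'

/-- The upper unitriangular matrix. -/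
def uni (c : F) : SL₂ := ⟨!![1, c; 0, 1], by simp [Matrix.det_fin_two]⟩

/-- The swap. -/
def swp [CharP F 2] : SL₂ := ⟨!![0, 1; 1, 0], by simp [Matrix.det_fin_two, CharTwo.neg_eq]⟩

/-- The diagonal matrix. -/
def dia (m : F) (hm : m ≠ 0) : SL₂ := ⟨!![m, 0; 0, m⁻¹], by simp [Matrix.det_fin_two, hm]⟩

theorem app_uni (c : F) (w : F × F) : app (uni c) w = (w.1 + c * w.2, w.2) := by simp [app, uni]

theorem app_swp [CharP F 2] (w : F × F) : app swp w = (w.2, w.1) := by simp [app, swp]

theorem app_dia (m : F) (hm : m ≠ 0) (w : F × F) : app (dia m hm) w = (m * w.1, m⁻¹ * w.2) := by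
  simp [app, dia]

theorem uni_zero : uni (0 : F) = 1 := ext_app (by simp [app_uni, app_one]) (by simp [app_uni, app_one])

theorem uni_mul (c d : F) : uni c * uni d = uni (c + d) :=
  ext_app (by simp [app_mul, app_uni]) (by simp [app_mul, app_uni]; ring)

theorem swp_swp [CharP F 2] : (swp : SL₂) * swp = 1 :=
  ext_app (by simp [app_mul, app_swp, app_one]) (by simp [app_mul, app_swp, app_one])

theorem dia_uni (m : F) (hm : m ≠ 0) (c : F) : dia m hm * uni c * (dia m hm)⁻¹ = uni (m * m * c) := by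
  rw [mul_inv_eq_iff_eq_mul]
  refine ext_app ?_ ?_ <;> simp [app_mul, app_uni, app_dia] <;> field_simp

theorem uni_injective : Function.Injective (uni : F → SL₂) := fun c d h => by
  simpa [app_uni] using congrArg (fun g => (app g (0, 1)).1) h

/-- A matrix fixing the line of `(1, 0)` is triangular. -/
theorem exists_uni_mul_dia [CharP F 2] {g : SL₂} (h : br (app g (1, 0)) (1, 0) = 0) :
    ∃ (c m : F) (hm : m ≠ 0), g = uni c * dia m hm := by
  simp only [br, app, mul_one, mul_zero, add_zero, zero_add] at h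
  have hdet := g.2
  rw [Matrix.det_fin_two, h, mul_zero, sub_zero] at hdet
  set m := (g : Matrix (Fin 2) (Fin 2) F) 0 0
  have hm : m ≠ 0 := fun h' => one_ne_zero (α := F) (by rw [← hdet, h', zero_mul])
  have hd : (g : Matrix (Fin 2) (Fin 2) F) 1 1 = m⁻¹ :=
    eq_inv_of_mul_eq_one_right hdet
  refine ⟨(g : Matrix (Fin 2) (Fin 2) F) 0 1 * m, m, hm, ext_app ?_ ?_⟩
  · rw [app_mul, app_dia, app_uni]
    simp [app, h, m]
  · rw [app_mul, app_dia, app_uni]
    simp [app, hd]
    field_simp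

end CfsgLib.Recog.RankOneSuzuki
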