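import Cfsg.Agent.Recog.RankOneK
import Cfsg.Agent.Recog.OddInvolution
import Cfsg.Agent.S1124

/-!
# Suzuki's rank one theorem: the special orbit

With `t s t = r⁻¹ t r`, every element of `Q` conjugate under `K` to an element of `Z ∪ r Z` has its
two-point component in the group `K` of inverted elements.
-/

set_option autoImplicit false
set_option linter.unusedSectionVars false
set_option linter.style.haveILetI false

namespace CfsgLib.Recog.RankOneSuzuki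

open MulAction CfsgLib.Recog.RankOne

variable {G Ω : Type*} [Group G] [MulAction G Ω]

local notation "D[" a "," t "]" => stabilizer G a ⊓ stabilizer G (t • a)

/-- The objects attached to a rank one set-up with at least three involutions at a point. -/
structure Data (a : Ω) (t : G) (Q : Subgroup G) where
  /-- The set-up. -/
  setup : Cfsg.IsRankOneSetup G Ω a t Q
  /-- The involutions of the point stabiliser, with `1`. -/
  Z : Subgroup G
  /-- The inverted elements of the two-point stabiliser. -/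
  K : Subgroup G
  /-- The special involution. -/
  s : G
  /-- The special element of `Q`. -/
  r : G
  mem_Z : ∀ x : G, x ∈ Z ↔ x ∈ Q ∧ x * x = 1
  mem_K : ∀ x : G, x ∈ K ↔ x ∈ D[a, t] ∧ t * x * t = x⁻¹
  K_normal : ∀ d ∈ D[a, t], ∀ k ∈ K, d * k * d⁻¹ ∈ K
  K_cyclic : IsCyclic K
  central : ∀ v ∈ Z, ∀ x ∈ Q, v * x = x * v
  fpf : ∀ k ∈ K, k ≠ 1 → ∀ x ∈ Q, k * x = x * k → x = 1
  trans : ∀ v ∈ Z, v ≠ 1 → ∀ w ∈ Z, w ≠ 1 → ∃ k ∈ K, k⁻¹ * v * k = w
  s_mem : s ∈ Z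
  s_ne : s ≠ 1
  r_mem : r ∈ Q
  special : t * s * t = r⁻¹ * t * r
  four_le : 4 ≤ Nat.card Z

theorem exists_data [Finite G] [FaithfulSMul G Ω] {a : Ω} {t : G} {Q : Subgroup G}
    (hS : Cfsg.IsRankOneSetup G Ω a t Q)
    (h2 : ∃ x y : G, x ≠ 1 ∧ y ≠ 1 ∧ x ≠ y ∧ x * x = 1 ∧ y * y = 1 ∧ x * y = y * x) :
    Nonempty (Data a t Q) := by
  classical
  obtain ⟨hcent, hclosed⟩ := invol_central hS h2
  obtain ⟨k₀, hk₀, hset, hnor, -⟩ := exists_kernel hS h2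
  obtain ⟨s, r, hs, hr, he⟩ := exists_special hS
  have hti := t_inv hS
  have hmK : ∀ x : G, x ∈ Subgroup.zpowers k₀ ↔ x ∈ D[a, t] ∧ t * x * t = x⁻¹ := by
    intro x
    rw [← SetLike.mem_coe, hset]
    show x ∈ D[a, t] ∧ t * x * t⁻¹ = x⁻¹ ↔ _
    rw [hti]
  have hinv : ∀ v : G, v ∈ Q → v ≠ 1 → v * v = 1 →
      v ∈ Cfsg.involutionsIn (stabilizer G a : Set G) := fun v hv h1 h => ⟨hS.le hv, h1, h⟩
  let Z : Subgroup G :=
    { carrier := {x | x ∈ Q ∧ x * x = 1}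
      one_mem' := ⟨Q.one_mem, mul_one 1⟩
      inv_mem' := fun {x} hx => ⟨Q.inv_mem hx.1, by rw [← mul_inv_rev, hx.2, inv_one]⟩
      mul_mem' := by
        rintro x y ⟨hx, hx2⟩ ⟨hy, hy2⟩
        refine ⟨Q.mul_mem hx hy, ?_⟩
        by_cases hx1 : x = 1
        · rw [hx1, one_mul, hy2]
        by_cases hy1 : y = 1
        · rw [hy1, mul_one, hx2]
        rcases hclosed x (hinv x hx hx1 hx2) y (hinv y hy hy1 hy2) with h | h
        · rw [h, one_mul]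
        · exact h.2.2 }
  refine ⟨⟨hS, Z, Subgroup.zpowers k₀, s, r, fun x => Iff.rfl, hmK,
    fun d hd c hc => hnor d hd c hc, inferInstance, ?_, ?_, ?_,
    ⟨mem_Q hS hs.1 hs.2.2, hs.2.2⟩, hs.2.1, hr, he.1, ?_⟩⟩
  · rintro v ⟨hv, hv2⟩ x hx
    by_cases hv1 : v = 1
    · rw [hv1, one_mul, mul_one]
    exact (hcent v (hinv v hv hv1 hv2)).2 x hx
  · intro k hk hk1 x hx hkx
    exact inverted_fpf hS (by rw [← hset]; exact hk) hk1 hx hkx.symm
  · rintro v ⟨hv, hv2⟩ hv1 w ⟨hw, hw2⟩ hw1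
    obtain ⟨k, hk, hkv⟩ := inverted_transitive hS (hinv v hv hv1 hv2) (hinv w hw hw1 hw2)
    exact ⟨k, by rw [← SetLike.mem_coe, hset]; exact hk, hkv⟩
  · haveI : Finite Z := inferInstance
    obtain ⟨x, y, hx1, hy1, hne, hx, hy, hxy⟩ := h2
    obtain ⟨p, hp⟩ := exists_fix hS hx
    have hyp : y • p = p := fix_of_commute hS hx1 hx hp hxy.symm
    haveI := pretransitive hS
    obtain ⟨g, hg⟩ := exists_smul_eq G p a
    have hmem : ∀ z : G, z * z = 1 → z • p = p → g * z * g⁻¹ ∈ Z := by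
      intro z hz hzp
      have h1 : g * z * g⁻¹ * (g * z * g⁻¹) = 1 := by
        rw [show g * z * g⁻¹ * (g * z * g⁻¹) = g * (z * z) * g⁻¹ by group, hz]; group
      refine ⟨mem_Q hS ?_ h1, h1⟩
      rw [mul_smul, mul_smul, ← hg, inv_smul_smul, hzp]
    have hxy1 : x * y ≠ 1 := fun h => hne (by
      rw [eq_inv_of_mul_eq_one_left h, inv_eq_of_mul_eq_one_right hy])
    have h1Z : g * 1 * g⁻¹ ∈ Z := by rw [mul_one, mul_inv_cancel]; exact Z.one_mem
    have hxyZ : g * (x * y) * g⁻¹ ∈ Z := by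
      rw [show g * (x * y) * g⁻¹ = g * x * g⁻¹ * (g * y * g⁻¹) by group]
      exact Z.mul_mem (hmem x hx hp) (hmem y hy hyp)
    have hmemf : ∀ i : Fin 4, g * ![1, x, y, x * y] i * g⁻¹ ∈ Z := by
      intro i; fin_cases i
      · exact h1Z
      · exact hmem x hx hp
      · exact hmem y hy hyp
      · exact hxyZ
    let f : Fin 4 → Z := fun i => ⟨_, hmemf i⟩
    have hf : Function.Injective f := by
      intro i j hij
      have hij' := mul_left_cancel (mul_right_cancel (congrArg Subtype.val hij))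
      have e1 : x * y ≠ x := fun h => hy1 (mul_eq_left.1 h)
      have e2 : x * y ≠ y := fun h => hx1 (mul_eq_right.1 h)
      fin_cases i <;> fin_cases j <;>
        first
          | rfl
          | simp [hx1, hy1, hne, hxy1, e1, e2, Ne.symm hx1, Ne.symm hy1, Ne.symm hne,
              Ne.symm hxy1, Ne.symm e1, Ne.symm e2] at hij'
    simpa using Nat.card_le_card_of_injective f hf

/-- The two-point component of `y` lies in `K`. -/
def InK (t : G) (Q K : Subgroup G) (y : G) : Prop :=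
  ∃ g ∈ Q, ∃ k ∈ K, ∃ f ∈ Q, t * y * t = g * k * t * f

namespace Data

variable {a : Ω} {t : G} {Q : Subgroup G} (S : Data a t Q)

include S in
theorem tt : t * t = 1 := S.setup.mul_self

include S in
theorem ti : t⁻¹ = t := t_inv S.setup

include S in
theorem tt_cancel (x : G) : t * (t * x) = x := by rw [← mul_assoc, S.tt, one_mul]

theorem Z_le : S.Z ≤ Q := fun x hx => ((S.mem_Z x).1 hx).1

theorem Z_sq {x : G} (hx : x ∈ S.Z) : x * x = 1 := ((S.mem_Z x).1 hx).2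

theorem K_le : S.K ≤ D[a, t] := fun x hx => ((S.mem_K x).1 hx).1

theorem t_K {k : G} (hk : k ∈ S.K) : t * k * t = k⁻¹ := ((S.mem_K k).1 hk).2

/-- `t k = k⁻¹ t` for an inverted element. -/
theorem t_mul {k : G} (hk : k ∈ S.K) : t * k = k⁻¹ * t := by
  rw [← S.t_K hk, mul_assoc (t * k), S.tt, mul_one]

theorem t_mul_inv {k : G} (hk : k ∈ S.K) : t * k⁻¹ = k * t := by
  simpa using S.t_mul (S.K.inv_mem hk)

theorem conj_Q {k x : G} (hk : k ∈ S.K) (hx : x ∈ Q) : k * x * k⁻¹ ∈ Q :=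
  S.setup.conj_mem k (S.K_le hk).1 x hx

theorem conj_Q' {k x : G} (hk : k ∈ S.K) (hx : x ∈ Q) : k⁻¹ * x * k ∈ Q := by
  simpa using S.conj_Q (S.K.inv_mem hk) hx

theorem conj_Z {k x : G} (hk : k ∈ S.K) (hx : x ∈ S.Z) : k * x * k⁻¹ ∈ S.Z :=
  (S.mem_Z _).2 ⟨S.conj_Q hk (S.Z_le hx), by
    rw [show k * x * k⁻¹ * (k * x * k⁻¹) = k * (x * x) * k⁻¹ by group, S.Z_sq hx]; group⟩

theorem conj_Z' {k x : G} (hk : k ∈ S.K) (hx : x ∈ S.Z) : k⁻¹ * x * k ∈ S.Z := by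
  simpa using S.conj_Z (S.K.inv_mem hk) hx

theorem s_inv : S.s⁻¹ = S.s := inv_eq_of_mul_eq_one_right (S.Z_sq S.s_mem)

/-- `t r t = r t s`. -/
theorem special_r : t * S.r * t = S.r * t * S.s := by
  symm
  calc S.r * t * S.s = S.r * (t * S.s * t) * t := by simp [mul_assoc, S.tt]
    _ = S.r * (S.r⁻¹ * t * S.r) * t := by rw [S.special]
    _ = _ := by group

/-- `t r⁻¹ t = s t r⁻¹`. -/
theorem special_r_inv : t * S.r⁻¹ * t = S.s * t * S.r⁻¹ := by
  calc t * S.r⁻¹ * t = (t * S.r * t)⁻¹ := by simp [mul_assoc, S.ti]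
    _ = (S.r * t * S.s)⁻¹ := by rw [S.special_r]
    _ = _ := by simp [mul_assoc, S.ti, S.s_inv]

theorem inK_r : InK t Q S.K S.r :=
  ⟨S.r, S.r_mem, 1, S.K.one_mem, S.s, S.Z_le S.s_mem, by rw [mul_one, S.special_r]⟩

/-- The component is inverted and twisted by conjugation. -/
theorem inK_conj {y k : G} (hk : k ∈ S.K) (hy : InK t Q S.K y) :
    InK t Q S.K (k * y * k⁻¹) := by
  obtain ⟨g, hg, h, hh, f, hf, he⟩ := hy
  refine ⟨k⁻¹ * g * k, S.conj_Q' hk hg, k⁻¹ * h * k⁻¹, S.K.mul_mem (S.K.mul_mem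
    (S.K.inv_mem hk) hh) (S.K.inv_mem hk), k⁻¹ * f * k, S.conj_Q' hk hf, ?_⟩
  have h1 : t * (k * y * k⁻¹) * t = k⁻¹ * (t * y * t) * k := by
    calc t * (k * y * k⁻¹) * t = (t * k) * y * (k⁻¹ * t) := by group
      _ = (k⁻¹ * t) * y * (t * k) := by rw [S.t_mul hk]
      _ = _ := by group
  rw [h1, he, show k⁻¹ * g * k * (k⁻¹ * h * k⁻¹) * t * (k⁻¹ * f * k) =
    k⁻¹ * g * h * (k⁻¹ * t) * (k⁻¹ * f * k) by group, ← S.t_mul hk]
  group

/-- The decomposition of the involution `k⁻¹ s k`. -/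
theorem decomp_Z {k : G} (hk : k ∈ S.K) :
    t * (k⁻¹ * S.s * k) * t = k * S.r⁻¹ * k⁻¹ * (k * k) * t * (k * S.r * k⁻¹) := by
  calc t * (k⁻¹ * S.s * k) * t = (t * k⁻¹) * S.s * (k * t) := by group
    _ = (k * t) * S.s * (t * k⁻¹) := by rw [S.t_mul_inv hk]
    _ = k * (t * S.s * t) * k⁻¹ := by group
    _ = k * (S.r⁻¹ * t * S.r) * k⁻¹ := by rw [S.special]
    _ = k * S.r⁻¹ * (t * k⁻¹) * (k * S.r * k⁻¹) := by group
    _ = k * S.r⁻¹ * (k * t) * (k * S.r * k⁻¹) := by rw [S.t_mul_inv hk]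
    _ = _ := by group

theorem inK_Z {v : G} (hv : v ∈ S.Z) (hv1 : v ≠ 1) : InK t Q S.K v := by
  obtain ⟨k, hk, rfl⟩ := S.trans S.s S.s_mem S.s_ne v hv hv1
  exact ⟨_, S.conj_Q hk (Q.inv_mem S.r_mem), _, S.K.mul_mem hk hk, _, S.conj_Q hk S.r_mem,
    S.decomp_Z hk⟩

include S in
theorem exists_decomp [Finite G] {y : G} (hy : y ∈ Q) (hy1 : y ≠ 1) :
    ∃ g ∈ Q, ∃ h ∈ D[a, t], ∃ f ∈ Q, t * y * t = g * h * t * f := by
  have hne : (t * y * t) • a ≠ a := by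
    intro h
    rw [mul_smul, mul_smul] at h
    exact hy1 (eq_one_of_mem_D S.setup hy
      (smul_left_cancel t (h.trans (t_b S.setup).symm)))
  obtain ⟨⟨x, f⟩, ⟨hx, hf, he⟩, -⟩ := bruhat S.setup hne
  obtain ⟨g, hg, h, hh, rfl⟩ := exists_mul S.setup hx
  exact ⟨g, hg, h, hh, f, hf, he⟩

theorem exists_K_mul_V [Finite G] {h : G} (hh : h ∈ D[a, t]) :
    ∃ v ∈ D[a, t], v * t = t * v ∧ ∃ k ∈ S.K, h = v * k := by
  have ho : orderOf t = 2 := orderOf_eq_prime (by rw [pow_two]; exact S.tt) S.setup.ne_one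
  obtain ⟨h1, -, -⟩ := Cfsg.Agent.S1124.result t ho (D[a, t]) S.setup.odd_card fun x hx => by
    rw [S.ti]; exact t_norm S.setup x hx
  obtain ⟨⟨v, k⟩, ⟨hv, hk, he⟩, -⟩ := h1 h hh
  refine ⟨v, hv.1, Subgroup.mem_centralizer_singleton_iff.1 hv.2, k, (S.mem_K k).2 ⟨hk.1, ?_⟩, he⟩
  have := hk.2
  rwa [S.ti] at this

/-- An element of `D` equal to a twist of its reflected inverse lies in `K`. -/
theorem mem_K_of_twist [Finite G] {h k : G} (hh : h ∈ D[a, t]) (hk : k ∈ S.K)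
    (he : h = k⁻¹ * (t * h⁻¹ * t) * k) : h ∈ S.K := by
  obtain ⟨v, hv, hvt, c, hc, rfl⟩ := S.exists_K_mul_V hh
  have hvt' : t * v⁻¹ * t = v⁻¹ := by
    have h1 : t * v⁻¹ = v⁻¹ * t := by
      rw [eq_inv_mul_iff_mul_eq, ← mul_assoc, hvt, mul_inv_cancel_right]
    rw [h1, mul_assoc, S.tt, mul_one]
  have h1 : t * (v * c)⁻¹ * t = c * v⁻¹ := by
    rw [mul_inv_rev, show t * (c⁻¹ * v⁻¹) * t = (t * c⁻¹ * t) * (t⁻¹ * v⁻¹ * t) by group, S.ti,
      hvt', S.t_K (S.K.inv_mem hc), inv_inv]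
  rw [h1] at he
  -- the square of the centralised part is inverted
  have hm : v * v ∈ S.K := by
    have e1 : v * c * v⁻¹ ∈ S.K := S.K_normal v hv c hc
    have e2 : v⁻¹ * k * v ∈ S.K := by simpa using S.K_normal v⁻¹ (inv_mem hv) k hk
    have e3 : (v * c * v⁻¹)⁻¹ * (k⁻¹ * c * (v⁻¹ * k * v)) = v * v := by
      rw [show (v * c * v⁻¹)⁻¹ * (k⁻¹ * c * (v⁻¹ * k * v)) =
        v * c⁻¹ * v⁻¹ * (k⁻¹ * (c * v⁻¹) * k) * v by group, ← he]
      group
    rw [← e3]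
    exact S.K.mul_mem (S.K.inv_mem e1) (S.K.mul_mem (S.K.mul_mem (S.K.inv_mem hk) hc) e2)
  have hfix : t * (v * v) * t = v * v := by
    rw [show t * (v * v) * t = (t * v) * (v * t) by group, hvt, ← hvt,
      show v * t * (v * t) = v * t * (t * v) by rw [hvt], mul_assoc, S.tt_cancel]
  have h4 : v * v * (v * v) = 1 := by
    have := S.t_K hm
    rw [hfix] at this
    exact mul_eq_one_iff_eq_inv.2 this
  have hv1 : v = 1 := by
    have hd : orderOf v ∣ 4 := orderOf_dvd_of_pow_eq_one (by rw [← h4]; simp [pow_succ, mul_assoc])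
    have ho : Odd (orderOf v) := S.setup.odd_card.of_dvd_nat (Subgroup.orderOf_dvd_natCard _ hv)
    have : orderOf v ∣ 1 := by
      refine Nat.Coprime.dvd_of_dvd_mul_right ?_ (show orderOf v ∣ 1 * 4 by simpa using hd)
      exact Nat.Coprime.pow_right 2 (Nat.coprime_two_right.2 ho)
    rwa [Nat.dvd_one, orderOf_eq_one_iff] at this
  rw [hv1, one_mul]
  exact hc

/-- The components of the elements of `r Z` lie in `K`. -/
theorem inK_r_mul [Finite G] {v : G} (hv : v ∈ S.Z) (hne : S.r * v ≠ 1) :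
    InK t Q S.K (S.r * v) := by
  by_cases hv1 : v = 1
  · rw [hv1, mul_one]; exact S.inK_r
  obtain ⟨k, hk, rfl⟩ := S.trans S.s S.s_mem S.s_ne v hv hv1
  set v := k⁻¹ * S.s * k with hvdef
  obtain ⟨g, hg, h, hh, f, hf, he⟩ := S.exists_decomp (Q.mul_mem S.r_mem (S.Z_le hv)) hne
  set w := (S.r * v)⁻¹ with hw
  have hvi : v⁻¹ = v := inv_eq_of_mul_eq_one_right (S.Z_sq hv)
  have hwd : t * w * t = f⁻¹ * (t * h⁻¹ * t) * t * g⁻¹ := by
    have h1 : t * w * t = (t * (S.r * v) * t)⁻¹ := by rw [hw]; simp [mul_assoc, S.ti]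
    rw [h1, he]
    simp [mul_assoc, S.ti, S.tt_cancel]
  have hsg : S.s * (k * S.r⁻¹ * k⁻¹) = k * w * k⁻¹ := by
    rw [hw, mul_inv_rev, hvi, hvdef]; group
  have hh' : t * h⁻¹ * t ∈ D[a, t] := t_norm S.setup _ (inv_mem hh)
  have hmain : t * (S.r * v) * t =
      (S.r * (k⁻¹ * f⁻¹ * k)) * (k⁻¹ * (t * h⁻¹ * t) * k) * t *
        ((k * g⁻¹ * k⁻¹) * (k * S.r * k⁻¹)) := by
    calc t * (S.r * v) * t = (t * S.r * t) * (t * v * t) := by simp [mul_assoc, S.tt_cancel]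
      _ = (S.r * t * S.s) * (k * S.r⁻¹ * k⁻¹ * (k * k) * t * (k * S.r * k⁻¹)) := by
        rw [S.special_r, hvdef, S.decomp_Z hk]
      _ = S.r * (t * (S.s * (k * S.r⁻¹ * k⁻¹))) * ((k * k) * t) * (k * S.r * k⁻¹) := by group
      _ = S.r * (t * (k * w * k⁻¹)) * ((k * k) * t) * (k * S.r * k⁻¹) := by rw [hsg]
      _ = S.r * ((t * k) * w * (k * t)) * (k * S.r * k⁻¹) := by group
      _ = S.r * ((k⁻¹ * t) * w * (t * k⁻¹)) * (k * S.r * k⁻¹) := by
        rw [S.t_mul hk, S.t_mul_inv hk]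
      _ = S.r * (k⁻¹ * (t * w * t) * k⁻¹) * (k * S.r * k⁻¹) := by group
      _ = S.r * (k⁻¹ * (f⁻¹ * (t * h⁻¹ * t) * t * g⁻¹) * k⁻¹) * (k * S.r * k⁻¹) := by rw [hwd]
      _ = S.r * k⁻¹ * f⁻¹ * (t * h⁻¹ * t) * (t * k⁻¹) * (k * g⁻¹ * S.r * k⁻¹) := by group
      _ = S.r * k⁻¹ * f⁻¹ * (t * h⁻¹ * t) * (k * t) * (k * g⁻¹ * S.r * k⁻¹) := by
        rw [S.t_mul_inv hk]
      _ = _ := by group
  have hkD := S.K_le hk
  obtain ⟨-, hh2, -⟩ := decomp_unique S.setup hg hh hf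
    (Q.mul_mem S.r_mem (S.conj_Q' hk (Q.inv_mem hf)))
    ((D[a, t]).mul_mem ((D[a, t]).mul_mem ((D[a, t]).inv_mem hkD) hh') hkD)
    (Q.mul_mem (S.conj_Q hk (Q.inv_mem hg)) (S.conj_Q hk S.r_mem)) (he.symm.trans hmain)
  exact ⟨g, hg, h, S.mem_K_of_twist hh hk hh2, f, hf, he⟩

end Data

end CfsgLib.Recog.RankOneSuzuki
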