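import Cfsg.Agent.Recog.RankOneSuzuki.Special

/-!
# Suzuki's rank one theorem: the subgroup generated by `Q`, `K` and `t`

If all two-point components of the elements of `Q` lie in `K`, then `⟨Q, K, t⟩` is a simple normal
subgroup of odd index and a Zassenhaus group with two-point stabiliser `K`.
-/

set_option autoImplicit false
set_option linter.unusedSectionVars false
set_option linter.style.haveILetI false

namespace CfsgLib.Recog.RankOneSuzuki

open MulAction CfsgLib.Recog.RankOne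

variable {G Ω : Type*} [Group G] [MulAction G Ω]

local notation "D[" a "," t "]" => stabilizer G a ⊓ stabilizer G (t • a)

namespace Data

variable {a : Ω} {t : G} {Q : Subgroup G} (S : Data a t Q)

/-- The subgroup generated by `Q`, `K` and `t`. -/
def L : Subgroup G := Subgroup.closure ((Q : Set G) ∪ (S.K : Set G) ∪ {t})

theorem Q_le_L : Q ≤ S.L := fun _ hx => Subgroup.subset_closure (Or.inl (Or.inl hx))

theorem K_le_L : S.K ≤ S.L := fun _ hx => Subgroup.subset_closure (Or.inl (Or.inr hx))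

theorem t_mem_L : t ∈ S.L := Subgroup.subset_closure (Or.inr rfl)

/-- All components lie in `K`. -/
def IsSplit : Prop := ∀ y ∈ Q, y ≠ 1 → InK t Q S.K y

/-- The two cells. -/
def Cell (x : G) : Prop :=
  (∃ g ∈ Q, ∃ k ∈ S.K, x = g * k) ∨ ∃ g ∈ Q, ∃ k ∈ S.K, ∃ f ∈ Q, x = g * k * t * f

theorem cell_mul_Q {g x : G} (hg : g ∈ Q) (hx : S.Cell x) : S.Cell (g * x) := by
  rcases hx with ⟨g', hg', k, hk, rfl⟩ | ⟨g', hg', k, hk, f, hf, rfl⟩
  · exact Or.inl ⟨g * g', Q.mul_mem hg hg', k, hk, by group⟩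
  · exact Or.inr ⟨g * g', Q.mul_mem hg hg', k, hk, f, hf, by group⟩

theorem cell_mul_K {c x : G} (hc : c ∈ S.K) (hx : S.Cell x) : S.Cell (c * x) := by
  rcases hx with ⟨g, hg, k, hk, rfl⟩ | ⟨g, hg, k, hk, f, hf, rfl⟩
  · exact Or.inl ⟨c * g * c⁻¹, S.conj_Q hc hg, c * k, S.K.mul_mem hc hk, by group⟩
  · exact Or.inr ⟨c * g * c⁻¹, S.conj_Q hc hg, c * k, S.K.mul_mem hc hk, f, hf, by group⟩

theorem cell_mul_t (hsplit : S.IsSplit) {x : G} (hx : S.Cell x) : S.Cell (t * x) := by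
  rcases hx with ⟨g, hg, k, hk, rfl⟩ | ⟨g, hg, k, hk, f, hf, rfl⟩
  · refine Or.inr ⟨1, Q.one_mem, k⁻¹, S.K.inv_mem hk, k⁻¹ * g * k, S.conj_Q' hk hg, ?_⟩
    rw [one_mul, ← S.t_mul hk]; group
  · by_cases hg1 : g = 1
    · refine Or.inl ⟨k⁻¹ * f * k, S.conj_Q' hk hf, k⁻¹, S.K.inv_mem hk, ?_⟩
      rw [hg1, show t * (1 * k * t * f) = (t * k * t) * f by group, S.t_K hk]
      group
    obtain ⟨g', hg', h, hh, f', hf', he⟩ := hsplit g hg hg1
    refine Or.inr ⟨g', hg', h * k, S.K.mul_mem hh hk, k * f' * k⁻¹ * f,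
      Q.mul_mem (S.conj_Q hk hf') hf, ?_⟩
    calc t * (g * k * t * f) = (t * g * t) * (t * k * t) * f := by simp [mul_assoc, S.tt_cancel]
      _ = g' * h * (t * k⁻¹) * (k * f' * k⁻¹ * f) := by rw [he, S.t_K hk]; group
      _ = _ := by rw [S.t_mul_inv hk]; group

theorem cell_of_mem (hsplit : S.IsSplit) {x : G} (hx : x ∈ S.L) : S.Cell x := by
  refine Subgroup.closure_induction_left (p := fun x _ => S.Cell x)
    (Or.inl ⟨1, Q.one_mem, 1, S.K.one_mem, by group⟩) (fun g hg y _ hy => ?_)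
    (fun g hg y _ hy => ?_) hx
  · rcases hg with (hg | hg) | hg
    · exact S.cell_mul_Q hg hy
    · exact S.cell_mul_K hg hy
    · rw [Set.mem_singleton_iff.1 hg]; exact S.cell_mul_t hsplit hy
  · rcases hg with (hg | hg) | hg
    · exact S.cell_mul_Q (Q.inv_mem hg) hy
    · exact S.cell_mul_K (S.K.inv_mem hg) hy
    · rw [Set.mem_singleton_iff.1 hg, S.ti]; exact S.cell_mul_t hsplit hy

theorem fix_b {k : G} (hk : k ∈ S.K) : k • t • a = t • a := (S.K_le hk).2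

theorem mem_L_stab (hsplit : S.IsSplit) {x : G} (hx : x ∈ S.L) (hxa : x • a = a) :
    ∃ g ∈ Q, ∃ k ∈ S.K, x = g * k := by
  rcases S.cell_of_mem hsplit hx with h | ⟨g, hg, k, hk, f, hf, rfl⟩
  · exact h
  · rw [mul_smul, fix_a S.setup hf, mul_smul, mul_smul, S.fix_b hk] at hxa
    exact absurd hxa (smul_ne_a S.setup hg (b_ne S.setup))

theorem mem_L_D (hsplit : S.IsSplit) {x : G} (hx : x ∈ S.L) (hxa : x • a = a)
    (hxb : x • t • a = t • a) : x ∈ S.K := by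
  obtain ⟨g, hg, k, hk, rfl⟩ := S.mem_L_stab hsplit hx hxa
  rw [mul_smul, S.fix_b hk] at hxb
  rwa [eq_one_of_mem_D S.setup hg hxb, one_mul]

theorem L_trans (p : Ω) : ∃ l ∈ S.L, l • p = a := by
  by_cases hp : p = a
  · exact ⟨1, S.L.one_mem, by rw [one_smul, hp]⟩
  obtain ⟨q, hq, hqp⟩ := exists_mem_smul S.setup hp
  exact ⟨t * q⁻¹, S.L.mul_mem S.t_mem_L (S.L.inv_mem (S.Q_le_L hq)), by
    rw [mul_smul, ← hqp, inv_smul_smul, t_b S.setup]⟩

theorem exists_pair_L {p q : Ω} (h : p ≠ q) : ∃ l ∈ S.L, l • p = a ∧ l • q = t • a := by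
  obtain ⟨l, hl, hlp⟩ := S.L_trans p
  have hne : l • q ≠ a := fun h' => h (smul_left_cancel l (hlp.trans h'.symm))
  obtain ⟨x, hx, hxq⟩ := exists_mem_smul S.setup hne
  exact ⟨x⁻¹ * l, S.L.mul_mem (S.L.inv_mem (S.Q_le_L hx)) hl,
    by rw [mul_smul, hlp, inv_smul_eq_iff, fix_a S.setup hx],
    by rw [mul_smul, ← hxq, inv_smul_smul]⟩

theorem setup_L [Finite G] :
    Cfsg.IsRankOneSetup S.L Ω a ⟨t, S.t_mem_L⟩ (Q.subgroupOf S.L) where
  two_transitive := by
    rw [is_two_pretransitive_iff]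
    intro p q p' q' h h'
    obtain ⟨l, hl, h1, h2⟩ := S.exists_pair_L h
    obtain ⟨l', hl', h1', h2'⟩ := S.exists_pair_L h'
    refine ⟨⟨l'⁻¹ * l, S.L.mul_mem (S.L.inv_mem hl') hl⟩, ?_, ?_⟩
    · show (l'⁻¹ * l) • p = p'
      rw [mul_smul, h1, ← h1', inv_smul_smul]
    · show (l'⁻¹ * l) • q = q'
      rw [mul_smul, h2, ← h2', inv_smul_smul]
  mul_self := Subtype.ext S.setup.mul_self
  ne_one := fun h => S.setup.ne_one (congrArg Subtype.val h)
  not_mem := fun h => S.setup.not_mem h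
  le := fun x hx => S.setup.le hx
  conj_mem := fun h hh x hx => S.setup.conj_mem h hh x hx
  inf_eq_bot := by
    rw [eq_bot_iff]
    rintro x ⟨hxQ, hxb⟩
    exact Subgroup.mem_bot.2 (Subtype.ext (eq_one_of_mem_D S.setup hxQ hxb))
  sup_eq := by
    refine le_antisymm (sup_le (fun x hx => S.setup.le hx) inf_le_left) fun x hx => ?_
    obtain ⟨g, hg, d, hd, he⟩ := exists_mul S.setup (show (x : G) • a = a from hx)
    have hdL : d ∈ S.L := by
      rw [show d = g⁻¹ * x by rw [he, inv_mul_cancel_left]]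
      exact S.L.mul_mem (S.L.inv_mem (S.Q_le_L hg)) x.2
    rw [show x = ⟨g, S.Q_le_L hg⟩ * ⟨d, hdL⟩ from Subtype.ext he]
    exact Subgroup.mul_mem_sup hg ⟨hd.1, hd.2⟩
  even_card := by
    rw [Nat.card_congr (Subgroup.subgroupOfEquivOfLe S.Q_le_L).toEquiv]
    exact S.setup.even_card
  odd_card := by
    refine S.setup.odd_card.of_dvd_nat ?_
    refine Subgroup.card_dvd_of_injective
      ({ toFun := fun x => ⟨((x : S.L) : G), x.2.1, x.2.2⟩
         map_one' := rfl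
         map_mul' := fun _ _ => rfl } : ↥(stabilizer S.L a ⊓
          stabilizer S.L ((⟨t, S.t_mem_L⟩ : S.L) • a)) →* ↥(D[a, t])) fun x y h => ?_
    exact Subtype.ext (Subtype.ext (congrArg Subtype.val h :))

theorem exists_two [Finite G] : ∃ x ∈ S.Z, x ≠ 1 ∧ x ≠ S.s := by
  by_contra h
  push Not at h
  have h1 : (S.Z : Set G) ⊆ {1, S.s} := fun x hx => by
    by_cases hx1 : x = 1
    · exact Or.inl hx1
    · exact Or.inr (h x hx hx1)
  have h2 := Set.ncard_le_ncard h1 (Set.toFinite _)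
  have h3 : ({1, S.s} : Set G).ncard ≤ 2 := (Set.ncard_insert_le _ _).trans (by simp)
  have h4 := S.four_le
  rw [← Nat.card_coe_set_eq (S.Z : Set G)] at h2
  simp only [SetLike.coe_sort_coe] at h2
  omega

theorem exists_K_ne [Finite G] : ∃ k ∈ S.K, k ≠ 1 := by
  obtain ⟨x, hx, hx1, hxs⟩ := S.exists_two
  obtain ⟨k, hk, hkx⟩ := S.trans S.s S.s_mem S.s_ne x hx hx1
  exact ⟨k, hk, fun h => hxs (by rw [← hkx, h]; group)⟩

theorem two_L [Finite G] : ∃ x y : S.L, x ≠ 1 ∧ y ≠ 1 ∧ x ≠ y ∧ x * x = 1 ∧ y * y = 1 ∧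
    x * y = y * x := by
  obtain ⟨x, hx, hx1, hxs⟩ := S.exists_two
  exact ⟨⟨x, S.Q_le_L (S.Z_le hx)⟩, ⟨S.s, S.Q_le_L (S.Z_le S.s_mem)⟩,
    fun h => hx1 (congrArg Subtype.val h), fun h => S.s_ne (congrArg Subtype.val h),
    fun h => hxs (congrArg Subtype.val h), Subtype.ext (S.Z_sq hx),
    Subtype.ext (S.Z_sq S.s_mem), Subtype.ext (S.central x hx _ (S.Z_le S.s_mem))⟩

variable [Finite G] [FaithfulSMul G Ω]

theorem isSimpleGroup_L : IsSimpleGroup S.L := by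
  classical
  have hSL := S.setup_L
  haveI : Nontrivial S.L := ⟨⟨⟨t, S.t_mem_L⟩, 1, hSL.ne_one⟩⟩
  refine ⟨fun N hN => ?_⟩
  by_cases hN1 : N = ⊥
  · exact Or.inl hN1
  right
  haveI := pretransitive hSL
  have hcore : Cfsg.pPrimeCore 2 S.L = ⊥ := by
    rw [pPrimeCore_eq hSL S.two_L, eq_bot_iff]
    intro x hx
    refine Subgroup.mem_bot.2 (FaithfulSMul.eq_of_smul_eq_smul fun c : Ω => ?_)
    obtain ⟨g, hg⟩ := exists_smul_eq S.L a c
    have h1 := mem_stabilizer_iff.1 (Subgroup.normalCore_le _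
      ((Subgroup.normalCore_normal (stabilizer S.L a)).conj_mem x hx g⁻¹))
    rw [inv_inv, mul_smul, mul_smul, hg, inv_smul_eq_iff, hg] at h1
    rw [h1, one_smul]
  have heven : 2 ∣ Nat.card N := by
    by_contra h
    refine hN1 (eq_bot_iff.2 (hcore ▸ le_sSup ⟨hN, ?_⟩))
    exact ((Nat.Prime.coprime_iff_not_dvd Nat.prime_two).2 h).symm
  obtain ⟨w, hw⟩ := exists_prime_orderOf_dvd_card' 2 heven
  have hw1 : (w : S.L) ≠ 1 := fun h => by
    rw [← orderOf_submonoid, h, orderOf_one] at hw; omega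
  have hw2 : (w : S.L) * w = 1 := by
    have := pow_orderOf_eq_one w
    rw [hw, pow_two] at this
    exact congrArg Subtype.val this
  have hinv : ∀ x : S.L, x ≠ 1 → x * x = 1 → x ∈ N := by
    intro x hx1 hx2
    obtain ⟨g, hg⟩ := exists_conj hSL hw1 hw2 hx1 hx2
    exact hg ▸ hN.conj_mem _ w.2 g
  have hK : ∀ k (hk : k ∈ S.K), (⟨k, S.K_le_L hk⟩ : S.L) ∈ N := by
    intro k hk
    set T : S.L := ⟨t, S.t_mem_L⟩
    set R : S.L := ⟨k * S.r * k⁻¹, S.Q_le_L (S.conj_Q hk S.r_mem)⟩ with hR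
    set K' : S.L := ⟨k * k, S.K_le_L (S.K.mul_mem hk hk)⟩
    have hv := S.conj_Z' hk S.s_mem
    set X : S.L := ⟨k⁻¹ * S.s * k, S.Q_le_L (S.Z_le hv)⟩
    have hT : T ∈ N := hinv T hSL.ne_one (Subtype.ext S.tt)
    have hX : X ∈ N := hinv X (fun h => S.s_ne (by
      have : k⁻¹ * S.s * k = 1 := congrArg Subtype.val h
      calc S.s = k * (k⁻¹ * S.s * k) * k⁻¹ := by group
        _ = 1 := by rw [this]; group)) (Subtype.ext (S.Z_sq hv))
    have hTXT : T * X * T = R⁻¹ * K' * R * (R⁻¹ * T * R⁻¹⁻¹) := Subtype.ext (by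
      show t * (k⁻¹ * S.s * k) * t = (k * S.r * k⁻¹)⁻¹ * (k * k) * (k * S.r * k⁻¹) *
        ((k * S.r * k⁻¹)⁻¹ * t * (k * S.r * k⁻¹)⁻¹⁻¹)
      rw [S.decomp_Z hk]; group)
    have h1 : R⁻¹ * K' * R ∈ N := by
      have h := N.mul_mem (hTXT ▸ N.mul_mem (N.mul_mem hT hX) hT)
        (N.inv_mem (hN.conj_mem T hT R⁻¹))
      rwa [mul_inv_cancel_right] at h
    have h2 : K' ∈ N := by
      have h := hN.conj_mem _ h1 R
      simpa [mul_assoc] using h
    obtain ⟨i, hi⟩ : Odd (orderOf (⟨k, S.K_le_L hk⟩ : S.L)) := by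
      rw [← orderOf_submonoid]
      exact S.setup.odd_card.of_dvd_nat (Subgroup.orderOf_dvd_natCard _ (S.K_le hk))
    have h3 : (⟨k, S.K_le_L hk⟩ : S.L) = K' ^ (i + 1) := by
      have hK' : K' = (⟨k, S.K_le_L hk⟩ : S.L) ^ 2 := by
        rw [pow_two]; exact Subtype.ext rfl
      rw [hK', ← pow_mul, show 2 * (i + 1) = (2 * i + 1) + 1 by ring, pow_succ, ← hi,
        pow_orderOf_eq_one, one_mul]
    rw [h3]
    exact N.pow_mem h2 _
  obtain ⟨k, hk, hk1⟩ := S.exists_K_ne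
  have hQ : ∀ y (hy : y ∈ Q), (⟨y, S.Q_le_L hy⟩ : S.L) ∈ N := by
    intro y hy
    let F : Q → Q := fun x => ⟨(x : G)⁻¹ * (k * x * k⁻¹), Q.mul_mem (Q.inv_mem x.2) (S.conj_Q hk x.2)⟩
    have hF : Function.Injective F := by
      intro x x' h
      have h' : (x : G)⁻¹ * (k * x * k⁻¹) = (x' : G)⁻¹ * (k * x' * k⁻¹) := congrArg Subtype.val h
      have h3 : k * ((x' : G) * (x : G)⁻¹) * k⁻¹ = (x' : G) * (x : G)⁻¹ := by
        calc k * ((x' : G) * (x : G)⁻¹) * k⁻¹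
            = (k * x' * k⁻¹) * (k * x * k⁻¹)⁻¹ := by group
          _ = (x' : G) * ((x' : G)⁻¹ * (k * x' * k⁻¹)) * (k * x * k⁻¹)⁻¹ := by group
          _ = (x' : G) * ((x : G)⁻¹ * (k * x * k⁻¹)) * (k * x * k⁻¹)⁻¹ := by rw [h']
          _ = _ := by group
      have := S.fpf k hk hk1 _ (Q.mul_mem x'.2 (Q.inv_mem x.2)) (mul_inv_eq_iff_eq_mul.1 h3)
      exact Subtype.ext (mul_inv_eq_one.1 this).symm
    obtain ⟨x, hx⟩ := (Finite.injective_iff_surjective.1 hF) ⟨y, hy⟩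
    have hx' : (x : G)⁻¹ * (k * x * k⁻¹) = y := congrArg Subtype.val hx
    have h : (⟨x, S.Q_le_L x.2⟩ : S.L)⁻¹ * ⟨k, S.K_le_L hk⟩ * ⟨x, S.Q_le_L x.2⟩⁻¹⁻¹ *
        (⟨k, S.K_le_L hk⟩ : S.L)⁻¹ ∈ N := N.mul_mem (hN.conj_mem _ (hK k hk) _) (N.inv_mem (hK k hk))
    convert h using 1
    apply Subtype.ext
    show y = (x : G)⁻¹ * k * ((x : G)⁻¹)⁻¹ * k⁻¹
    rw [← hx']; group
  rw [eq_top_iff]
  rintro ⟨x, hx⟩ -
  suffices h : S.L ≤ N.map S.L.subtype by
    obtain ⟨z, hz, he⟩ := h hx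
    rwa [show (⟨x, hx⟩ : S.L) = z from Subtype.ext he.symm]
  refine (Subgroup.closure_le _).2 ?_
  rintro z ((hz | hz) | hz)
  · exact ⟨_, hQ z hz, rfl⟩
  · exact ⟨_, hK z hz, rfl⟩
  · rw [Set.mem_singleton_iff.1 hz]
    exact ⟨_, hinv ⟨t, S.t_mem_L⟩ hSL.ne_one (Subtype.ext S.tt), rfl⟩

theorem invol_mem_L {u : G} (hu : u * u = 1) : u ∈ S.L := by
  obtain ⟨p, hp⟩ := exists_fix S.setup hu
  obtain ⟨l, hl, hlp⟩ := S.L_trans p
  have h1 : l * u * l⁻¹ * (l * u * l⁻¹) = 1 := by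
    rw [show l * u * l⁻¹ * (l * u * l⁻¹) = l * (u * u) * l⁻¹ by group, hu]; group
  have h2 : l * u * l⁻¹ ∈ S.L := S.Q_le_L (mem_Q S.setup (by
    rw [mul_smul, mul_smul, ← hlp, inv_smul_smul, hp]) h1)
  have := S.L.mul_mem (S.L.mul_mem (S.L.inv_mem hl) h2) hl
  simpa [mul_assoc] using this

theorem L_normal : S.L.Normal := by
  haveI := S.isSimpleGroup_L
  set I : Set G := {u | u * u = 1} with hI
  have hle : Subgroup.closure I ≤ S.L := (Subgroup.closure_le _).2 fun u hu => S.invol_mem_L hu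
  haveI hn : (Subgroup.closure I).Normal := ⟨fun x hx g => by
    induction hx using Subgroup.closure_induction with
    | mem u hu =>
      refine Subgroup.subset_closure ?_
      show g * u * g⁻¹ * (g * u * g⁻¹) = 1
      rw [show g * u * g⁻¹ * (g * u * g⁻¹) = g * (u * u) * g⁻¹ by group, show u * u = 1 from hu]
      group
    | one => simp
    | mul x y _ _ h1 h2 => simpa [mul_assoc] using mul_mem h1 h2
    | inv x _ h => simpa [mul_assoc] using inv_mem h⟩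
  haveI : ((Subgroup.closure I).subgroupOf S.L).Normal := inferInstance
  rcases IsSimpleGroup.eq_bot_or_eq_top_of_normal ((Subgroup.closure I).subgroupOf S.L)
    inferInstance with h | h
  · have : (⟨t, S.t_mem_L⟩ : S.L) ∈ (Subgroup.closure I).subgroupOf S.L :=
      Subgroup.subset_closure S.tt
    rw [h] at this
    exact absurd (congrArg Subtype.val (Subgroup.mem_bot.1 this)) S.setup.ne_one
  · rw [← le_antisymm hle (Subgroup.subgroupOf_eq_top.1 h)]
    exact hn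

theorem L_index_odd : Odd S.L.index := by
  refine Odd.of_dvd_nat ?_ (Subgroup.index_dvd_of_le S.Q_le_L)
  have h : Q.index = Nat.card ↥(D[a, t]) * (Nat.card Q + 1) := by
    refine Nat.eq_of_mul_eq_mul_left (show 0 < Nat.card Q from Nat.card_pos) ?_
    rw [Subgroup.card_mul_index, card_group S.setup, mul_assoc]
  rw [h]
  exact S.setup.odd_card.mul S.setup.even_card.add_one

theorem zassenhaus_L (hsplit : S.IsSplit) : Cfsg.IsZassenhausGroup S.L Ω := by
  haveI := S.isSimpleGroup_L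
  have hSL := S.setup_L
  obtain ⟨k, hk, hk1⟩ := S.exists_K_ne
  have hka : k • a = a := (S.K_le hk).1
  refine ⟨⟨fun h => Subtype.ext (FaithfulSMul.eq_of_smul_eq_smul h)⟩, hSL.two_transitive, ?_,
    ⟨⟨k, S.K_le_L hk⟩, fun h => hk1 (congrArg Subtype.val h), a, t • a, (b_ne S.setup).symm,
      hka, S.fix_b hk⟩, ?_⟩
  · rintro ⟨g, hg⟩ p q c hpq hqc hpc hgp hgq hgc
    apply Subtype.ext
    show g = 1
    change g • p = p at hgp
    change g • q = q at hgq
    change g • c = c at hgc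
    obtain ⟨l, hl, hlp, hlq⟩ := S.exists_pair_L hpq
    have hc : ∀ x : Ω, g • x = x → (l * g * l⁻¹) • l • x = l • x := fun x hx => by
      rw [mul_smul, mul_smul, inv_smul_smul, hx]
    have h1 := S.mem_L_D hsplit (S.L.mul_mem (S.L.mul_mem hl hg) (S.L.inv_mem hl))
      (by simpa [hlp] using hc p hgp) (by simpa [hlq] using hc q hgq)
    have hca : l • c ≠ a := fun h => hpc (smul_left_cancel l (hlp.trans h.symm))
    obtain ⟨y, hy, hyc⟩ := exists_mem_smul S.setup hca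
    by_contra hg1
    have hl1 : l * g * l⁻¹ ≠ 1 := fun h => hg1 (conj_eq_one_iff.1 h)
    have hy1 : y = 1 := S.fpf _ h1 hl1 y hy (commute_of_fix S.setup (S.K_le h1).1 hy
      (b_ne S.setup) (S.fix_b h1) (by rw [hyc]; exact hc c hgc))
    rw [hy1, one_smul] at hyc
    exact hqc (smul_left_cancel l (hlq.trans hyc))
  · intro N hN htr
    refine ⟨a, fun h => ?_⟩
    rcases IsSimpleGroup.eq_bot_or_eq_top_of_normal N hN with rfl | rfl
    · obtain ⟨g, hg⟩ := htr.exists_smul_eq a (t • a)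
      rw [Subgroup.mem_bot.1 g.2 |> fun e => Subtype.ext (p := (· ∈ (⊥ : Subgroup S.L))) (a2 := 1) e,
        one_smul] at hg
      exact b_ne S.setup hg.symm
    · have : (⟨⟨k, S.K_le_L hk⟩, Subgroup.mem_top _⟩ : (⊤ : Subgroup S.L)) ∈
          stabilizer (⊤ : Subgroup S.L) a := hka
      rw [h] at this
      have h' := congrArg (fun z : (⊤ : Subgroup S.L) => ((z : S.L) : G)) (Subgroup.mem_bot.1 this)
      exact hk1 h'

end Data

end CfsgLib.Recog.RankOneSuzuki
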