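import Cfsg.Prelude.Def_LieExceptional
import Cfsg.Agent.BN.Parabolic
import Cfsg.Agent.Recog.RankOneSuzuki.Sat.End
import Cfsg.Agent.Recog.RankOneSuzuki.Corollaries

/-!
# Strongly split (B, N)-pairs of rank one of odd index in simple groups
-/

set_option autoImplicit false
set_option linter.unusedSectionVars false
set_option linter.style.haveILetI false

namespace CfsgLib.Recog.RankOneSuzuki.SplitBN

open Subgroup MulAction CfsgLib.Recog.RankOneSuzuki.Sat

universe u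

variable {G : Type u} [Group G] [Finite G]

/-- The elements of two-power order of a finite nilpotent subgroup. -/
theorem exists_twoPart (U : Subgroup G) (hU : Group.IsNilpotent U) :
    ∃ P : Subgroup G, IsPGroup 2 P ∧ P ≤ U ∧ ∀ g ∈ U, Two g → g ∈ P := by
  haveI : Fact (Nat.Prime 2) := ⟨Nat.prime_two⟩
  haveI := hU
  obtain ⟨Q⟩ : Nonempty (Sylow 2 U) := inferInstance
  haveI : (Q : Subgroup U).Normal := Sylow.normal_of_normalizerCondition Group.normalizerCondition_of_isNilpotent Q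
  haveI := Sylow.unique_of_normal Q inferInstance
  refine ⟨(Q : Subgroup U).map U.subtype, Q.isPGroup'.map _, map_subtype_le _, fun g hg h2 => ?_⟩
  obtain ⟨k, hk⟩ := h2
  have hp : IsPGroup 2 (zpowers (⟨g, hg⟩ : U)) := by
    rintro ⟨_, m, rfl⟩
    refine ⟨k, Subtype.ext (Subtype.ext ?_)⟩
    show (g ^ m) ^ 2 ^ k = 1
    rw [← zpow_natCast, ← zpow_mul, mul_comm, zpow_mul, zpow_natCast, hk, one_zpow]
  obtain ⟨R, hR⟩ := hp.exists_le_sylow
  rw [Subsingleton.elim R Q] at hR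
  exact ⟨_, hR (mem_zpowers _), rfl⟩

/-- Strongly split rank one (B, N)-pairs of simple groups, from the rank one theorem. -/
theorem split_bnPair (hT : Coroll.RankOneTheorem.{u}) [IsSimpleGroup G]
    (P : Cfsg.BNPair G) (hrank : P.rank = 1) (U : Subgroup G) (hUB : U ≤ P.B)
    (hUn : (U.subgroupOf P.B).Normal) (hUnil : Group.IsNilpotent U) (hsplit : U ⊔ (P.B ⊓ P.N) = P.B)
    (hind : Odd P.B.index) (hH : Odd (Nat.card ↥(P.B ⊓ P.N))) :
    (∃ (F : Type) (_ : Field F) (_ : Fintype F), (∃ n : ℕ, Fintype.card F = 2 ^ n) ∧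
        Nonempty (G ≃* Matrix.ProjectiveSpecialLinearGroup (Fin 2) F)) ∨
      Cfsg.IsSuzuki G ∨
      (∃ (F : Type) (_ : Field F) (_ : Fintype F) (n : ℕ), 2 ≤ n ∧ Fintype.card F = (2 ^ n) ^ 2 ∧
        Nonempty (G ≃* Cfsg.PSU 3 F (2 ^ n))) := by
  classical
  haveI : Fact (Nat.Prime 2) := ⟨Nat.prime_two⟩
  obtain ⟨s, hs, hcover⟩ := CfsgLib.BN.rank_one_elems P hrank
  set B := P.B with hB
  set H := P.B ⊓ P.N with hHdef
  have hsB : s ∉ B := fun h => P.conj_ne s hs (Set.Subset.antisymm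
    (by rintro _ ⟨x, hx, rfl⟩; exact mul_mem (mul_mem h hx) h)
    fun x hx => ⟨s⁻¹ * x * s⁻¹, mul_mem (mul_mem (inv_mem h) hx) (inv_mem h), by group⟩)
  have hnorm : ∀ g ∈ B, ∀ u ∈ U, g * u * g⁻¹ ∈ U := fun g hg u hu =>
    hUn.conj_mem ⟨u, hUB hu⟩ hu ⟨g, hg⟩
  have hHs : ∀ h ∈ H, s⁻¹ * h * s ∈ B := fun h hh => by
    simpa using P.conj_mem s⁻¹ (inv_mem (P.subset hs)) h hh
  have hdec : ∀ g ∈ B, ∃ u ∈ U, ∃ h ∈ H, g = u * h := by
    intro g hg
    rw [← hsplit, sup_eq_closure] at hg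
    refine closure_induction (p := fun g _ => ∃ u ∈ U, ∃ h ∈ H, g = u * h) ?_ ?_ ?_ ?_ hg
    · rintro g (hg | hg)
      exacts [⟨g, hg, 1, one_mem _, (mul_one g).symm⟩, ⟨1, one_mem _, g, hg, (one_mul g).symm⟩]
    · exact ⟨1, one_mem _, 1, one_mem _, (one_mul 1).symm⟩
    · rintro _ _ - - ⟨u, hu, h, hh, rfl⟩ ⟨u', hu', h', hh', rfl⟩
      exact ⟨u * (h * u' * h⁻¹), mul_mem hu (hnorm h hh.1 u' hu'), h * h', mul_mem hh hh', by group⟩
    · rintro _ - ⟨u, hu, h, hh, rfl⟩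
      exact ⟨h⁻¹ * u⁻¹ * h⁻¹⁻¹, hnorm _ (inv_mem hh.1) _ (inv_mem hu), h⁻¹, inv_mem hh, by group⟩
  have hout : ∀ g ∉ B, ∃ u ∈ U, ∃ c ∈ B, g = u * s * c := by
    intro g hg
    obtain ⟨x, hx, c, hc, rfl⟩ := (CfsgLib.BN.mem_cosetOf P).1 ((hcover g).resolve_left hg)
    obtain ⟨u, hu, h, hh, rfl⟩ := hdec x hx
    exact ⟨u, hu, s⁻¹ * h * s * c, mul_mem (hHs h hh) hc, by group⟩
  -- the action
  set a : G ⧸ B := ((1 : G) : G ⧸ B) with ha
  set b : G ⧸ B := (s : G ⧸ B) with hb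
  have smk : ∀ g x : G, g • (x : G ⧸ B) = ((g * x : G) : G ⧸ B) := fun g x => rfl
  have hfixa : ∀ g : G, g • a = a ↔ g ∈ B := fun g => by
    rw [ha, smk, mul_one, eq_comm, QuotientGroup.eq, inv_one, one_mul]
  have htrans : ∀ x : G ⧸ B, x ≠ a → ∃ u ∈ U, u • b = x := by
    intro x hx
    obtain ⟨g, rfl⟩ := QuotientGroup.mk_surjective x
    obtain ⟨u, hu, c, hc, rfl⟩ := hout g (fun hg => hx (by
      rw [ha, QuotientGroup.eq, mul_one]; exact inv_mem hg))
    exact ⟨u, hu, by rw [hb, smk, QuotientGroup.eq, inv_mul_cancel_left]; exact hc⟩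
  have htwo : ∀ {x y : G ⧸ B}, x ≠ y → ∃ g : G, g • a = x ∧ g • b = y := by
    intro x y hxy
    obtain ⟨p, rfl⟩ := QuotientGroup.mk_surjective x
    obtain ⟨q, rfl⟩ := QuotientGroup.mk_surjective y
    obtain ⟨u, hu, c, hc, he⟩ := hout (p⁻¹ * q) fun h => hxy (QuotientGroup.eq.2 h)
    refine ⟨p * u, ?_, ?_⟩
    · rw [ha, smk, mul_one, QuotientGroup.eq, show (p * u)⁻¹ * p = u⁻¹ by group]; exact inv_mem (hUB hu)
    · rw [hb, smk, QuotientGroup.eq, show (p * u * s)⁻¹ * q = (u * s)⁻¹ * (p⁻¹ * q) by group, he,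
        inv_mul_cancel_left]
      exact hc
  have hHfix : ∀ g ∈ H, g • a = a ∧ g • b = b := fun g hg => ⟨(hfixa g).2 hg.1, by
    rw [hb, smk, QuotientGroup.eq, mul_inv_rev, mul_assoc]
    simpa [mul_assoc] using hHs g⁻¹ (inv_mem hg)⟩
  have hab : a ≠ b := fun e => hsB (by simpa [ha, hb, QuotientGroup.eq] using e)
  haveI : FaithfulSMul G (G ⧸ B) := Coroll.faithful_of_simple fun e => hsB (e ▸ Subgroup.mem_top s)
  obtain ⟨Q, hQ, hQU, hQmem⟩ := exists_twoPart U hUnil
  have hQB : ∀ g : G, g • a = a → Two g → g ∈ Q := by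
    intro g hg h2
    refine hQmem g ?_ h2
    obtain ⟨u, hu, h, hh, he⟩ := hdec g ((hfixa g).1 hg)
    have key : ∀ k : ℕ, ∃ w ∈ U, g ^ k = w * h ^ k := by
      intro k
      induction k with
      | zero => exact ⟨1, one_mem _, by simp⟩
      | succ k ih =>
        obtain ⟨w, hw, hwk⟩ := ih
        refine ⟨w * (h ^ k * u * (h ^ k)⁻¹), mul_mem hw (hnorm _ (pow_mem hh.1 k) u hu), ?_⟩
        rw [pow_succ, hwk, he, pow_succ]; group
    obtain ⟨w, hw, hwm⟩ := key (Nat.card H)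
    have h1 : h ^ Nat.card H = 1 := congrArg Subtype.val (pow_card_eq_one' (x := (⟨h, hh⟩ : H)))
    rw [h1, mul_one] at hwm
    obtain ⟨k, hk⟩ := h2
    obtain ⟨β, hβ1, hβ2⟩ := Nat.chineseRemainder ((Nat.coprime_two_left.2 hH).pow_left k) 1 0
    obtain ⟨j, hj⟩ := Nat.modEq_zero_iff_dvd.1 hβ2
    have hgβ : g ^ β = g := by
      conv_rhs => rw [← pow_one g]
      rw [pow_eq_pow_iff_modEq]
      exact hβ1.of_dvd (orderOf_dvd_of_pow_eq_one hk)
    rw [← hgβ, hj, pow_mul, hwm]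
    exact pow_mem hw j
  -- the two point stabiliser has odd order
  have hfree : ∀ g : G, Two g → g • a = a → g • b = b → g = 1 := by
    intro g h2 hga hgb
    by_contra h1
    exact Cfg.false
      { a := a, b := b, hne := hab, two := htwo, P := Q, pP := hQ
        P_fix := fun x hx => (hfixa x).2 (hUB (hQU hx))
        P_mem := hQB, U := U
        U_fix := fun x hx => (hfixa x).2 (hUB hx)
        U_normal := fun x hx => hnorm x ((hfixa x).1 hx)
        U_nil := hUnil, P_le := hQU, U_trans := htrans, H₀ := H, H_fix := hHfix, H_odd := hH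
        decomp := fun x hx => hdec x ((hfixa x).1 hx)
        n_odd := by rw [← Subgroup.index_eq_card]; exact hind
        hT := ⟨g, hQB g hga h2, h1, hgb⟩ }
  have heven : Even (Nat.card G) := by
    rw [← Nat.not_odd_iff_even]
    intro ho
    obtain ⟨l, hl⟩ := ho.of_dvd_nat (orderOf_dvd_natCard s)
    refine hsB ?_
    have h1 : s = (s * s) ^ (l + 1) := by
      rw [← pow_two, ← pow_mul, show 2 * (l + 1) = 1 + (2 * l + 1) by ring, ← hl, pow_add, pow_orderOf_eq_one,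
        mul_one, pow_one]
    rw [h1]
    exact pow_mem (P.sq_mem s hs) _
  have hBeven : Even (Nat.card B) := by
    have h := heven
    rw [← B.card_mul_index, Nat.even_mul] at h
    exact h.resolve_right (Nat.not_even_iff_odd.2 hind)
  have hSE : Cfsg.IsStronglyEmbedded B := by
    refine ⟨fun e => hsB (e ▸ Subgroup.mem_top s), hBeven, fun g hg => ?_⟩
    rw [← Nat.not_even_iff_odd, even_iff_two_dvd]
    intro h2
    obtain ⟨w', hw'⟩ := exists_prime_orderOf_dvd_card' 2 h2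
    obtain ⟨hw1, y, hy, hyw⟩ := w'.2
    have hw : orderOf (w' : G) = 2 := by rw [Subgroup.orderOf_coe, hw']
    generalize (w' : G) = w at hw hw1 hyw
    have hne : a ≠ g • a := fun e => hg ((hfixa g).1 e.symm)
    obtain ⟨k, hka, hkb⟩ := htwo hne
    have hwa : w • a = a := (hfixa w).2 hw1
    have hwg : w • g • a = g • a := by
      rw [← hyw]
      show (g * y * g⁻¹) • g • a = g • a
      rw [mul_smul, mul_smul, inv_smul_smul, (hfixa y).2 hy]
    have hww : w * w = 1 := by rw [← pow_two, ← hw]; exact pow_orderOf_eq_one w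
    have h1 := hfree (k⁻¹ * w * k⁻¹⁻¹) (two_conj k⁻¹ (two_of_mul_self hww))
      (by rw [inv_inv, mul_smul, mul_smul, hka, hwa, inv_smul_eq_iff, hka])
      (by rw [inv_inv, mul_smul, mul_smul, hkb, hwg, inv_smul_eq_iff, hkb])
    have : w = 1 := conj_eq_one_iff.1 h1
    simp [this] at hw
  have hO : Cfsg.oddCore B = ⊥ := by
    have h := CfsgLib.Bender.Core.oddCore_le B hSE
    have hG : Cfsg.oddCore G = ⊥ := by
      refine ((inferInstance : (Cfsg.oddCore G).Normal)).eq_bot_or_eq_top.resolve_right fun e => ?_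
      have h' : Odd (Nat.card G) := by
        have := CfsgLib.LocalB.odd_card_oddCore (H := G)
        rwa [e, Nat.card_congr Subgroup.topEquiv.toEquiv] at this
      exact Nat.not_even_iff_odd.2 h' heven
    rw [hG, le_bot_iff, Subgroup.map_eq_bot_iff_of_injective _ (subtype_injective _)] at h
    exact h
  have hUQ : U ≤ Q := by
    refine CfsgLib.FGSA.le_of_prime_power_mem fun r hr x hx hxk => ?_
    obtain ⟨k, hk⟩ := hxk
    rcases eq_or_ne r 2 with rfl | hr2
    · exact hQmem x hx ⟨k, by rw [← hk, pow_orderOf_eq_one]⟩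
    haveI : Fact r.Prime := ⟨hr⟩
    haveI := hUnil
    obtain ⟨R, hR⟩ := (IsPGroup.of_card (p := r) (n := k)
      (by rw [Nat.card_zpowers, Subgroup.orderOf_mk, hk]) : IsPGroup r (zpowers (⟨x, hx⟩ : U))).exists_le_sylow
    haveI hRn : (R : Subgroup U).Normal :=
      Sylow.normal_of_normalizerCondition Group.normalizerCondition_of_isNilpotent R
    haveI := Sylow.unique_of_normal R hRn
    have hK : ((R : Subgroup U).map U.subtype).subgroupOf B ≤ Cfsg.oddCore B := by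
      refine CfsgLib.Bender.Core.le_oddCore ⟨fun y hy g => ?_⟩ ?_
      · obtain ⟨z, hz, he⟩ := hy
        have hgz : (g : G) * z * (g : G)⁻¹ ∈ U := hnorm g g.2 z z.2
        refine ⟨⟨_, hgz⟩, ?_, by simp [← (show (z : G) = y from he)]⟩
        have hp : IsPGroup r (zpowers (⟨_, hgz⟩ : U)) := by
          obtain ⟨i, hi⟩ := R.isPGroup' ⟨z, hz⟩
          have hi' : (z : G) ^ r ^ i = 1 := congrArg (fun w : R => ((w : U) : G)) hi
          rintro ⟨_, m, rfl⟩
          refine ⟨i, Subtype.ext (Subtype.ext ?_)⟩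
          show (((g : G) * z * (g : G)⁻¹) ^ m) ^ r ^ i = 1
          rw [← zpow_natCast, ← zpow_mul, mul_comm, zpow_mul, zpow_natCast, conj_pow, hi', mul_one,
            mul_inv_cancel, one_zpow]
        obtain ⟨R', hR'⟩ := hp.exists_le_sylow
        rw [Subsingleton.elim R' R] at hR'
        exact hR' (mem_zpowers _)
      · rw [Nat.card_congr (subgroupOfEquivOfLe ((map_subtype_le _).trans hUB)).toEquiv,
          card_map_of_injective (subtype_injective _)]
        obtain ⟨j, hj⟩ := IsPGroup.iff_card.1 R.isPGroup'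
        rw [hj]
        exact (hr.odd_of_ne_two hr2).pow
    have h1 : (⟨x, hUB hx⟩ : B) ∈ Cfsg.oddCore B := hK ⟨_, hR (mem_zpowers _), rfl⟩
    rw [hO, Subgroup.mem_bot] at h1
    rw [show x = 1 from congrArg Subtype.val h1]
    exact one_mem _
  have hUreg : ∀ u ∈ U, u • b = b → u = 1 := fun u hu h => by
    obtain ⟨k, hk⟩ := hQ ⟨u, hUQ hu⟩
    exact hfree u ⟨k, congrArg Subtype.val hk⟩ ((hfixa u).2 (hUB hu)) h
  -- an involution outside `B`
  obtain ⟨z, hz⟩ := exists_prime_orderOf_dvd_card' (G := B) 2 hBeven.two_dvd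
  have hz' : orderOf (z : G) = 2 := by rw [Subgroup.orderOf_coe, hz]
  obtain ⟨t, htt, htB⟩ : ∃ t : G, t * t = 1 ∧ t ∉ B := by
    by_contra hcon
    push Not at hcon
    have hzz : (z : G) * z = 1 := by rw [← pow_two, ← hz']; exact pow_orderOf_eq_one _
    have : (z : G) = 1 := FaithfulSMul.eq_of_smul_eq_smul fun x : G ⧸ B => by
      obtain ⟨g, rfl⟩ := QuotientGroup.mk_surjective x
      have h1 := hcon (g⁻¹ * z * g) (by
        rw [show g⁻¹ * (z : G) * g * (g⁻¹ * z * g) = g⁻¹ * (z * z) * g by group, hzz]; group)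
      rw [one_smul, smk, QuotientGroup.eq]
      have := inv_mem h1
      simpa [mul_assoc] using this
    simp [this] at hz'
  have htb : ∃ u₀ ∈ U, u₀ • b = ((t : G) : G ⧸ B) := htrans _ fun e => htB (by
    rw [ha, QuotientGroup.eq, mul_one] at e; exact inv_mem_iff.1 e)
  obtain ⟨u₀, hu₀, hu₀b⟩ := htb
  have hsetup : Cfsg.IsRankOneSetup G (G ⧸ B) ((1 : G) : G ⧸ B) t U := by
    refine Coroll.setup_cosets B U t htt htB hUB hnorm ?_ ?_ (hSE.2.2 t htB) hBeven
    · intro g hg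
      obtain ⟨u, hu, hub⟩ := htrans ((g : G) : G ⧸ B) fun e => hg (by
        rw [ha, QuotientGroup.eq, mul_one] at e; exact inv_mem_iff.1 e)
      refine ⟨u * u₀⁻¹, mul_mem hu (inv_mem hu₀), QuotientGroup.eq.1 ?_⟩
      rw [← hub, show ((u * u₀⁻¹ * t : G) : G ⧸ B) = (u * u₀⁻¹) • ((t : G) : G ⧸ B) from rfl, ← hu₀b,
        mul_smul, inv_smul_smul]
    · intro u hu h
      have hut : u • ((t : G) : G ⧸ B) = ((t : G) : G ⧸ B) := by
        rw [smk, eq_comm, QuotientGroup.eq]; exact h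
      rw [← hu₀b, ← mul_smul] at hut
      have h1 := hUreg (u₀⁻¹ * u * u₀) (mul_mem (mul_mem (inv_mem hu₀) hu) hu₀) (by
        rw [mul_assoc, mul_smul, hut, inv_smul_smul])
      calc u = u₀ * (u₀⁻¹ * u * u₀) * u₀⁻¹ := by group
        _ = 1 := by rw [h1]; group
  obtain ⟨L, hLn, hLo, hL⟩ := hT hsetup (Coroll.exists_two hSE)
  rcases Coroll.conclude heven L hLn hLo hL with ⟨F, i1, i2, ⟨n, -, hn⟩, he⟩ | h
  · exact Or.inl ⟨F, i1, i2, ⟨n, hn⟩, he⟩
  · exact Or.inr h

end CfsgLib.Recog.RankOneSuzuki.SplitBN
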