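import Cfsg.Agent.Recog.RankOneSuzuki.Inversion

/-!
# Suzuki's rank one theorem: one vector for each point of the block and the cocycle of a pair
-/

set_option autoImplicit false
set_option linter.unusedSectionVars false
set_option linter.style.haveILetI false

namespace CfsgLib.Recog.RankOneSuzuki

open MulAction CfsgLib.Recog.RankOne

section Field

variable {F : Type*} [Field F] [CharP F 2] [Finite F]

/-- The square root in characteristic two. -/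
noncomputable def sqr (c : F) : F :=
  (FiniteField.isSquare_of_char_two (ringChar.eq F 2) c).choose

theorem sqr_mul (c : F) : sqr c * sqr c = c :=
  (FiniteField.isSquare_of_char_two (ringChar.eq F 2) c).choose_spec.symm

theorem eq_of_mul_self {x y : F} (h : x * x = y * y) : x = y :=
  (mul_self_eq_mul_self_iff.1 h).elim id fun h => by rw [h, CharTwo.neg_eq]

theorem sqr_scale (m c : F) : sqr (m * m * c) = m * sqr c :=
  eq_of_mul_self (by rw [sqr_mul, mul_mul_mul_comm, sqr_mul])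

theorem sqr_map (σ : F ≃+* F) (c : F) : sqr (σ c) = σ (sqr c) :=
  eq_of_mul_self (by rw [sqr_mul, ← map_mul, sqr_mul])

theorem sqr_ne {c : F} (hc : c ≠ 0) : sqr c ≠ 0 := fun h => hc (by rw [← sqr_mul c, h, mul_zero])

omit [CharP F 2] in
theorem ringAut_comm (σ τ : F ≃+* F) : σ * τ = τ * σ := by
  obtain ⟨i, hi⟩ := MonoidHom.map_cyclic (Units.map (σ.toRingHom : F →* F))
  obtain ⟨j, hj⟩ := MonoidHom.map_cyclic (Units.map (τ.toRingHom : F →* F))
  refine RingEquiv.ext fun x => ?_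
  rcases eq_or_ne x 0 with rfl | hx
  · simp
  show σ (τ x) = τ (σ x)
  have key : Units.map (σ.toRingHom : F →* F) (Units.map (τ.toRingHom : F →* F) (Units.mk0 x hx)) =
      Units.map (τ.toRingHom : F →* F) (Units.map (σ.toRingHom : F →* F) (Units.mk0 x hx)) := by
    rw [hi, hj, hi, hj, ← zpow_mul, ← zpow_mul, mul_comm]
  exact congrArg Units.val key

theorem uni_inv (c : F) : (uni c)⁻¹ = uni c :=
  inv_eq_of_mul_eq_one_right (by rw [uni_mul, CharTwo.add_self_eq_zero, uni_zero])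

end Field

variable {G Ω : Type*} [Group G] [MulAction G Ω] {a : Ω} {t : G} {Q : Subgroup G}

local notation "D[" a "," t "]" => stabilizer G a ⊓ stabilizer G (t • a)

namespace Chart

variable {S : Data a t Q} {F : Type} [Field F] [CharP F 2] (C : Chart S F)

local notation "SL₂" => Matrix.SpecialLinearGroup (Fin 2) F

theorem onB_pt₀ (l : SL₂) : C.OnB (C.pt₀ l) := ⟨_, app_ne_zero _ e1_ne, rfl⟩

theorem onB_pt₁ (l : SL₂) : C.OnB (C.pt₁ l) := ⟨_, app_ne_zero _ e2_ne, rfl⟩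

theorem el_pt₀ (l : SL₂) : C.X.el l • C.pt₀ l = a := by
  rw [pt₀, C.X.el_P _ _ (app_ne_zero _ e1_ne), app_app_inv, C.X.P_a]

theorem el_pt₁ (l : SL₂) : C.X.el l • C.pt₁ l = t • a := by
  rw [pt₁, C.X.el_P _ _ (app_ne_zero _ e2_ne), app_app_inv, C.X.P_b]

variable [Finite F]

theorem pt₁_uni (d : F) (l : SL₂) : C.pt₁ (uni d * l) = C.X.P (app l⁻¹ (d, 1)) := by
  rw [pt₁, mul_inv_rev, app_mul, uni_inv, app_uni]
  simp

variable [Finite G]

/-- The vector of a point of the block. -/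
noncomputable def vv (p : Ω) : F × F :=
  open scoped Classical in
    if h : C.OnB p then sqr (C.cc (C.exists_pt₀ h).choose) • app (C.exists_pt₀ h).choose⁻¹ (1, 0)
    else 0

theorem vv_pt₀ (l : SL₂) : C.vv (C.pt₀ l) = sqr (C.cc l) • app l⁻¹ (1, 0) := by
  rw [vv, dif_pos (C.onB_pt₀ l)]
  set l₀ := (C.exists_pt₀ (C.onB_pt₀ l)).choose with hl₀
  have hp : C.pt₀ l = C.pt₀ l₀ := ((C.exists_pt₀ (C.onB_pt₀ l)).choose_spec).symm
  obtain ⟨d, m, hm, he⟩ := C.exists_of_pt₀ hp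
  have hcc : C.cc l = m * m * C.cc l₀ := by rw [he, mul_assoc, C.cc_uni, C.cc_dia]
  have hv : app l⁻¹ (1, 0) = m⁻¹ • app l₀⁻¹ (1, 0) := by
    have h1 : app l (app l₀⁻¹ (1, 0)) = m • ((1, 0) : F × F) := by
      rw [he, app_mul, app_app_inv, app_mul, app_dia, app_uni]; simp
    rw [← app_inv_app l (app l₀⁻¹ (1, 0)), h1, app_smul, smul_smul, inv_mul_cancel₀ hm, one_smul]
  rw [hv, hcc, sqr_scale, smul_smul]
  congr 1
  field_simp

theorem vv_ne {p : Ω} (hp : C.OnB p) : C.vv p ≠ 0 := by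
  obtain ⟨l, rfl⟩ := C.exists_pt₀ hp
  rw [C.vv_pt₀]
  exact smul_ne_zero (sqr_ne (C.cc_ne l)) (app_ne_zero _ e1_ne)

theorem P_vv {p : Ω} (hp : C.OnB p) : C.X.P (C.vv p) = p := by
  obtain ⟨l, rfl⟩ := C.exists_pt₀ hp
  rw [C.vv_pt₀]
  exact (C.X.P_eq _ _ (smul_ne_zero (sqr_ne (C.cc_ne l)) (app_ne_zero _ e1_ne))
    (app_ne_zero _ e1_ne)).2 (by rw [br_smul_left, br_self, mul_zero])

/-- The transvection of a vector. -/
def tv (v w : F × F) : F × F := w + br w v • v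

theorem tv_tv (v w : F × F) : tv v (tv v w) = w := by
  unfold tv
  rw [br_add_left, br_smul_left, br_self, mul_zero, add_zero, add_assoc, ← add_smul,
    CharTwo.add_self_eq_zero, zero_smul, add_zero]

theorem tv_ne {v w : F × F} (hw : w ≠ 0) : tv v w ≠ 0 := fun h => hw (by
  rw [← tv_tv v w, h]; simp [tv, br])

theorem br_tv (v w z : F × F) : br (tv v w) (tv v z) = br w z := by
  unfold tv
  rw [br_add_left, br_add_right, br_add_right, br_smul_left, br_smul_left, br_smul_right,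
    br_smul_right, br_self, br_comm v z]
  linear_combination (br w v * br z v) * (CharTwo.two_eq_zero (R := F))

theorem tv_smul (v : F × F) (l : F) (w : F × F) : tv v (l • w) = l • tv v w := by
  unfold tv; rw [br_smul_left, smul_add, smul_smul]

/-- The image of the second point under the involution of the first. -/
noncomputable def nbp (p q : Ω) : Ω := C.X.P (tv (C.vv p) (C.vv q))

theorem nbp_P (p : Ω) {w : F × F} (hw : w ≠ 0) :
    C.nbp p (C.X.P w) = C.X.P (tv (C.vv p) w) := by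
  have hp : C.OnB (C.X.P w) := ⟨w, hw, rfl⟩
  have h := (C.X.P_eq _ w (C.vv_ne hp) hw).1 (C.P_vv hp)
  exact (C.X.P_eq _ _ (tv_ne (C.vv_ne hp)) (tv_ne hw)).2 (by rw [br_tv, h])

theorem onB_nbp {p q : Ω} (hq : C.OnB q) : C.OnB (C.nbp p q) :=
  ⟨_, tv_ne (C.vv_ne hq), rfl⟩

theorem nbp_nbp {p q : Ω} (hq : C.OnB q) : C.nbp p (C.nbp p q) = q := by
  conv_lhs => arg 3; rw [nbp]
  rw [C.nbp_P p (tv_ne (C.vv_ne hq)), tv_tv, C.P_vv hq]

theorem nbp_ne {p q : Ω} (hp : C.OnB p) (hq : C.OnB q) (hne : p ≠ q) : C.nbp p q ≠ p := fun h => by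
  have h1 := C.nbp_nbp (p := p) hq
  rw [h, nbp, show tv (C.vv p) (C.vv p) = C.vv p by simp [tv, br_self], C.P_vv hp] at h1
  exact hne h1

theorem pt₁_inv (l : SL₂) : C.pt₁ (uni (C.cc l) * l) = C.nbp (C.pt₀ l) (C.pt₁ l) := by
  rw [C.pt₁_uni, pt₁, C.nbp_P _ (app_ne_zero _ e2_ne), C.vv_pt₀]
  congr 1
  unfold tv
  rw [br_smul_right, br_app, smul_smul, mul_assoc, show br ((0, 1) : F × F) (1, 0) = 1 by simp [br],
    one_mul, sqr_mul, ← app_smul, ← app_add]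
  simp

theorem pt₀_inv (l : SL₂) : C.pt₀ (uni (C.cc l) * l) = C.pt₀ l := C.pt₀_uni _ _

/-- The field part of an element of the stabiliser of the block. -/
noncomputable def τD (h : G) : F ≃+* F :=
  open scoped Classical in if hh : h ∈ C.GB then C.τB ⟨h, hh⟩ else 1

theorem τD_eq {h : G} (hh : h ∈ C.GB) : C.τD h = C.τB ⟨h, hh⟩ := dif_pos hh

theorem τD_mul {x y : G} (hx : x ∈ C.GB) (hy : y ∈ C.GB) : C.τD (x * y) = C.τD x * C.τD y := by
  rw [C.τD_eq hx, C.τD_eq hy, C.τD_eq (mul_mem hx hy), ← C.τB_mul]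
  rfl

theorem τD_el (g : SL₂) : C.τD (C.X.el g) = 1 := by rw [C.τD_eq (C.el_mem_GB g), C.τB_el]

theorem τD_t : C.τD t = 1 := by
  have := C.τD_el swp
  rwa [C.el_swp] at this

theorem τD_inv {x : G} (hx : x ∈ C.GB) : C.τD x⁻¹ = (C.τD x)⁻¹ := by
  refine (inv_eq_of_mul_eq_one_left ?_).symm
  rw [← C.τD_mul (inv_mem hx) hx, inv_mul_cancel, ← map_one C.X.el, C.τD_el]

theorem τD_K {k : G} (hk : k ∈ S.K) : C.τD k = 1 := by
  obtain ⟨g, rfl, -⟩ := (C.X.mem_K k).1 hk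
  exact C.τD_el g

theorem τD_tdt {x : G} (hx : x ∈ C.GB) : C.τD (t * x * t) = C.τD x := by
  rw [C.τD_mul (mul_mem C.t_mem_GB hx) C.t_mem_GB, C.τD_mul C.t_mem_GB hx, C.τD_t, one_mul, mul_one]

/-- The field part of the two-point component. -/
noncomputable def θ (l : SL₂) : F ≃+* F := C.τD (C.hh l)

theorem θ_inv (l : SL₂) : C.θ (uni (C.cc l) * l) = (C.θ l)⁻¹ := by
  rw [θ, (C.decomp_inv l).2.1, C.τD_tdt (inv_mem (C.D_le_GB (C.hh_mem l))),
    C.τD_inv (C.D_le_GB (C.hh_mem l))]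
  rfl

theorem θ_swp (l : SL₂) : C.θ (swp * l) = (C.θ l)⁻¹ := by
  rw [θ, C.hh_swp, C.τD_inv (C.D_le_GB (C.hh_mem l))]
  rfl

theorem θ_dia {m : F} (hm : m ≠ 0) (l : SL₂) : C.θ (dia m hm * l) = C.θ l := by
  have hk := C.el_mem_GB (dia m hm)
  have hh := C.D_le_GB (C.hh_mem l)
  rw [θ, C.hh_dia, C.τD_mul (mul_mem (inv_mem hk) hh) (inv_mem hk), C.τD_mul (inv_mem hk) hh,
    C.τD_inv hk, C.τD_el, inv_one, one_mul, mul_one]
  rfl

theorem θ_uni {b : F} (hb : b ≠ 0) (l : SL₂) :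
    C.θ (uni b * l) = C.θ l * (C.θ (uni b⁻¹ * (swp * (uni (C.cc l) * l))))⁻¹ := by
  have hm := sqr_ne hb
  obtain ⟨k, hk, he⟩ := C.hh_uni hm l
  rw [sqr_mul, ← mul_inv, sqr_mul] at he
  have hh := C.D_le_GB (C.hh_mem l)
  have hh' := fun l' => C.D_le_GB (C.hh_mem l')
  rw [θ, he, C.τD_mul (mul_mem hh (hh' _)) (C.D_le_GB (S.K_le hk)), C.τD_mul hh (hh' _),
    C.τD_K hk, mul_one]
  congr 1
  rw [← C.θ_inv, C.cc_uni]
  show C.θ _ = _
  congr 1
  rw [← mul_assoc, ← mul_assoc (uni (C.cc _)), uni_mul, uni_mul, add_comm]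

/-- The field part of a pair. -/
noncomputable def Θ (p q : Ω) : F ≃+* F :=
  open scoped Classical in
    if h : ∃ l : SL₂, C.pt₀ l = p ∧ C.pt₁ l = q then C.θ h.choose else 1

theorem Θ_pt (l : SL₂) : C.Θ (C.pt₀ l) (C.pt₁ l) = C.θ l := by
  have h : ∃ l' : SL₂, C.pt₀ l' = C.pt₀ l ∧ C.pt₁ l' = C.pt₁ l := ⟨l, rfl, rfl⟩
  rw [Θ, dif_pos h]
  obtain ⟨m, hm, he⟩ := C.exists_of_pair h.choose_spec.1 h.choose_spec.2
  rw [he, C.θ_dia hm]

theorem Θ_swap {p q : Ω} (hp : C.OnB p) (hq : C.OnB q) (hne : p ≠ q) : C.Θ q p = (C.Θ p q)⁻¹ := by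
  obtain ⟨l, rfl, rfl⟩ := C.exists_pair_pt hp hq hne
  rw [C.Θ_pt, ← C.θ_swp, ← C.Θ_pt, C.pt₀_swp, C.pt₁_swp]

theorem Θ_nbp {p q : Ω} (hp : C.OnB p) (hq : C.OnB q) (hne : p ≠ q) :
    C.Θ p (C.nbp p q) = (C.Θ p q)⁻¹ := by
  obtain ⟨l, rfl, rfl⟩ := C.exists_pair_pt hp hq hne
  rw [C.Θ_pt, ← C.θ_inv, ← C.Θ_pt, C.pt₀_inv, C.pt₁_inv]

theorem Θ_cocycle {u x y : Ω} (hu : C.OnB u) (hx : C.OnB x) (hy : C.OnB y) (hux : u ≠ x)
    (hxy : x ≠ y) (huy : u ≠ y) : C.Θ u y = C.Θ x y * C.Θ u x := by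
  obtain ⟨l, hl₀, hl₁⟩ :=
    C.exists_pair_pt hu (C.onB_nbp (p := u) hx) (C.nbp_ne hu hx hux).symm
  obtain ⟨w, hw, hwz⟩ := C.onB_nbp (p := u) hy
  have hz0 : (app l w).2 ≠ 0 := by
    intro h0
    refine C.nbp_ne hu hy huy ?_
    rw [← hwz, ← hl₀]
    exact (C.X.P_eq _ _ hw (app_ne_zero _ e1_ne)).2 (by
      rw [← br_app l, app_app_inv]; simp [br, h0])
  have hz1 : (app l w).1 ≠ 0 := by
    intro h1
    have e : C.nbp u y = C.nbp u x := by
      rw [← hwz, ← hl₁]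
      exact (C.X.P_eq _ _ hw (app_ne_zero _ e2_ne)).2 (by
        rw [← br_app l, app_app_inv]; simp [br, h1])
    apply hxy
    rw [← C.nbp_nbp (p := u) hx, ← e, C.nbp_nbp hy]
  set b := (app l w).1 / (app l w).2 with hb
  have hb0 : b ≠ 0 := div_ne_zero hz1 hz0
  have hL0 : C.pt₀ (uni b * l) = u := by rw [C.pt₀_uni, hl₀]
  have hL1 : C.pt₁ (uni b * l) = C.nbp u y := by
    rw [C.pt₁_uni, ← hwz]
    refine (C.X.P_eq _ _ (app_ne_zero _ fun h => one_ne_zero (α := F) (congrArg Prod.snd h)) hw).2 ?_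
    rw [← br_app l, app_app_inv, hb]
    simp [br]
    field_simp
    rw [CharTwo.add_self_eq_zero, mul_zero]
  set L' := uni b⁻¹ * (swp * (uni (C.cc l) * l)) with hL'
  have hM0 : C.pt₀ L' = x := by
    rw [hL', C.pt₀_uni, C.pt₀_swp, C.pt₁_inv, hl₀, hl₁, C.nbp_nbp hx]
  have hM1 : C.pt₁ L' = y := by
    rw [← C.nbp_nbp (p := u) hy, ← hL1]
    conv_rhs => rw [← hL0]
    rw [← C.pt₁_inv, C.cc_uni, ← mul_assoc, uni_mul, C.pt₁_uni, C.pt₁_uni, mul_inv_rev,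
      app_mul, mul_inv_rev, app_mul, inv_eq_of_mul_eq_one_right swp_swp, app_swp, uni_inv, app_uni]
    refine (C.X.P_eq _ _ (app_ne_zero _ ?_) (app_ne_zero _ ?_)).2 ?_
    · exact fun h => inv_ne_zero hb0 (congrArg Prod.snd h)
    · exact fun h => one_ne_zero (α := F) (congrArg Prod.snd h)
    · rw [br_app]
      simp [br]
      field_simp
      rw [add_comm b, CharTwo.add_self_eq_zero]
      simp
  have hA := C.θ_uni hb0 l
  rw [← hL', ← C.Θ_pt (uni b * l), hL0, hL1, ← C.Θ_pt l, hl₀, hl₁, ← C.Θ_pt L', hM0, hM1,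
    C.Θ_nbp hu hy huy, C.Θ_nbp hu hx hux, ← mul_inv_rev] at hA
  exact inv_injective hA

end Chart

end CfsgLib.Recog.RankOneSuzuki
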